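import Cfsg.Agent.LargeExtra.Enum9.Step

/-!
# S1763, case II, type (B): the ten configurations (helper268)

`enum`: in the situation `BFam` there is a frame with one of the ten matrices `matPO83`, `matOplus`, ... and
the opposite points of the orbit lie in the list `lmPO83`, ...
-/

set_option autoImplicit false
set_option maxRecDepth 100000

namespace Cfsg.Agent.LargeExtra.Enum9

theorem cvOplus_31 : (allN 8 fun k => Nat.beq (col 0xaadba5dd66a02fff k) (conv (col 0xaa425a22660a02ff k) 31)) = true := by decide +kernel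

theorem mvOplus_31 : Nat.beq (T0.evw3 idM matOplus 0xaadba5dd66a02fff 8 17577 255) 25 = true := by decide +kernel

theorem cvOplus_55 : (allN 8 fun k => Nat.beq (col 0x69e799485af63bff k) (conv (col 0x964266125a0602ff k) 55)) = true := by decide +kernel

theorem mvOplus_55 : Nat.beq (T0.evw3 idM matOplus 0x69e799485af63bff 8 2729 255) 25 = true := by decide +kernel

theorem cvOplus_61 : (allN 8 fun k => Nat.beq (col 0x668296ddaaf93eff k) (conv (col 0x66829622aa0602ff k) 61)) = true := by decide +kernel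

theorem mvOplus_61 : Nat.beq (T0.evw3 idM matOplus 0x668296ddaaf93eff 8 17449 255) 25 = true := by decide +kernel

theorem cvD4_31 : (allN 8 fun k => Nat.beq (col 0xf4f2f88ff14f2fff k) (conv (col 0x40208008100402ff k) 31)) = true := by decide +kernel

theorem mvD4_31 : Nat.beq (T4.evw3 idM matD4 0xf4f2f88ff14f2fff 8 339 255) 107 = true := by decide +kernel

theorem cvD4_55 : (allN 8 fun k => Nat.beq (col 0xecb373cedccd3bff k) (conv (col 0x80201008400402ff k) 55)) = true := by decide +kernel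

theorem mvD4_55 : Nat.beq (T4.evw3 idM matD4 0xecb373cedccd3bff 8 7785 255) 107 = true := by decide +kernel

theorem cvD4_61 : (allN 8 fun k => Nat.beq (col 0xbcd37ccbe3c73eff k) (conv (col 0x80104008200402ff k) 61)) = true := by decide +kernel

theorem mvD4_61 : Nat.beq (T4.evw3 idM matD4 0xbcd37ccbe3c73eff 8 466 255) 107 = true := by decide +kernel

theorem cvD4_87 : (allN 8 fun k => Nat.beq (col 0x75eabaaed55dabff k) (conv (col 0x10802008400402ff k) 87)) = true := by decide +kernel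

theorem mvD4_87 : Nat.beq (T4.evw3 idM matD4 0x75eabaaed55dabff 8 370 255) 107 = true := by decide +kernel

theorem cvD4_91 : (allN 8 fun k => Nat.beq (col 0xb5e5daad7a5ea7ff k) (conv (col 0x10408008200402ff k) 91)) = true := by decide +kernel

theorem mvD4_91 : Nat.beq (T4.evw3 idM matD4 0xb5e5daad7a5ea7ff 8 1769 255) 107 = true := by decide +kernel

theorem cvD4_103 : (allN 8 fun k => Nat.beq (col 0xb9e6d96e769d9bff k) (conv (col 0x20804008100402ff k) 103)) = true := by decide +kernel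

theorem mvD4_103 : Nat.beq (T4.evw3 idM matD4 0xb9e6d96e769d9bff 8 654 255) 107 = true := by decide +kernel

/-- the fourth matrix of the configuration K3 -/
def genK3 : ℕ := 0x8041211668848201

theorem cvK3_22 : (allN 8 fun k => Nat.beq (col 0x69bddb61e74929ff k) (conv (col 0x96422410180402ff k) 22)) = true := by decide +kernel

theorem wdK3_22 : (allN 8 fun k => Nat.beq (T2.evw3 idM matK3 0x69bddb61e74929ff 8 117867 (Nat.shiftLeft 1 k)) (col genK3 k)) = true := by decide +kernel

/-- the fourth matrix of the configuration Th -/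
def genTh : ℕ := 0x76b9d9e66e9d9b67

theorem cvTh_107 : (allN 8 fun k => Nat.beq (col 0x79e9b66dd69e97ff k) (conv (col 0x20401008800402ff k) 107)) = true := by decide +kernel

theorem wdTh_107 : (allN 8 fun k => Nat.beq (T4.evw3 idM matTh 0x79e9b66dd69e97ff 8 13869 (Nat.shiftLeft 1 k)) (col genTh k)) = true := by decide +kernel

theorem exc25 : (0xfaf6eedebe7e02ff : ℕ) = matPO83 := rfl

variable {V : Type*} [AddCommGroup V] [Module (ZMod 2) V]
variable {q : V → ZMod 2} {b : LinearMap.BilinForm (ZMod 2) V}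
  {H : Subgroup (V ≃ₗ[ZMod 2] V)} {a : V} {X : Subgroup (V ≃ₗ[ZMod 2] V)}

namespace PairM

variable {r : V} {x y : ℕ → (V ≃ₗ[ZMod 2] V)}

theorem resPO83 (P : PairM q b H a X T0 matPO83 r x y) : Res q b H a X T0 matPO83 lmPO83 r x y := by
  refine P.res lev0 clPO83 fun u hu => ?_
  simp only [List.mem_cons, List.not_mem_nil, or_false] at hu
  rcases hu with rfl | rfl | rfl
  · exact ⟨_, ddPO83_31⟩
  · exact ⟨_, ddPO83_55⟩
  · exact ⟨_, ddPO83_61⟩

theorem resK2 (P : PairM q b H a X T0 matK2 r x y) : Res q b H a X T0 matK2 lmK2 r x y := by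
  refine P.res lev0 clK2 fun u hu => ?_
  simp only [List.mem_cons, List.not_mem_nil, or_false] at hu
  rcases hu with rfl | rfl | rfl | rfl | rfl | rfl
  · exact ⟨_, ddK2_22⟩
  · exact ⟨_, ddK2_25⟩
  · exact ⟨_, ddK2_26⟩
  · exact ⟨_, ddK2_31⟩
  · exact ⟨_, ddK2_55⟩
  · exact ⟨_, ddK2_61⟩

theorem resK4 (P : PairM q b H a X T0 matK4 r x y) : Res q b H a X T0 matK4 lmK4 r x y := by
  refine P.res lev0 clK4 fun u hu => ?_
  simp only [List.mem_cons, List.not_mem_nil, or_false] at hu
  rcases hu with rfl | rfl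
  · exact ⟨_, ddK4_26⟩
  · exact ⟨_, ddK4_55⟩

theorem resK5 (P : PairM q b H a X T0 matK5 r x y) : Res q b H a X T0 matK5 lmK5 r x y := by
  refine P.res lev0 clK5 fun u hu => ?_
  simp only [List.mem_cons, List.not_mem_nil, or_false] at hu
  rcases hu with rfl | rfl | rfl | rfl | rfl | rfl
  · exact ⟨_, ddK5_22⟩
  · exact ⟨_, ddK5_25⟩
  · exact ⟨_, ddK5_26⟩
  · exact ⟨_, ddK5_31⟩
  · exact ⟨_, ddK5_55⟩
  · exact ⟨_, ddK5_61⟩

theorem resHN (P : PairM q b H a X T1 matHN r x y) : Res q b H a X T1 matHN lmHN r x y := by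
  refine P.res lev1 clHN fun u hu => ?_
  simp only [List.mem_cons, List.not_mem_nil, or_false] at hu
  rcases hu with rfl | rfl | rfl | rfl
  · exact ⟨_, ddHN_31⟩
  · exact ⟨_, ddHN_55⟩
  · exact ⟨_, ddHN_87⟩
  · exact ⟨_, ddHN_103⟩

theorem resOplus (P : PairM q b H a X T0 matOplus r x y) :
    Res q b H a X T0 matOplus lmOplus r x y ∨
    ∃ r' x' y', Res q b H a X T0 matPO83 lmPO83 r' x' y' := by
  by_contra hcon
  rw [not_or] at hcon
  obtain ⟨h1, h2⟩ := hcon
  have h25 : vec (fun k => x k r) 25 ∈ Orb H a → False := by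
    intro hO
    obtain ⟨z, P', -⟩ := P.next lev0 (by norm_num) (by decide +kernel) hO ddOplus_25
    exact h2 ⟨_, _, _, resPO83 P'⟩
  refine h1 ⟨P, P.closed clOplus fun u hu hu2 hpar hO => ?_⟩
  simp only [List.mem_cons, List.not_mem_nil, or_false] at hu
  rcases hu with rfl | rfl | rfl | rfl | rfl | rfl | rfl
  · exact P.dead0 lev0 hu2 hpar hO ddOplus_21
  · exact P.dead0 lev0 hu2 hpar hO ddOplus_22
  · exact h25 hO
  · exact P.dead0 lev0 hu2 hpar hO ddOplus_26
  · exact h25 (P.jump lev0 hu2 hpar hO ddOplus_31 cvOplus_31 _ _ _ mvOplus_31)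
  · exact h25 (P.jump lev0 hu2 hpar hO ddOplus_55 cvOplus_55 _ _ _ mvOplus_55)
  · exact h25 (P.jump lev0 hu2 hpar hO ddOplus_61 cvOplus_61 _ _ _ mvOplus_61)

theorem resOminus (P : PairM q b H a X T2 matOminus r x y) :
    Res q b H a X T2 matOminus lmOminus r x y ∨
    (Res q b H a X T2 matK3 lmK3 r x y ∧ Has H (fun k => x k r) genK3) := by
  by_cases h22 : vec (fun k => x k r) 22 ∈ Orb H a
  · right
    refine ⟨⟨P, P.closed clK3 fun u hu hu2 hpar hO => ?_⟩, ?_⟩
    · simp only [List.mem_cons, List.not_mem_nil, or_false] at hu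
      rcases hu with rfl | rfl | rfl | rfl | rfl | rfl
      · exact P.dead0 lev2 hu2 hpar hO ddOminus_7
      · exact P.dead0 lev2 hu2 hpar hO ddOminus_19
      · exact P.dead0 lev2 hu2 hpar hO ddOminus_21
      · exact P.dead0 lev2 hu2 hpar hO ddOminus_61
      · exact P.dead0 lev2 hu2 hpar hO ddOminus_91
      · exact P.dead0 lev2 hu2 hpar hO ddOminus_103
    · exact (P.nextThree lev2 (by norm_num) (by decide +kernel) h22 ddOminus_22 cvK3_22).has P.L
        wdK3_22
  · left
    refine ⟨P, P.closed clOminus fun u hu hu2 hpar hO => ?_⟩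
    simp only [List.mem_cons, List.not_mem_nil, or_false] at hu
    rcases hu with rfl | rfl | rfl | rfl | rfl | rfl | rfl
    · exact P.dead0 lev2 hu2 hpar hO ddOminus_7
    · exact P.dead0 lev2 hu2 hpar hO ddOminus_19
    · exact P.dead0 lev2 hu2 hpar hO ddOminus_21
    · exact h22 hO
    · exact P.dead0 lev2 hu2 hpar hO ddOminus_61
    · exact P.dead0 lev2 hu2 hpar hO ddOminus_91
    · exact P.dead0 lev2 hu2 hpar hO ddOminus_103

theorem resD4 (P : PairM q b H a X T4 matD4 r x y) :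
    Res q b H a X T4 matD4 lmD4 r x y ∨
    (Res q b H a X T4 matTh lmTh r x y ∧ Has H (fun k => x k r) genTh) := by
  by_cases h107 : vec (fun k => x k r) 107 ∈ Orb H a
  · right
    refine ⟨⟨P, P.closed clTh fun u hu hu2 hpar hO => ?_⟩, ?_⟩
    · exact absurd hu List.not_mem_nil
    · exact (P.nextThree lev4 (by norm_num) (by decide +kernel) h107 ddD4_107 cvTh_107).has P.L
        wdTh_107
  · left
    refine ⟨P, P.closed clD4 fun u hu hu2 hpar hO => ?_⟩
    simp only [List.mem_cons, List.not_mem_nil, or_false] at hu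
    rcases hu with rfl | rfl | rfl | rfl | rfl | rfl | rfl
    · exact h107 (P.jump lev4 hu2 hpar hO ddD4_31 cvD4_31 _ _ _ mvD4_31)
    · exact h107 (P.jump lev4 hu2 hpar hO ddD4_55 cvD4_55 _ _ _ mvD4_55)
    · exact h107 (P.jump lev4 hu2 hpar hO ddD4_61 cvD4_61 _ _ _ mvD4_61)
    · exact h107 (P.jump lev4 hu2 hpar hO ddD4_87 cvD4_87 _ _ _ mvD4_87)
    · exact h107 (P.jump lev4 hu2 hpar hO ddD4_91 cvD4_91 _ _ _ mvD4_91)
    · exact h107 (P.jump lev4 hu2 hpar hO ddD4_103 cvD4_103 _ _ _ mvD4_103)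
    · exact h107 hO

end PairM

/-- the ten configurations -/
inductive Ten (q : V → ZMod 2) (b : LinearMap.BilinForm (ZMod 2) V)
    (H : Subgroup (V ≃ₗ[ZMod 2] V)) (a : V) (X : Subgroup (V ≃ₗ[ZMod 2] V)) (r : V)
    (x y : ℕ → (V ≃ₗ[ZMod 2] V)) : Prop
  | PO83 : Res q b H a X T0 matPO83 lmPO83 r x y → Ten q b H a X r x y
  | Oplus : Res q b H a X T0 matOplus lmOplus r x y → Ten q b H a X r x y
  | K2 : Res q b H a X T0 matK2 lmK2 r x y → Ten q b H a X r x y
  | K4 : Res q b H a X T0 matK4 lmK4 r x y → Ten q b H a X r x y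
  | K5 : Res q b H a X T0 matK5 lmK5 r x y → Ten q b H a X r x y
  | HN : Res q b H a X T1 matHN lmHN r x y → Ten q b H a X r x y
  | Ominus : Res q b H a X T2 matOminus lmOminus r x y → Ten q b H a X r x y
  | K3 : Res q b H a X T2 matK3 lmK3 r x y → Has H (fun k => x k r) genK3 → Ten q b H a X r x y
  | D4 : Res q b H a X T4 matD4 lmD4 r x y → Ten q b H a X r x y
  | Th : Res q b H a X T4 matTh lmTh r x y → Has H (fun k => x k r) genTh → Ten q b H a X r x y

/-- THE ENUMERATION -/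
theorem enum (F : BFam q b H a X) : ∃ r x y, Ten q b H a X r x y := by
  obtain ⟨r, T, hT, x, L⟩ := F.exists_lab
  simp only [List.mem_cons, List.not_mem_nil, or_false] at hT
  rcases hT with rfl | rfl | rfl | rfl | rfl
  · obtain ⟨M, hM, y, P⟩ := L.pair lev0
    obtain ⟨M', hM', x', y', P'⟩ := PairM.relabel_all rel0 hM P
    simp only [List.mem_cons, List.not_mem_nil, or_false] at hM'
    rcases hM' with rfl | rfl | rfl | rfl | rfl
    · exact ⟨_, _, _, .PO83 P'.resPO83⟩
    · rcases P'.resOplus with h | ⟨_, _, _, h⟩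
      · exact ⟨_, _, _, .Oplus h⟩
      · exact ⟨_, _, _, .PO83 h⟩
    · exact ⟨_, _, _, .K2 P'.resK2⟩
    · exact ⟨_, _, _, .K4 P'.resK4⟩
    · exact ⟨_, _, _, .K5 P'.resK5⟩
  · obtain ⟨M, hM, y, P⟩ := L.pair lev1
    obtain ⟨M', hM', x', y', P'⟩ := PairM.relabel_all rel1 hM P
    rw [List.mem_singleton] at hM'
    subst hM'
    exact ⟨_, _, _, .HN P'.resHN⟩
  · obtain ⟨M, hM, y, P⟩ := L.pair lev2
    obtain ⟨M', hM', x', y', P'⟩ := PairM.relabel_all rel2 hM P
    rw [List.mem_singleton] at hM'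
    subst hM'
    rcases P'.resOminus with h | ⟨h, h'⟩
    · exact ⟨_, _, _, .Ominus h⟩
    · exact ⟨_, _, _, .K3 h h'⟩
  · exact (not_T3 L).elim
  · obtain ⟨M, hM, y, P⟩ := L.pair lev4
    obtain ⟨M', hM', x', y', P'⟩ := PairM.relabel_all rel4 hM P
    rw [List.mem_singleton] at hM'
    subst hM'
    rcases P'.resD4 with h | ⟨h, h'⟩
    · exact ⟨_, _, _, .D4 h⟩
    · exact ⟨_, _, _, .Th h h'⟩

end Cfsg.Agent.LargeExtra.Enum9
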