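import Cfsg.Agent.LargeExtra.Enum9.Relabel
import Cfsg.Agent.LargeExtra.Tri.CaseTwo

/-!
# S1763, case II, type (B): the instance `BFam` of a pair (helper73)
-/

set_option autoImplicit false

namespace Cfsg.Agent.LargeExtra.Enum9.Inst

open Cfsg.Agent.Co2Type.Quad Cfsg.Agent.LargeExtra.Base Cfsg.Agent.LargeExtra.Siegel
open Cfsg.Agent.LargeExtra.SiegFam.Inst Cfsg.Agent.LargeExtra.Tri.FreeMod

variable {G : Type*} [Group G] {Q A : Subgroup G} {z a : G}

/-- the numbering of `p.X` by numbers -/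
noncomputable def num {M : Type*} [One M] (x : Fin 8 → M) (k : ℕ) : M :=
  if h : k < 8 then x ⟨k, h⟩ else 1

theorem num_lt {M : Type*} [One M] (x : Fin 8 → M) {k : ℕ} (h : k < 8) : num x k = x ⟨k, h⟩ := by
  rw [num, dif_pos h]

/-- **the instance** -/
theorem bFam [Finite G] (p : Pair Q z A a) (hQ : Nat.card Q = 2 ^ 9) (hirr : Irr p)
    {x : Fin 8 → (p.lz.V ≃ₗ[ZMod 2] p.lz.V)} (F : Free p x) :
    BFam p.lz.q p.lz.b p.H p.va p.X where
  card := Tri.CaseTwo.card_V p.lz hQ
  q_add := p.lz.q_add'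
  q_H := fun h hh v => H_le_O p hh v
  q_a := q_va p
  a_ne := p.va_ne
  X_le := p.X_le_H
  X_norm := fun h hh ha f hf => p.X_normal hh ha hf
  lab := by
    refine ⟨num x, ?_, ?_, ?_, ?_⟩
    · intro k hk
      rw [num_lt x hk]
      exact F.mem _
    · intro f hf
      obtain ⟨i, hi⟩ := F.all f hf
      exact ⟨i, i.2, by rw [num_lt x i.2]; exact hi.symm⟩
    · intro j hj k hk
      have hjk : Nat.xor j k < 8 := Nat.xor_lt_two_pow (n := 3) hj hk
      rw [num_lt x hj, num_lt x hk, num_lt x hjk, F.mul]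
      congr 1
      apply Fin.ext
      show Nat.xor j k = (Nat.xor j k) % 8
      rw [Nat.mod_eq_of_lt hjk]
    · intro v hv
      rw [vec_full_sum, Finset.sum_range]
      have h1 := F.norm v
      rw [hv, one_smul] at h1
      rw [← h1]
      refine Finset.sum_congr rfl fun i _ => ?_
      show num x (i : ℕ) v = x i v
      rw [num_lt x i.2]
  opp := exists_not_perp p hirr

end Cfsg.Agent.LargeExtra.Enum9.Inst
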