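import Cfsg.Agent.LargeExtra.Enum9.Final
import Cfsg.Agent.LargeExtra.Enum9.Enum
import Cfsg.Agent.LargeExtra.Enum9.Inst

/-!
# S1763, case II, type (B): one of the ten configurations (helper73)
-/

set_option autoImplicit false
set_option maxRecDepth 100000

namespace Cfsg.Agent.LargeExtra.Enum9.TenConf

open Cfsg.Agent.Co2Type.Quad Cfsg.Agent.LargeExtra.Base Cfsg.Agent.LargeExtra.SiegFam.Inst
open Cfsg.Agent.LargeExtra.Tri.FreeMod Cfsg.Agent.LargeExtra.Enum9.Last
open Cfsg.Agent.LargeExtra.Enum9.LastData Cfsg.Agent.LargeExtra.Enum9.Final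
open Cfsg.Agent.LargeExtra.Nine (Coord IsConf confPO83 confOplus confOminus confD4 confHN confTh
  confK2 confK3 confK4 confK5)

/-- coordinate change, configuration PO83 -/
def cPO83 : CDat where
  phi := 0x30d2b4507890ff10
  psi := 0x511810199a555ff
  jX := [2, 4, 7]
  jN := [5, 2, 4]
  inv := [[1, 4, 2, 14, 16, 194, 164, 128], [1, 8, 14, 2, 16, 194, 64, 104], [1, 4, 2, 9, 144, 66, 36, 128],
    [1, 2, 14, 8, 16, 104, 64, 194]]

theorem fstPO83 : k1 datPO83.T cPO83 = true := by decide +kernel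

theorem sndPO83 : k2 datPO83 cPO83 confPO83 = true := by decide +kernel

/-- coordinate change, configuration Oplus -/
def cOplus : CDat where
  phi := 0xb45030d27890ff10
  psi := 0x541210169a555ff
  jX := [2, 6, 5]
  jN := [5, 7, 3]
  inv := [[1, 4, 2, 9, 144, 66, 36, 128], [1, 2, 8, 4, 16, 32, 128, 64]]

theorem fstOplus : k1 datOplus.T cOplus = true := by decide +kernel

theorem sndOplus : k2 datOplus cOplus confOplus = true := by decide +kernel

/-- coordinate change, configuration K2 -/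
def cK2 : CDat where
  phi := 0x9078d230b450ff10
  psi := 0x810511015599a5ff
  jX := [7, 2, 4]
  jN := [2, 4, 3]
  inv := [[1, 4, 2, 9, 144, 66, 36, 128]]

theorem fstK2 : k1 datK2.T cK2 = true := by decide +kernel

theorem sndK2 : k2 datK2 cK2 confK2 = true := by decide +kernel

/-- coordinate change, configuration K4 -/
def cK4 : CDat where
  phi := 0xb450789030d2ff10
  psi := 0x11410901699955ff
  jX := [4, 6, 3]
  jN := [6, 1, 3]
  inv := []

theorem fstK4 : k1 datK4.T cK4 = true := by decide +kernel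

theorem sndK4 : k2 datK4 cK4 confK4 = true := by decide +kernel

/-- coordinate change, configuration K5 -/
def cK5 : CDat where
  phi := 0x30d2b4507890ff10
  psi := 0x511810199a555ff
  jX := [2, 4, 7]
  jN := [6, 4, 7]
  inv := []

theorem fstK5 : k1 datK5.T cK5 = true := by decide +kernel

theorem sndK5 : k2 datK5 cK5 confK5 = true := by decide +kernel

/-- coordinate change, configuration HN -/
def cHN : CDat where
  phi := 0x5890fa3c7db9db10
  psi := 0x41e7dd0166aa3cff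
  jX := [6, 7, 4]
  jN := [6, 4, 7]
  inv := [[1, 10, 12, 8, 16, 40, 64, 234]]

theorem fstHN : k1 datHN.T cHN = true := by decide +kernel

theorem sndHN : k2 datHN cHN confHN = true := by decide +kernel

/-- coordinate change, configuration Ominus -/
def cOminus : CDat where
  phi := 0xfcd2507b90b73310
  psi := 0x9219501330f69ff
  jX := [3, 5, 1]
  jN := [4, 3, 6]
  inv := [[1, 2, 8, 4, 16, 32, 128, 64]]

theorem fstOminus : k1 datOminus.T cOminus = true := by decide +kernel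

theorem sndOminus : k2 datOminus cOminus confOminus = true := by decide +kernel

/-- coordinate change, configuration K3 -/
def cK3 : CDat where
  phi := 0xfcd2507b90b73310
  psi := 0x9219501330f69ff
  jX := [3, 5, 1]
  jN := [4, 3, 6]
  inv := [[1, 2, 4, 8, 18, 33, 64, 128]]

theorem fstK3 : k1 datK3.T cK3 = true := by decide +kernel

theorem sndK3 : k2 datK3 cK3 confK3 = true := by decide +kernel

/-- coordinate change, configuration D4 -/
def cD4 : CDat where
  phi := 0xf57b3fb35dd79910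
  psi := 0x6aac740196ccf0ff
  jX := [1, 2, 4]
  jN := [2, 5, 3]
  inv := [[1, 6, 10, 8, 16, 72, 104, 236]]

theorem fstD4 : k1 datD4.T cD4 = true := by decide +kernel

theorem sndD4 : k2 datD4 cD4 confD4 = true := by decide +kernel

/-- coordinate change, configuration Th -/
def cTh : CDat where
  phi := 0xf57b3fb35dd79910
  psi := 0x6aac740196ccf0ff
  jX := [1, 2, 4]
  jN := [2, 5, 3]
  inv := []

theorem fstTh : k1 datTh.T cTh = true := by decide +kernel

theorem sndTh : k2 datTh cTh confTh = true := by decide +kernel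

variable {G : Type*} [Group G] {Q A : Subgroup G} {z a : G}

/-- **the ten configurations** -/
theorem exists_conf [Finite G] (p : Pair Q z A a) (hQ : Nat.card Q = 2 ^ 9) (hirr : Irr p)
    {x : Fin 8 → (p.lz.V ≃ₗ[ZMod 2] p.lz.V)} (F : Free p x) :
    ∃ φ : Coord p.lz, IsConf p φ confPO83 ∨ IsConf p φ confOplus ∨ IsConf p φ confOminus ∨
      IsConf p φ confD4 ∨ IsConf p φ confHN ∨ IsConf p φ confTh ∨ IsConf p φ confK2 ∨
      IsConf p φ confK3 ∨ IsConf p φ confK4 ∨ IsConf p φ confK5 := by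
  obtain ⟨r, x, y, h⟩ := enum (Inst.bFam p hQ hirr F)
  have h6 : ∀ {H : Subgroup (p.lz.V ≃ₗ[ZMod 2] p.lz.V)} {e : ℕ → p.lz.V} {f : ℕ → ℕ} (i : ℕ),
      6 ≤ i → i < 6 → Has H e (f i) := fun i h1 h2 => absurd h2 (not_lt.2 h1)
  have h7 : ∀ {H : Subgroup (p.lz.V ≃ₗ[ZMod 2] p.lz.V)} {e : ℕ → p.lz.V} {f : ℕ → ℕ},
      Has H e (f 6) → ∀ i : ℕ, 6 ≤ i → i < 7 → Has H e (f i) := fun h i h1 h2 => by
    have : i = 6 := by omega
    rw [this]; exact h
  rcases h with h | h | h | h | h | h | h | ⟨h, h'⟩ | h | ⟨h, h'⟩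
  · obtain ⟨φ, hφ⟩ := isConf okPO83 fstPO83 sndPO83 rfl h h6
    exact ⟨φ, Or.inl hφ⟩
  · obtain ⟨φ, hφ⟩ := isConf okOplus fstOplus sndOplus rfl h h6
    exact ⟨φ, Or.inr (Or.inl hφ)⟩
  · obtain ⟨φ, hφ⟩ := isConf okK2 fstK2 sndK2 rfl h h6
    exact ⟨φ, Or.inr (Or.inr (Or.inr (Or.inr (Or.inr (Or.inr (Or.inl hφ))))))⟩
  · obtain ⟨φ, hφ⟩ := isConf okK4 fstK4 sndK4 rfl h h6
    exact ⟨φ, Or.inr (Or.inr (Or.inr (Or.inr (Or.inr (Or.inr (Or.inr (Or.inr (Or.inl hφ))))))))⟩
  · obtain ⟨φ, hφ⟩ := isConf okK5 fstK5 sndK5 rfl h h6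
    exact ⟨φ, Or.inr (Or.inr (Or.inr (Or.inr (Or.inr (Or.inr (Or.inr (Or.inr (Or.inr (hφ)))))))))⟩
  · obtain ⟨φ, hφ⟩ := isConf okHN fstHN sndHN rfl h h6
    exact ⟨φ, Or.inr (Or.inr (Or.inr (Or.inr (Or.inl hφ))))⟩
  · obtain ⟨φ, hφ⟩ := isConf okOminus fstOminus sndOminus rfl h h6
    exact ⟨φ, Or.inr (Or.inr (Or.inl hφ))⟩
  · obtain ⟨φ, hφ⟩ := isConf okK3 fstK3 sndK3 rfl h (h7 h')
    exact ⟨φ, Or.inr (Or.inr (Or.inr (Or.inr (Or.inr (Or.inr (Or.inr (Or.inl hφ)))))))⟩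
  · obtain ⟨φ, hφ⟩ := isConf okD4 fstD4 sndD4 rfl h h6
    exact ⟨φ, Or.inr (Or.inr (Or.inr (Or.inl hφ)))⟩
  · obtain ⟨φ, hφ⟩ := isConf okTh fstTh sndTh rfl h (h7 h')
    exact ⟨φ, Or.inr (Or.inr (Or.inr (Or.inr (Or.inr (Or.inl hφ)))))⟩

end Cfsg.Agent.LargeExtra.Enum9.TenConf
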