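import Cfsg.Agent.LargeExtra.Enum9.Check

/-!
# S1763, case II, type (B): certificates for level 1, form T0 (helper268)
-/

set_option autoImplicit false
set_option maxRecDepth 100000

namespace Cfsg.Agent.LargeExtra.Enum9

/-- the surviving pairs -/
def sv0 : List ℕ := [0xa6aac35f820fe3ff, 0xc39f6a66420fe3ff, 0x9a96c36f820fd3ff, 0xafc35a56420fd3ff, 0x9aaac3778233cbff, 0xc3b76a5a4233cbff, 0xa696c37b8233c7ff, 0xbbc366564233c7ff, 0xaaa65f33220fb3ff, 0x969a6f33120fb3ff, 0xe7aa825ac30aa2ff, 0xaab75a22330aa2ff, 0xdb968266c30692ff, 0x96bb6612330692ff, 0x9aaa770f330a8fff, 0xa6967b0f33068fff, 0xdbaa8266c3228aff, 0x9faa220f660a8aff, 0xe796825ac31286ff, 0xaf96120f5a0686ff, 0x666a9f33220f73ff, 0x5a56af33120f73ff, 0x66eb9642c30662ff, 0x667b9622330662ff, 0x5ad7aa42c30a52ff, 0x5a77aa12330a52ff, 0x6a5ab70f330a4fff, 0x5666bb0f33064fff, 0x5aeb9642c3124aff, 0x6f5a120f960a4aff, 0x66d7aa42c32246ff, 0x5f66220faa0646ff, 0x6aaad733c3223bff, 0x9a5ae733c3123bff, 0xa666db33c32237ff, 0x5696eb33c31237ff, 0x6aaad70fc30a2fff, 0xa666db0fc3062fff, 0x7baa823396222aff, 0x6faa820f960a2aff, 0xb76642335a2226ff, 0xaf66420f5a0626ff, 0x9a5ae70fc30a1fff,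 0x5696eb0fc3061fff, 0xbb5a423366121aff, 0x9f5a420f660a1aff, 0x77968233aa1216ff, 0x5f96820faa0616ff, 0xfaf6eedebe7e02ff, 0x826a9a22a60a02ff, 0x5a82aa12960a02ff, 0xaa425a22660a02ff, 0x429a6a12560a02ff, 0x66829622aa0602ff, 0x8256a6129a0602ff, 0x42a656226a0602ff, 0x964266125a0602ff]

/-- the order conditions -/
def lo0 : ℕ := 0x44422000

theorem ct0_2 : T0.chk1 sv0 lo0 2 [(250, []), (246, [(250, [])]), (238, []), (222, [(238, [(250, []), (246, [(250, [])])])]), (190, []), (170, [(246, [(238, []), (190, [])]), (222, [(250, []), (190, [])])]), (166, [(250, [(238, []), (190, [])]), (222, [(246, []), (190, [])]), (170, [(238, []), (190, [])])]), (154, [(246, [(222, []), (190, []), (166, [(222, [(190, 0)])])]), (238, [(250, []), (190, []), (166, [(250, [(190, 0)])])]), (170, [(250, []), (190, [])])]), (150, [(250, [(222, []), (190, []), (170, [(222, [(190, 0)])])]), (238, [(246, []), (190, []), (170, [(246, [(190, 0)])])]), (166, [(246, []), (190, [])]), (154, [(222, []), (190, [])])]), (130, [(250, [(190, []), (170, []), (154, [(170, [(190, 0)])])]), (246, [(190, []), (166, []), (150, [(166, [(190, 0)])])]),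 (238, [(190, []), (170, []), (166, [(170, [(190, 0)])])]), (222, [(190, []), (154, []), (150, [(154, [(190, 0)])])])]), (126, [(190, [(250, []), (246, [(250, [])]), (238, []), (222, [(238, [(250, 1190404), (246, 1)])])]), (170, [(250, []), (238, [])]), (166, [(246, []), (238, [])]), (154, [(250, []), (222, [])]), (150, [(246, []), (222, [])]), (130, [])]), (106, [(246, [(238, []), (166, []), (126, [(166, [(238, 0)])])]), (222, [(250, []), (154, []), (126, [(154, [(250, 0)])])]), (190, [(250, []), (238, []), (166, [(250, [(238, 0)])]), (154, [(238, [(250, 1190402), (166, 1190402)])])]), (170, [(250, []), (238, [])]), (150, []), (130, [(166, []), (154, [])])]), (102, [(250, [(238, []), (170, []), (126, [(170, [(238, 0)])])]), (222, [(246, []), (150, []), (126, [(150, [(246, 0)])])]), (190, [(246, []), (238, []), (170, [(246, [(238, 0)])]), (150, [(238, [(246, 1190402), (170, 1190402)])])]), (166, [(246, []), (238, [])]), (154, []), (130, [(170, []), (150, [])]), (106, [(238, []), (126, [])])]), (90, [(246, [(222, []), (150, []), (126, [(150, [(222, 0)])]), (102, [(222, [(150, 1190402), (126, 1190402)])])]),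 (238, [(250, []), (170, []), (126, [(170, [(250, 0)])]), (102, [(250, [(170, 1190402), (126, 1190402)])])]), (190, [(250, []), (222, []), (170, [(222, [(250, 0)])]), (150, [(250, [(222, 1190402), (170, 1190402)])])]), (166, []), (154, [(250, []), (222, [])]), (130, [(170, []), (150, [])]), (106, [(250, []), (126, [])])]), (86, [(250, [(222, []), (154, []), (126, [(154, [(222, 0)])]), (106, [(222, [(154, 1190402), (126, 1190402)])])]), (238, [(246, []), (166, []), (126, [(166, [(246, 0)])]), (106, [(246, [(166, 1190402), (126, 1190402)])])]), (190, [(246, []), (222, []), (166, [(222, [(246, 0)])]), (154, [(246, [(222, 1190402), (166, 1190402)])])]), (170, []), (150, [(246, []), (222, [])]), (130, [(166, []), (154, [])]), (102, [(246, []), (126, [])]), (90, [(222, []), (126, [])])]), (66, [(250, [(126, []), (106, []), (90, [(106, [(126, 0)])])]), (246, [(126, []), (102, []), (86, [(102, [(126, 0)])])]), (238, [(126, []), (106, []), (102, [(106, [(126, 0)])])]), (222, [(126, []), (90, []), (86, [(90, [(126, 0)])])]), (190, []), (170, [(102, []), (90, [])]), (166, [(106, []), (86, [])]), (154, [(106,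 []), (86, [])]), (150, [(102, []), (90, [])]), (130, [])]), (34, [(250, [(238, []), (170, []), (106, [(170, [(238, 0)])])]), (246, [(238, []), (166, []), (102, [(166, [(238, 0)])])]), (222, []), (190, [(238, []), (170, []), (166, [(170, [(238, 0)])]), (130, [(238, [(170, 1190402), (166, 1190402)])])]), (154, [(166, []), (130, []), (106, [(130, [(166, 0)])])]), (150, [(170, []), (130, []), (102, [(130, [(170, 0)])])]), (126, [(238, []), (106, []), (102, [(106, [(238, 0)])]), (66, [(238, [(106, 1190402), (102, 1190402)])])]), (90, [(170, []), (102, []), (66, [(170, [(102, 0)])])]), (86, [(166, []), (106, []), (66, [(166, [(106, 0)])])])]), (18, [(250, [(222, []), (154, []), (90, [(154, [(222, 0)])])]), (246, [(222, []), (150, []), (86, [(150, [(222, 0)])])]), (238, []), (190, [(222, []), (154, []), (150, [(154, [(222, 0)])]), (130, [(222, [(154, 1190402), (150, 1190402)])])]), (170, [(150, []), (130, []), (90, [(130, [(150, 0)])])]), (166, [(154, []), (130, []), (86, [(130, [(154, 0)])])]), (126, [(222, []), (90, []), (86, [(90, [(222, 0)])]), (66, [(222, [(90, 1190402), (86, 1190402)])])]), (106,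 [(154, []), (86, []), (66, [(154, [(86, 0)])])]), (102, [(150, []), (90, []), (66, [(150, [(90, 0)])])]), (34, [(130, []), (66, [(130, [])])])]), (10, [(246, []), (238, [(250, []), (170, []), (106, [(170, [(250, 0)])]), (34, [(250, [(170, 1190402), (106, 1190402)])])]), (222, [(250, []), (154, []), (90, [(154, [(250, 0)])]), (18, [(250, [(154, 1190402), (90, 1190402)])])]), (190, [(250, []), (170, []), (154, [(170, [(250, 0)])]), (130, [(250, [(170, 1190402), (154, 1190402)])])]), (166, [(154, []), (130, []), (106, [(130, [(154, 0)])]), (34, [(154, [(130, 1190920), (106, 1)])])]), (150, [(170, []), (130, []), (90, [(130, [(170, 0)])]), (18, [(170, [(130, 1), (90, 1190404)])])]), (126, [(250, []), (106, []), (90, [(106, [(250, 0)])]), (66, [(250, [(106, 1190402), (90, 1190402)])])]), (102, [(170, []), (90, []), (66, [(170, [(90, 0)])]), (34, [(90, [(170, 1190404), (66, 1)])])]), (86, [(154, []), (106, []), (66, [(154, [(106, 0)])]), (18, [(106, [(154, 1), (66, 1190920)])])])]), (6, [(250, []), (238, [(246, []), (166, []), (102, [(166, [(246, 0)])]), (34, [(246, [(166, 1190402), (102, 1190402)])])]),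 (222, [(246, []), (150, []), (86, [(150, [(246, 0)])]), (18, [(246, [(150, 1190402), (86, 1190402)])])]), (190, [(246, []), (166, []), (150, [(166, [(246, 0)])]), (130, [(246, [(166, 1190402), (150, 1190402)])])]), (170, [(150, []), (130, []), (102, [(130, [(150, 0)])]), (34, [(150, [(130, 1), (102, 1190916)])])]), (154, [(166, []), (130, []), (86, [(130, [(166, 0)])]), (18, [(166, [(130, 1190916), (86, 1)])])]), (126, [(246, []), (102, []), (86, [(102, [(246, 0)])]), (66, [(246, [(102, 1190402), (86, 1190402)])])]), (106, [(166, []), (86, []), (66, [(166, [(86, 0)])]), (34, [(86, [(166, 1), (66, 1190916)])])]), (90, [(150, []), (102, []), (66, [(150, [(102, 0)])]), (18, [(102, [(150, 1190916), (66, 1)])])]), (10, [(130, []), (66, [(130, [])]), (34, []), (18, [(34, [(130, 1190402), (66, 1190402)])])])])] = true := by decide +kernel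

theorem ct0_22 : T0.chk1 sv0 lo0 22 [(250, []), (238, []), (231, [(250, [(238, [])])]), (219, [(238, [(250, []), (231, [(250, [])])])]), (190, []), (183, [(250, [(238, []), (190, [])]), (219, [(231, []), (190, [])])]), (170, [(231, [(238, []), (190, [])]), (219, [(250, []), (190, [])]), (183, [(238, []), (190, [])])]), (159, [(238, [(250, []), (190, []), (183, [(250, [(190, 0)])])]), (231, [(219, []), (190, []), (183, [(219, [(190, 0)])])]), (170, [(250, []), (190, [])])]), (150, [(250, [(190, []), (170, []), (159, [(170, [(190, 0)])])]), (238, [(190, []), (183, []), (170, [(183, [(190, 0)])])]), (231, [(190, []), (183, [])]), (219, [(190, []), (159, [])])]), (130, [(250, [(219, []), (190, []), (170, [(219, [(190, 0)])])]), (238, [(231, []), (190, []), (170, [(231, [(190, 0)])])]), (183, [(231, []), (190, []), (150, [(231, [(190, 0)])])]), (159, [(219, []), (190, []), (150, [(219, [(190, 0)])])])]), (126, [(190, [(250, []), (238, []), (231, [(250, [(238, 0)])]), (219, [(238, [(250, 11696386), (231, 6183170)])])]), (183, [(238, []), (231, [])]), (170, [(250, []), (238, [])]), (159, [(250, []), (219,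 [])]), (150, []), (130, [(231, []), (219, [])])]), (119, [(250, [(238, []), (170, []), (126, [(170, [(238, 0)])])]), (219, [(231, []), (130, []), (126, [(130, [(231, 0)])])]), (190, [(238, []), (231, []), (170, [(231, [(238, 0)])]), (130, [(238, [(231, 16406786), (170, 5658882)])])]), (183, [(238, []), (231, [])]), (159, []), (150, [(170, []), (130, [])])]), (106, [(231, [(238, []), (183, []), (126, [(183, [(238, 0)])])]), (219, [(250, []), (159, []), (126, [(159, [(250, 0)])])]), (190, [(250, []), (238, []), (183, [(250, [(238, 0)])]), (159, [(238, [(250, 7895298), (183, 11950338)])])]), (170, [(250, []), (238, [])]), (150, [(183, []), (159, [])]), (130, []), (119, [(238, []), (126, [])])]), (95, [(238, [(250, []), (170, []), (126, [(170, [(250, 0)])]), (119, [(250, [(170, 11819266), (126, 21315841)])])]), (231, [(219, []), (130, []), (126, [(130, [(219, 0)])]), (119, [(219, [(130, 5527810), (126, 7633154)])])]), (190, [(250, []), (219, []), (170, [(219, [(250, 0)])]), (130, [(250, [(219, 16423170), (170, 5921026)])])]), (183, []), (159, [(250, []), (219, [])]), (150, [(170, []), (130, [])]), (106,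 [(250, []), (126, [])])]), (86, [(250, [(126, []), (106, []), (95, [(106, [(126, 0)])])]), (238, [(126, []), (119, []), (106, [(119, [(126, 0)])])]), (231, [(126, []), (119, [])]), (219, [(126, []), (95, [])]), (190, []), (183, [(106, [])]), (170, [(119, []), (95, [])]), (159, [(106, [])]), (150, []), (130, [(119, []), (95, [])])]), (66, [(250, [(219, []), (159, []), (126, [(159, [(219, 0)])]), (106, [(219, [(159, 5658882), (126, 7502338)])])]), (238, [(231, []), (183, []), (126, [(183, [(231, 0)])]), (106, [(231, [(183, 5658882), (126, 16152834)])])]), (190, [(231, []), (219, []), (183, [(219, [(231, 0)])]), (159, [(231, [(219, 16537858), (183, 5658882)])])]), (170, []), (150, [(183, []), (159, [])]), (130, [(231, []), (219, [])]), (119, [(231, []), (126, []), (86, [(231, [(126, 0)])])]), (95, [(219, []), (126, []), (86, [(219, [(126, 0)])])])]), (51, [(250, [(238, []), (170, []), (106, [(170, [(238, 0)])])]), (231, [(238, []), (183, []), (119, [(183, [(238, 0)])])]), (219, []), (190, [(238, []), (183, []), (170, [(183, [(238, 0)])]), (150, [(238, [(183, 9861378), (170, 5658882)])])]), (159, [(183,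 []), (150, []), (106, [(150, [(183, 0)])])]), (130, [(170, []), (150, []), (119, [(150, [(170, 0)])])]), (126, [(238, []), (119, []), (106, [(119, [(238, 0)])]), (86, [(238, [(119, 9861378), (106, 5658882)])])]), (95, [(170, []), (119, []), (86, [(170, [(119, 0)])])]), (66, [(183, []), (106, []), (86, [(183, [(106, 0)])])])]), (18, [(250, []), (238, [(231, []), (183, []), (119, [(183, [(231, 0)])]), (51, [(231, [(183, 5658882), (119, 5658882)])])]), (219, [(231, []), (130, []), (66, [(130, [(231, 0)])])]), (190, [(231, []), (183, []), (150, [(231, [(183, 0)])]), (130, [(183, [(231, 5658882), (150, 5658882)])])]), (170, [(150, []), (130, []), (119, [(150, [(130, 0)])]), (51, [(130, [(150, 1), (119, 5658882)])])]), (159, [(183, []), (150, []), (66, [(150, [(183, 0)])])]), (126, [(231, []), (119, []), (86, [(231, [(119, 0)])]), (66, [(119, [(231, 5658882), (86, 8157442)])])]), (106, [(183, []), (86, [(183, [])]), (66, []), (51, [(66, [(183, 5658882), (86, 5658882)])])]), (95, [(130, []), (119, []), (86, [(130, [(119, 0)])])])]), (15, [(238, [(250, []), (170, []), (106, [(170, [(250, 0)])]), (51, [(250,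 [(170, 5921026), (106, 5921026)])])]), (231, []), (219, [(250, []), (159, []), (95, [(159, [(250, 0)])])]), (190, [(250, []), (170, []), (159, [(170, [(250, 0)])]), (150, [(250, [(170, 5921026), (159, 11950338)])])]), (183, [(159, []), (150, []), (106, [(150, [(159, 0)])]), (51, [(159, [(150, 5527810), (106, 14309634)])])]), (130, [(170, []), (150, []), (95, [(150, [(170, 0)])])]), (126, [(250, []), (106, []), (95, [(106, [(250, 0)])]), (86, [(250, [(106, 7764226), (95, 11950338)])])]), (119, [(170, []), (95, []), (86, [(170, [(95, 0)])]), (51, [(95, [(170, 16406786), (86, 7764226)])])]), (66, [(159, []), (106, []), (86, [(159, [(106, 0)])])]), (18, [(150, []), (86, [(150, [])]), (51, [])])]), (6, [(250, [(219, []), (159, []), (95, [(159, [(219, 0)])]), (15, [(219, [(159, 11696386), (95, 5658882)])])]), (238, []), (231, [(219, []), (130, []), (66, [(130, [(219, 0)])]), (18, [(219, [(130, 5921026), (66, 27484417)])])]), (190, [(219, []), (159, []), (150, [(219, [(159, 0)])]), (130, [(159, [(219, 5658882), (150, 7764226)])])]), (183, [(159, []), (150, []), (66, [(150, [(159, 0)])]), (18, [(159, [(150,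 5921026), (66, 5921026)])])]), (170, [(150, []), (130, []), (95, [(150, [(130, 0)])]), (15, [(130, [(150, 1), (95, 14047490)])])]), (126, [(219, []), (95, []), (86, [(219, [(95, 0)])]), (66, [(95, [(219, 5658882), (86, 7764226)])])]), (119, [(130, []), (95, []), (86, [(130, [(95, 0)])]), (18, [(95, [(130, 5921026), (86, 5921026)])])]), (106, [(159, []), (86, [(159, [])]), (66, []), (15, [(66, [(159, 16144642), (86, 5658882)])])]), (51, [(150, []), (86, [(150, [])]), (18, []), (15, [(18, [(150, 11696386), (86, 5789954)])])])])] = true := by decide +kernel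

theorem ct0_26 : T0.chk1 sv0 lo0 26 [(246, []), (238, []), (235, [(246, [(238, [])])]), (215, [(238, [(246, []), (235, [(246, [])])])]), (190, []), (187, [(246, [(238, []), (190, [])]), (215, [(235, []), (190, [])])]), (166, [(235, [(238, []), (190, [])]), (215, [(246, []), (190, [])]), (187, [(238, []), (190, [])])]), (159, [(238, [(246, []), (190, []), (187, [(246, [(190, 0)])])]), (235, [(215, []), (190, []), (187, [(215, [(190, 0)])])]), (166, [(246, []), (190, [])])]), (154, [(246, [(190, []), (166, []), (159, [(166, [(190, 0)])])]), (238, [(190, []), (187, []), (166, [(187, [(190, 0)])])]), (235, [(190, []), (187, [])]), (215, [(190, []), (159, [])])]), (130, [(246, [(215, []), (190, []), (166, [(215, [(190, 0)])])]), (238, [(235, []), (190, []), (166, [(235, [(190, 0)])])]), (187, [(235, []), (190, []), (154, [(235, [(190, 0)])])]), (159, [(215, []), (190, []), (154, [(215, [(190, 0)])])])]), (126, [(190, [(246, []), (238, []), (235, [(246, [(238, 0)])]), (215, [(238, [(246, 11688194), (235, 11688194)])])]), (187, [(238, []), (235, [])]), (166, [(246, []), (238, [])]), (159, [(246, []), (215,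 [])]), (154, []), (130, [(235, []), (215, [])])]), (123, [(246, [(238, []), (166, []), (126, [(166, [(238, 0)])])]), (215, [(235, []), (130, []), (126, [(130, [(235, 0)])])]), (190, [(238, []), (235, []), (166, [(235, [(238, 0)])]), (130, [(238, [(235, 5658882), (166, 5527810)])])]), (187, [(238, []), (235, [])]), (159, []), (154, [(166, []), (130, [])])]), (102, [(235, [(238, []), (187, []), (126, [(187, [(238, 0)])])]), (215, [(246, []), (159, []), (126, [(159, [(246, 0)])])]), (190, [(246, []), (238, []), (187, [(246, [(238, 0)])]), (159, [(238, [(246, 21446913), (187, 9853186)])])]), (166, [(246, []), (238, [])]), (154, [(187, []), (159, [])]), (130, []), (123, [(238, []), (126, [])])]), (95, [(238, [(246, []), (166, []), (126, [(166, [(246, 0)])]), (123, [(246, [(166, 5658882), (126, 5527810)])])]), (235, [(215, []), (130, []), (126, [(130, [(215, 0)])]), (123, [(215, [(130, 5658882), (126, 5527810)])])]), (190, [(246, []), (215, []), (166, [(215, [(246, 0)])]), (130, [(246, [(215, 5396994), (166, 8026370)])])]), (187, []), (159, [(246, []), (215, [])]), (154, [(166, []), (130, [])]), (102,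 [(246, []), (126, [])])]), (90, [(246, [(126, []), (102, []), (95, [(102, [(126, 0)])])]), (238, [(126, []), (123, []), (102, [(123, [(126, 0)])])]), (235, [(126, []), (123, [])]), (215, [(126, []), (95, [])]), (190, []), (187, [(102, [])]), (166, [(123, []), (95, [])]), (159, [(102, [])]), (154, []), (130, [(123, []), (95, [])])]), (66, [(246, [(215, []), (159, []), (126, [(159, [(215, 0)])]), (102, [(215, [(159, 7764226), (126, 14063874)])])]), (238, [(235, []), (187, []), (126, [(187, [(235, 0)])]), (102, [(235, [(187, 6052098), (126, 16144642)])])]), (190, [(235, []), (215, []), (187, [(215, [(235, 0)])]), (159, [(235, [(215, 5789954), (187, 5921026)])])]), (166, []), (154, [(187, []), (159, [])]), (130, [(235, []), (215, [])]), (123, [(235, []), (126, []), (90, [(235, [(126, 0)])])]), (95, [(215, []), (126, []), (90, [(215, [(126, 0)])])])]), (51, [(246, [(238, []), (166, []), (102, [(166, [(238, 0)])])]), (235, [(238, []), (187, []), (123, [(187, [(238, 0)])])]), (215, []), (190, [(238, []), (187, []), (166, [(187, [(238, 0)])]), (154, [(238, [(187, 9853186), (166, 7764226)])])]), (159, [(187,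 []), (154, []), (102, [(154, [(187, 0)])])]), (130, [(166, []), (154, []), (123, [(154, [(166, 0)])])]), (126, [(238, []), (123, []), (102, [(123, [(238, 0)])]), (90, [(238, [(123, 9853186), (102, 5789954)])])]), (95, [(166, []), (123, []), (90, [(166, [(123, 0)])])]), (66, [(187, []), (102, []), (90, [(187, [(102, 0)])])])]), (18, [(246, []), (238, [(235, []), (187, []), (123, [(187, [(235, 0)])]), (51, [(235, [(187, 11688194), (123, 11688194)])])]), (215, [(235, []), (130, []), (66, [(130, [(235, 0)])])]), (190, [(235, []), (187, []), (154, [(235, [(187, 0)])]), (130, [(187, [(235, 6052098), (154, 6052098)])])]), (166, [(154, []), (130, []), (123, [(154, [(130, 0)])]), (51, [(130, [(154, 7764226), (123, 7764226)])])]), (159, [(187, []), (154, []), (66, [(154, [(187, 0)])])]), (126, [(235, []), (123, []), (90, [(235, [(123, 0)])]), (66, [(123, [(235, 6052098), (90, 6052098)])])]), (102, [(187, []), (90, [(187, [])]), (66, []), (51, [(66, [(187, 5396994), (90, 1)])])]), (95, [(130, []), (123, []), (90, [(130, [(123, 0)])])])]), (15, [(238, [(246, []), (166, []), (102, [(166, [(246, 0)])]), (51, [(246,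 [(166, 8026370), (102, 5396994)])])]), (235, []), (215, [(246, []), (159, []), (95, [(159, [(246, 0)])])]), (190, [(246, []), (166, []), (159, [(166, [(246, 0)])]), (154, [(246, [(166, 5658882), (159, 5527810)])])]), (187, [(159, []), (154, []), (102, [(154, [(159, 0)])]), (51, [(159, [(154, 5658882), (102, 5527810)])])]), (130, [(166, []), (154, []), (95, [(154, [(166, 0)])])]), (126, [(246, []), (102, []), (95, [(102, [(246, 0)])]), (90, [(246, [(102, 5658882), (95, 11958530)])])]), (123, [(166, []), (95, []), (90, [(166, [(95, 0)])]), (51, [(95, [(166, 16414978), (90, 5658882)])])]), (66, [(159, []), (102, []), (90, [(159, [(102, 0)])])]), (18, [(154, []), (90, [(154, [])]), (51, [])])]), (10, [(246, [(215, []), (159, []), (95, [(159, [(215, 0)])]), (15, [(215, [(159, 11688194), (95, 11688194)])])]), (238, []), (235, [(215, []), (130, []), (66, [(130, [(215, 0)])]), (18, [(215, [(130, 27484417), (66, 5396994)])])]), (190, [(215, []), (159, []), (154, [(215, [(159, 0)])]), (130, [(159, [(215, 5527810), (154, 5658882)])])]), (187, [(159, []), (154, []), (66, [(154, [(159, 0)])]), (18, [(159, [(154,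 5658882), (66, 5527810)])])]), (166, [(154, []), (130, []), (95, [(154, [(130, 0)])]), (15, [(130, [(154, 6052098), (95, 6052098)])])]), (126, [(215, []), (95, []), (90, [(215, [(95, 0)])]), (66, [(95, [(215, 5527810), (90, 5658882)])])]), (123, [(130, []), (95, []), (90, [(130, [(95, 0)])]), (18, [(95, [(130, 5527810), (90, 5658882)])])]), (102, [(159, []), (90, [(159, [])]), (66, []), (15, [(66, [(159, 6052098), (90, 1)])])]), (51, [(154, []), (90, [(154, [])]), (18, []), (15, [(18, [(154, 11688194), (90, 11688194)])])])])] = true := by decide +kernel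

theorem ct0_31 : T0.chk1 sv0 lo0 31 [(238, []), (235, []), (231, [(235, [(238, [])])]), (195, [(238, [(235, []), (231, [(235, [])])])]), (190, []), (187, [(231, [(238, []), (190, [])]), (195, [(235, []), (190, [])])]), (183, [(235, [(238, []), (190, [])]), (195, [(231, []), (190, [])]), (187, [(238, []), (190, [])])]), (159, [(238, [(190, []), (187, []), (183, [(187, [(190, 0)])])]), (235, [(190, []), (187, [])]), (231, [(190, []), (183, [])]), (195, [(190, [])])]), (154, [(238, [(231, []), (190, []), (187, [(231, [(190, 0)])])]), (235, [(195, []), (190, []), (187, [(195, [(190, 0)])])]), (183, [(231, []), (190, []), (159, [(231, [(190, 0)])])])]), (150, [(238, [(235, []), (190, []), (183, [(235, [(190, 0)])])]), (231, [(195, []), (190, []), (183, [(195, [(190, 0)])])]), (187, [(235, []), (190, []), (159, [(235, [(190, 0)])])]), (154, [(195, []), (190, []), (159, [(195, [(190, 0)])])])]), (126, [(190, [(238, []), (235, []), (231, [(235, [(238, 0)])]), (195, [(238, [(235, 5658882), (231, 16406786)])])]), (187, [(238, []), (235, [])]), (183, [(238, []), (231, [])]), (159, []), (154, [(231, []), (195,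 [])]), (150, [(235, []), (195, [])])]), (123, [(231, [(238, []), (183, []), (126, [(183, [(238, 0)])])]), (195, [(235, []), (150, []), (126, [(150, [(235, 0)])])]), (190, [(238, []), (235, []), (183, [(235, [(238, 0)])]), (150, [(238, [(235, 11688194), (183, 11688194)])])]), (187, [(238, []), (235, [])]), (159, [(183, []), (150, [])]), (154, [])]), (119, [(235, [(238, []), (187, []), (126, [(187, [(238, 0)])])]), (195, [(231, []), (154, []), (126, [(154, [(231, 0)])])]), (190, [(238, []), (231, []), (187, [(231, [(238, 0)])]), (154, [(238, [(231, 5789954), (187, 9853186)])])]), (183, [(238, []), (231, [])]), (159, [(187, []), (154, [])]), (150, []), (123, [(238, []), (126, [])])]), (95, [(238, [(126, []), (123, []), (119, [(123, [(126, 0)])])]), (235, [(126, []), (123, [])]), (231, [(126, []), (119, [])]), (195, [(126, [])]), (190, []), (187, [(119, [])]), (183, [(123, [])]), (159, []), (154, [(119, [])]), (150, [(123, [])])]), (90, [(238, [(231, []), (183, []), (126, [(183, [(231, 0)])]), (123, [(231, [(183, 5658882), (126, 5527810)])])]), (235, [(195, []), (150, []), (126, [(150, [(195, 0)])]),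 (123, [(195, [(150, 5658882), (126, 5527810)])])]), (190, [(231, []), (195, []), (183, [(195, [(231, 0)])]), (150, [(231, [(195, 5396994), (183, 8026370)])])]), (187, []), (159, [(183, []), (150, [])]), (154, [(231, []), (195, [])]), (119, [(231, []), (126, []), (95, [(231, [(126, 0)])])])]), (86, [(238, [(235, []), (187, []), (126, [(187, [(235, 0)])]), (119, [(235, [(187, 11688194), (126, 11688194)])])]), (231, [(195, []), (154, []), (126, [(154, [(195, 0)])]), (119, [(195, [(154, 7764226), (126, 14063874)])])]), (190, [(235, []), (195, []), (187, [(195, [(235, 0)])]), (154, [(235, [(195, 16423170), (187, 5921026)])])]), (183, []), (159, [(187, []), (154, [])]), (150, [(235, []), (195, [])]), (123, [(235, []), (126, []), (95, [(235, [(126, 0)])])]), (90, [(195, []), (126, []), (95, [(195, [(126, 0)])])])]), (34, [(235, [(238, []), (187, []), (123, [(187, [(238, 0)])])]), (231, [(238, []), (183, []), (119, [(183, [(238, 0)])])]), (195, []), (190, [(238, []), (187, []), (183, [(187, [(238, 0)])]), (159, [(238, [(187, 9853186), (183, 5789954)])])]), (154, [(187, []), (159, []), (119, [(159, [(187,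 0)])])]), (150, [(183, []), (159, []), (123, [(159, [(183, 0)])])]), (126, [(238, []), (123, []), (119, [(123, [(238, 0)])]), (95, [(238, [(123, 9853186), (119, 5789954)])])]), (90, [(183, []), (123, []), (95, [(183, [(123, 0)])])]), (86, [(187, []), (119, []), (95, [(187, [(119, 0)])])])]), (15, [(238, []), (235, [(195, []), (150, []), (86, [(150, [(195, 0)])])]), (231, [(195, []), (154, []), (90, [(154, [(195, 0)])])]), (190, [(195, []), (159, [(195, [])]), (154, []), (150, [(154, [(195, 5527810), (159, 5658882)])])]), (187, [(159, []), (154, []), (86, [(159, [(154, 0)])])]), (183, [(159, []), (150, []), (90, [(159, [(150, 0)])])]), (126, [(195, []), (95, [(195, [])]), (90, []), (86, [(90, [(195, 7764226), (95, 5658882)])])]), (123, [(150, []), (95, [(150, [])]), (90, [])]), (119, [(154, []), (95, [(154, [])]), (86, [])]), (34, [(159, []), (95, [(159, [])])])]), (10, [(238, [(231, []), (183, []), (119, [(183, [(231, 0)])]), (34, [(231, [(183, 8157442), (119, 5396994)])])]), (235, []), (195, [(231, []), (154, []), (90, [(154, [(231, 0)])]), (15, [(231, [(154, 6052098), (90, 1)])])]), (190, [(231,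 []), (183, []), (159, [(231, [(183, 0)])]), (154, [(183, [(231, 5658882), (159, 5527810)])])]), (187, [(159, []), (154, []), (119, [(159, [(154, 0)])]), (34, [(154, [(159, 5658882), (119, 5527810)])])]), (150, [(183, []), (159, []), (90, [(159, [(183, 0)])]), (15, [(183, [(159, 11688194), (90, 11688194)])])]), (126, [(231, []), (119, []), (95, [(231, [(119, 0)])]), (90, [(119, [(231, 5658882), (95, 5527810)])])]), (123, [(183, []), (95, [(183, [])]), (90, []), (34, [(90, [(183, 5527810), (95, 5658882)])])]), (86, [(154, []), (119, []), (95, [(154, [(119, 0)])]), (15, [(119, [(154, 11688194), (95, 11688194)])])])]), (6, [(238, [(235, []), (187, []), (123, [(187, [(235, 0)])]), (34, [(235, [(187, 6052098), (123, 6052098)])])]), (231, []), (195, [(235, []), (150, []), (86, [(150, [(235, 0)])]), (15, [(235, [(150, 1), (86, 5396994)])])]), (190, [(235, []), (187, []), (159, [(235, [(187, 0)])]), (150, [(187, [(235, 6052098), (159, 7633154)])])]), (183, [(159, []), (150, []), (123, [(159, [(150, 0)])]), (34, [(150, [(159, 7764226), (123, 7633154)])])]), (154, [(187, []), (159, []), (86, [(159, [(187, 0)])]),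 (15, [(187, [(159, 5921026), (86, 5789954)])])]), (126, [(235, []), (123, []), (95, [(235, [(123, 0)])]), (86, [(123, [(235, 6052098), (95, 6052098)])])]), (119, [(187, []), (95, [(187, [])]), (86, []), (34, [(86, [(187, 5396994), (95, 7764226)])])]), (90, [(150, []), (123, []), (95, [(150, [(123, 0)])]), (15, [(123, [(150, 11696386), (95, 5921026)])])]), (10, [(159, []), (95, [(159, [])]), (34, []), (15, [(34, [(159, 6183170), (95, 6183426)])])])])] = true := by decide +kernel

theorem ct0_38 : T0.chk1 sv0 lo0 38 [(250, []), (235, []), (222, [(235, [(250, [])])]), (215, [(250, [(235, []), (222, [(235, [])])])]), (190, []), (183, [(250, [(222, []), (190, [])]), (235, [(215, []), (190, [])])]), (175, [(222, [(250, []), (190, []), (183, [(250, [(190, 0)])])]), (215, [(235, []), (190, []), (183, [(235, [(190, 0)])])])]), (166, [(250, [(190, []), (175, [])]), (235, [(190, []), (175, [])]), (222, [(190, []), (183, [])]), (215, [(190, []), (183, [])])]), (154, [(235, [(250, []), (190, [])]), (215, [(222, []), (190, [])]), (183, [(222, []), (190, []), (166, [(222, [(190, 0)])])]), (175, [(250, []), (190,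 []), (166, [(250, [(190, 0)])])])]), (130, [(250, [(235, []), (190, []), (154, [(235, [(190, 0)])])]), (222, [(215, []), (190, []), (154, [(215, [(190, 0)])])]), (183, [(215, []), (190, []), (166, [(215, [(190, 0)])])]), (175, [(235, []), (190, []), (166, [(235, [(190, 0)])])])]), (126, [(190, [(250, []), (235, []), (222, [(235, [(250, 0)])]), (215, [(250, [(235, 9599234), (222, 5921026)])])]), (183, [(222, []), (215, [])]), (175, [(250, []), (235, [])]), (166, []), (154, [(250, []), (222, [])]), (130, [(235, []), (215, [])])]), (119, [(250, [(222, []), (154, []), (126, [(154, [(222, 0)])])]), (235, [(215, []), (130, []), (126, [(130, [(215, 0)])])]), (190, [(222, []), (215, []), (154, [(215, [(222, 0)])]), (130, [(222, [(215, 7764226), (154, 5658882)])])]), (183, [(222, []), (215, [])]), (175, []), (166, [(154, []), (130, [])])]), (111, [(222, [(250, []), (154, []), (126, [(154, [(250, 0)])]), (119, [(250, [(154, 9722114), (126, 7633154)])])]), (215, [(235, []), (130, []), (126, [(130, [(235, 0)])]), (119, [(235, [(130, 5527810), (126, 14309634)])])]), (190, [(250, []), (235, []), (154, [(235, [(250,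 0)])]), (130, [(250, [(235, 7502338), (154, 5921026)])])]), (183, []), (175, [(250, []), (235, [])]), (166, [(154, []), (130, [])])]), (102, [(250, [(126, []), (111, [])]), (235, [(126, []), (111, [])]), (222, [(126, []), (119, [])]), (215, [(126, []), (119, [])]), (190, []), (183, []), (175, []), (166, []), (154, [(119, []), (111, [])]), (130, [(119, []), (111, [])])]), (90, [(235, [(250, []), (175, []), (126, [(175, [(250, 0)])])]), (215, [(222, []), (183, []), (126, [(183, [(222, 0)])])]), (190, [(250, []), (222, []), (183, [(250, [(222, 0)])]), (175, [(222, [(250, 21315841), (183, 9853186)])])]), (166, [(183, []), (175, [])]), (154, [(250, []), (222, [])]), (130, []), (119, [(222, []), (126, []), (102, [(222, [(126, 0)])])]), (111, [(250, []), (126, []), (102, [(250, [(126, 0)])])])]), (66, [(250, [(235, []), (175, []), (126, [(175, [(235, 0)])]), (90, [(235, [(175, 5658882), (126, 16161026)])])]), (222, [(215, []), (183, []), (126, [(183, [(215, 0)])]), (90, [(215, [(183, 5658882), (126, 14047490)])])]), (190, [(235, []), (215, []), (183, [(235, [(215, 0)])]), (175, [(215, [(235, 7895298), (183,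 5658882)])])]), (166, [(183, []), (175, [])]), (154, []), (130, [(235, []), (215, [])]), (119, [(215, []), (126, []), (102, [(215, [(126, 0)])])]), (111, [(235, []), (126, []), (102, [(235, [(126, 0)])])])]), (51, [(250, [(222, []), (154, []), (90, [(154, [(222, 0)])])]), (235, []), (215, [(222, []), (183, []), (119, [(183, [(222, 0)])])]), (190, [(222, []), (183, []), (166, [(222, [(183, 0)])]), (154, [(183, [(222, 11958530), (166, 5658882)])])]), (175, [(183, []), (166, []), (90, [(166, [(183, 0)])])]), (130, [(166, []), (154, []), (119, [(166, [(154, 0)])])]), (126, [(222, []), (119, []), (102, [(222, [(119, 0)])]), (90, [(119, [(222, 11958530), (102, 5658882)])])]), (111, [(154, []), (119, []), (102, [(154, [(119, 0)])])]), (66, [(183, []), (102, [(183, [])]), (90, [])])]), (34, [(250, []), (235, [(215, []), (130, []), (66, [(130, [(215, 0)])])]), (222, [(215, []), (183, []), (119, [(183, [(215, 0)])]), (51, [(215, [(183, 5658882), (119, 5658882)])])]), (190, [(215, []), (183, []), (166, [(215, [(183, 0)])]), (130, [(183, [(215, 5658882), (166, 8157442)])])]), (175, [(183, []), (166, []), (66,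 [(166, [(183, 0)])])]), (154, [(166, []), (130, []), (119, [(166, [(130, 0)])]), (51, [(130, [(166, 5658882), (119, 5658882)])])]), (126, [(215, []), (119, []), (102, [(215, [(119, 0)])]), (66, [(119, [(215, 5658882), (102, 5658882)])])]), (111, [(130, []), (119, []), (102, [(130, [(119, 0)])])]), (90, [(183, []), (102, [(183, [])]), (66, []), (51, [(66, [(183, 5658882), (102, 1)])])])]), (15, [(235, [(250, []), (175, []), (111, [(175, [(250, 0)])])]), (222, [(250, []), (154, []), (90, [(154, [(250, 0)])]), (51, [(250, [(154, 5921026), (90, 5921026)])])]), (215, []), (190, [(250, []), (175, []), (166, [(250, [(175, 0)])]), (154, [(175, [(250, 9853186), (166, 7764226)])])]), (183, [(175, []), (166, []), (90, [(166, [(175, 0)])]), (51, [(175, [(166, 7764226), (90, 14309634)])])]), (130, [(166, []), (154, []), (111, [(166, [(154, 0)])])]), (126, [(250, []), (111, []), (102, [(250, [(111, 0)])]), (90, [(111, [(250, 9853186), (102, 6183170)])])]), (119, [(154, []), (111, []), (102, [(154, [(111, 0)])]), (51, [(111, [(154, 16406786), (102, 5527810)])])]), (66, [(175, []), (102, [(175, [])]), (90, [])]),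 (34, [(166, []), (102, [(166, [])]), (51, [])])]), (6, [(250, [(235, []), (175, []), (111, [(175, [(235, 0)])]), (15, [(235, [(175, 5658882), (111, 9599234)])])]), (222, []), (215, [(235, []), (130, []), (66, [(130, [(235, 0)])]), (34, [(235, [(130, 27484417), (66, 5921026)])])]), (190, [(235, []), (175, []), (166, [(235, [(175, 0)])]), (130, [(175, [(235, 5658882), (166, 7764226)])])]), (183, [(175, []), (166, []), (66, [(166, [(175, 0)])]), (34, [(175, [(166, 5921026), (66, 5921026)])])]), (154, [(166, []), (130, []), (111, [(166, [(130, 0)])]), (15, [(130, [(166, 5658882), (111, 14047490)])])]), (126, [(235, []), (111, []), (102, [(235, [(111, 0)])]), (66, [(111, [(235, 5658882), (102, 7764226)])])]), (119, [(130, []), (111, []), (102, [(130, [(111, 0)])]), (34, [(111, [(130, 5921026), (102, 5921026)])])]), (90, [(175, []), (102, [(175, [])]), (66, []), (15, [(66, [(175, 16144642), (102, 1)])])]), (51, [(166, []), (102, [(166, [])]), (34, []), (15, [(34, [(166, 5789954), (102, 9599234)])])])])] = true := by decide +kernel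

theorem ct0_42 : T0.chk1 sv0 lo0 42 [(246, []), (231, []), (222, [(231, [(246, [])])]), (219, [(246, [(231, []), (222, [(231, [])])])]), (190, []), (187, [(246, [(222, []), (190, [])]), (231, [(219, []), (190, [])])]), (175, [(222, [(246, []), (190, []), (187, [(246, [(190, 0)])])]), (219, [(231, []), (190, []), (187, [(231, [(190, 0)])])])]), (170, [(246, [(190, []), (175, [])]), (231, [(190, []), (175, [])]), (222, [(190, []), (187, [])]), (219, [(190, []), (187, [])])]), (150, [(231, [(246, []), (190, [])]), (219, [(222, []), (190, [])]), (187, [(222, []), (190, []), (170, [(222, [(190, 0)])])]), (175, [(246, []), (190, []), (170, [(246, [(190, 0)])])])]), (130, [(246, [(231, []), (190, []), (150, [(231, [(190, 0)])])]), (222, [(219, []), (190, []), (150, [(219, [(190, 0)])])]), (187, [(219, []), (190, []), (170, [(219, [(190, 0)])])]), (175, [(231, []), (190, []), (170, [(231, [(190, 0)])])])]), (126, [(190, [(246, []), (231, []), (222, [(231, [(246, 0)])]), (219, [(246, [(231, 9591042), (222, 9591042)])])]), (187, [(222, []), (219, [])]), (175, [(246, []), (231, [])]), (170, []), (150, [(246,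 []), (222, [])]), (130, [(231, []), (219, [])])]), (123, [(246, [(222, []), (150, []), (126, [(150, [(222, 0)])])]), (231, [(219, []), (130, []), (126, [(130, [(219, 0)])])]), (190, [(222, []), (219, []), (150, [(219, [(222, 0)])]), (130, [(222, [(219, 14309634), (150, 5527810)])])]), (187, [(222, []), (219, [])]), (175, []), (170, [(150, []), (130, [])])]), (111, [(222, [(246, []), (150, []), (126, [(150, [(246, 0)])]), (123, [(246, [(150, 5658882), (126, 21446913)])])]), (219, [(231, []), (130, []), (126, [(130, [(231, 0)])]), (123, [(231, [(130, 5658882), (126, 5527810)])])]), (190, [(246, []), (231, []), (150, [(231, [(246, 0)])]), (130, [(246, [(231, 14326018), (150, 8026370)])])]), (187, []), (175, [(246, []), (231, [])]), (170, [(150, []), (130, [])])]), (106, [(246, [(126, []), (111, [])]), (231, [(126, []), (111, [])]), (222, [(126, []), (123, [])]), (219, [(126, []), (123, [])]), (190, []), (187, []), (175, []), (170, []), (150, [(123, []), (111, [])]), (130, [(123, []), (111, [])])]), (86, [(231, [(246, []), (175, []), (126, [(175, [(246, 0)])])]), (219, [(222, []), (187, []), (126, [(187,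 [(222, 0)])])]), (190, [(246, []), (222, []), (187, [(246, [(222, 0)])]), (175, [(222, [(246, 5789954), (187, 11950338)])])]), (170, [(187, []), (175, [])]), (150, [(246, []), (222, [])]), (130, []), (123, [(222, []), (126, []), (106, [(222, [(126, 0)])])]), (111, [(246, []), (126, []), (106, [(246, [(126, 0)])])])]), (66, [(246, [(231, []), (175, []), (126, [(175, [(231, 0)])]), (86, [(231, [(175, 7764226), (126, 5396994)])])]), (222, [(219, []), (187, []), (126, [(187, [(219, 0)])]), (86, [(219, [(187, 6052098), (126, 16144642)])])]), (190, [(231, []), (219, []), (187, [(231, [(219, 0)])]), (175, [(219, [(231, 5789954), (187, 5921026)])])]), (170, [(187, []), (175, [])]), (150, []), (130, [(231, []), (219, [])]), (123, [(219, []), (126, []), (106, [(219, [(126, 0)])])]), (111, [(231, []), (126, []), (106, [(231, [(126, 0)])])])]), (51, [(246, [(222, []), (150, []), (86, [(150, [(222, 0)])])]), (231, []), (219, [(222, []), (187, []), (123, [(187, [(222, 0)])])]), (190, [(222, []), (187, []), (170, [(222, [(187, 0)])]), (150, [(187, [(222, 11950338), (170, 6052098)])])]), (175, [(187, []), (170,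 []), (86, [(170, [(187, 0)])])]), (130, [(170, []), (150, []), (123, [(170, [(150, 0)])])]), (126, [(222, []), (123, []), (106, [(222, [(123, 0)])]), (86, [(123, [(222, 11950338), (106, 7764226)])])]), (111, [(150, []), (123, []), (106, [(150, [(123, 0)])])]), (66, [(187, []), (106, [(187, [])]), (86, [])])]), (34, [(246, []), (231, [(219, []), (130, []), (66, [(130, [(219, 0)])])]), (222, [(219, []), (187, []), (123, [(187, [(219, 0)])]), (51, [(219, [(187, 9591042), (123, 9591042)])])]), (190, [(219, []), (187, []), (170, [(219, [(187, 0)])]), (130, [(187, [(219, 6052098), (170, 6052098)])])]), (175, [(187, []), (170, []), (66, [(170, [(187, 0)])])]), (150, [(170, []), (130, []), (123, [(170, [(130, 0)])]), (51, [(130, [(170, 1), (123, 5396994)])])]), (126, [(219, []), (123, []), (106, [(219, [(123, 0)])]), (66, [(123, [(219, 6052098), (106, 6052098)])])]), (111, [(130, []), (123, []), (106, [(130, [(123, 0)])])]), (86, [(187, []), (106, [(187, [])]), (66, []), (51, [(66, [(187, 7764226), (106, 7764226)])])])]), (15, [(231, [(246, []), (175, []), (111, [(175, [(246, 0)])])]), (222, [(246, []),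 (150, []), (86, [(150, [(246, 0)])]), (51, [(246, [(150, 5396994), (86, 8026370)])])]), (219, []), (190, [(246, []), (175, []), (170, [(246, [(175, 0)])]), (150, [(175, [(246, 9861378), (170, 5658882)])])]), (187, [(175, []), (170, []), (86, [(170, [(175, 0)])]), (51, [(175, [(170, 5658882), (86, 14317826)])])]), (130, [(170, []), (150, []), (111, [(170, [(150, 0)])])]), (126, [(246, []), (111, []), (106, [(246, [(111, 0)])]), (86, [(111, [(246, 5527810), (106, 5658882)])])]), (123, [(150, []), (111, []), (106, [(150, [(111, 0)])]), (51, [(111, [(150, 5527810), (106, 5658882)])])]), (66, [(175, []), (106, [(175, [])]), (86, [])]), (34, [(170, []), (106, [(170, [])]), (51, [])])]), (10, [(246, [(231, []), (175, []), (111, [(175, [(231, 0)])]), (15, [(231, [(175, 9591042), (111, 9591042)])])]), (222, []), (219, [(231, []), (130, []), (66, [(130, [(231, 0)])]), (34, [(231, [(130, 5396994), (66, 27484417)])])]), (190, [(231, []), (175, []), (170, [(231, [(175, 0)])]), (130, [(175, [(231, 5527810), (170, 5658882)])])]), (187, [(175, []), (170, []), (66, [(170, [(175, 0)])]), (34, [(175, [(170, 5658882),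 (66, 5527810)])])]), (150, [(170, []), (130, []), (111, [(170, [(130, 0)])]), (15, [(130, [(170, 1), (111, 6052098)])])]), (126, [(231, []), (111, []), (106, [(231, [(111, 0)])]), (66, [(111, [(231, 5527810), (106, 5658882)])])]), (123, [(130, []), (111, []), (106, [(130, [(111, 0)])]), (34, [(111, [(130, 5527810), (106, 5658882)])])]), (86, [(175, []), (106, [(175, [])]), (66, []), (15, [(66, [(175, 6052098), (106, 6052098)])])]), (51, [(170, []), (106, [(170, [])]), (34, []), (15, [(34, [(170, 9591042), (106, 9591042)])])])])] = true := by decide +kernel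

theorem ct0_47 : T0.chk1 sv0 lo0 47 [(222, []), (219, []), (215, [(219, [(222, [])])]), (195, [(222, [(219, []), (215, [(219, [])])])]), (190, []), (187, [(215, [(222, []), (190, [])]), (195, [(219, []), (190, [])])]), (183, [(219, [(222, []), (190, [])]), (195, [(215, []), (190, [])]), (187, [(222, []), (190, [])])]), (175, [(222, [(190, []), (187, []), (183, [(187, [(190, 0)])])]), (219, [(190, []), (187, [])]), (215, [(190, []), (183, [])]), (195, [(190, [])])]), (170, [(222, [(215, []), (190, []), (187, [(215, [(190, 0)])])]), (219, [(195, []), (190, []), (187, [(195, [(190, 0)])])]), (183, [(215, []), (190, []), (175, [(215, [(190, 0)])])])]), (166, [(222, [(219, []), (190, []), (183, [(219, [(190, 0)])])]), (215, [(195, []), (190, []), (183, [(195, [(190, 0)])])]), (187, [(219, []), (190, []), (175, [(219, [(190, 0)])])]), (170, [(195, []), (190, []), (175, [(195, [(190, 0)])])])]), (126, [(190, [(222, []), (219, []), (215, [(219, [(222, 0)])]), (195, [(222, [(219, 14309634), (215, 5527810)])])]), (187, [(222, []), (219, [])]), (183, [(222, []), (215, [])]), (175, []), (170, [(215, []), (195,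 [])]), (166, [(219, []), (195, [])])]), (123, [(215, [(222, []), (183, []), (126, [(183, [(222, 0)])])]), (195, [(219, []), (166, []), (126, [(166, [(219, 0)])])]), (190, [(222, []), (219, []), (183, [(219, [(222, 0)])]), (166, [(222, [(219, 9591042), (183, 9591042)])])]), (187, [(222, []), (219, [])]), (175, [(183, []), (166, [])]), (170, [])]), (119, [(219, [(222, []), (187, []), (126, [(187, [(222, 0)])])]), (195, [(215, []), (170, []), (126, [(170, [(215, 0)])])]), (190, [(222, []), (215, []), (187, [(215, [(222, 0)])]), (170, [(222, [(215, 5789954), (187, 11950338)])])]), (183, [(222, []), (215, [])]), (175, [(187, []), (170, [])]), (166, []), (123, [(222, []), (126, [])])]), (111, [(222, [(126, []), (123, []), (119, [(123, [(126, 0)])])]), (219, [(126, []), (123, [])]), (215, [(126, []), (119, [])]), (195, [(126, [])]), (190, []), (187, [(119, [])]), (183, [(123, [])]), (175, []), (170, [(119, [])]), (166, [(123, [])])]), (106, [(222, [(215, []), (183, []), (126, [(183, [(215, 0)])]), (123, [(215, [(183, 5658882), (126, 5527810)])])]), (219, [(195, []), (166, []), (126, [(166, [(195, 0)])]),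 (123, [(195, [(166, 5658882), (126, 16029954)])])]), (190, [(215, []), (195, []), (183, [(195, [(215, 0)])]), (166, [(215, [(195, 14194946), (183, 8026370)])])]), (187, []), (175, [(183, []), (166, [])]), (170, [(215, []), (195, [])]), (119, [(215, []), (126, []), (111, [(215, [(126, 0)])])])]), (102, [(222, [(219, []), (187, []), (126, [(187, [(219, 0)])]), (119, [(219, [(187, 9591042), (126, 9591042)])])]), (215, [(195, []), (170, []), (126, [(170, [(195, 0)])]), (119, [(195, [(170, 7764226), (126, 5396994)])])]), (190, [(219, []), (195, []), (187, [(195, [(219, 0)])]), (170, [(219, [(195, 5789954), (187, 5921026)])])]), (183, []), (175, [(187, []), (170, [])]), (166, [(219, []), (195, [])]), (123, [(219, []), (126, []), (111, [(219, [(126, 0)])])]), (106, [(195, []), (126, []), (111, [(195, [(126, 0)])])])]), (18, [(219, [(222, []), (187, []), (123, [(187, [(222, 0)])])]), (215, [(222, []), (183, []), (119, [(183, [(222, 0)])])]), (195, []), (190, [(222, []), (187, []), (183, [(187, [(222, 0)])]), (175, [(222, [(187, 11950338), (183, 5789954)])])]), (170, [(187, []), (175, []), (119, [(175, [(187,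 0)])])]), (166, [(183, []), (175, []), (123, [(175, [(183, 0)])])]), (126, [(222, []), (123, []), (119, [(123, [(222, 0)])]), (111, [(222, [(123, 11950338), (119, 5789954)])])]), (106, [(183, []), (123, []), (111, [(183, [(123, 0)])])]), (102, [(187, []), (119, []), (111, [(187, [(119, 0)])])])]), (15, [(222, []), (219, [(195, []), (166, []), (102, [(166, [(195, 0)])])]), (215, [(195, []), (170, []), (106, [(170, [(195, 0)])])]), (190, [(195, []), (175, [(195, [])]), (170, []), (166, [(170, [(195, 7764226), (175, 5658882)])])]), (187, [(175, []), (170, []), (102, [(175, [(170, 0)])])]), (183, [(175, []), (166, []), (106, [(175, [(166, 0)])])]), (126, [(195, []), (111, [(195, [])]), (106, []), (102, [(106, [(195, 5527810), (111, 5658882)])])]), (123, [(166, []), (111, [(166, [])]), (106, [])]), (119, [(170, []), (111, [(170, [])]), (102, [])]), (18, [(175, []), (111, [(175, [])])])]), (10, [(222, [(215, []), (183, []), (119, [(183, [(215, 0)])]), (18, [(215, [(183, 5396994), (119, 8157442)])])]), (219, []), (195, [(215, []), (170, []), (106, [(170, [(215, 0)])]), (15, [(215, [(170, 1), (106, 6052098)])])]),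 (190, [(215, []), (183, []), (175, [(215, [(183, 0)])]), (170, [(183, [(215, 5658882), (175, 5527810)])])]), (187, [(175, []), (170, []), (119, [(175, [(170, 0)])]), (18, [(170, [(175, 5658882), (119, 5527810)])])]), (166, [(183, []), (175, []), (106, [(175, [(183, 0)])]), (15, [(183, [(175, 9591042), (106, 9591042)])])]), (126, [(215, []), (119, []), (111, [(215, [(119, 0)])]), (106, [(119, [(215, 5658882), (111, 5527810)])])]), (123, [(183, []), (111, [(183, [])]), (106, []), (18, [(106, [(183, 5527810), (111, 5658882)])])]), (102, [(170, []), (119, []), (111, [(170, [(119, 0)])]), (15, [(119, [(170, 9591042), (111, 9591042)])])])]), (6, [(222, [(219, []), (187, []), (123, [(187, [(219, 0)])]), (18, [(219, [(187, 6052098), (123, 6052098)])])]), (215, []), (195, [(219, []), (166, []), (102, [(166, [(219, 0)])]), (15, [(219, [(166, 5396994), (102, 1)])])]), (190, [(219, []), (187, []), (175, [(219, [(187, 0)])]), (166, [(187, [(219, 6052098), (175, 6052098)])])]), (183, [(175, []), (166, []), (123, [(175, [(166, 0)])]), (18, [(166, [(175, 7764226), (123, 5396994)])])]), (170, [(187, []), (175, []),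 (102, [(175, [(187, 0)])]), (15, [(187, [(175, 5921026), (102, 9599234)])])]), (126, [(219, []), (123, []), (111, [(219, [(123, 0)])]), (102, [(123, [(219, 6052098), (111, 7633154)])])]), (119, [(187, []), (111, [(187, [])]), (102, []), (18, [(102, [(187, 7633154), (111, 7764226)])])]), (106, [(166, []), (123, []), (111, [(166, [(123, 0)])]), (15, [(123, [(166, 5789954), (111, 5921026)])])]), (10, [(175, []), (111, [(175, [])]), (18, []), (15, [(18, [(175, 6183426), (111, 6183170)])])])])] = true := by decide +kernel

theorem ct0_55 : T0.chk1 sv0 lo0 55 [(250, []), (235, []), (219, [(235, [(250, [])])]), (195, [(250, [(235, []), (219, [(235, [])])])]), (190, []), (183, [(250, [(190, [])]), (235, [(190, [])]), (219, [(190, [])]), (195, [(190, [])])]), (175, [(219, [(250, []), (190, [])]), (195, [(235, []), (190, [])])]), (166, [(250, [(219, []), (190, []), (175, [(219, [(190, 0)])])]), (235, [(195, []), (190, []), (175, [(195, [(190, 0)])])])]), (159, [(235, [(250, []), (190, [])]), (195, [(219, []), (190, [])]), (175, [(250, []), (190, []), (183, [(250, [(190, 0)])])]), (166, [(219, []), (190, []),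 (183, [(219, [(190, 0)])])])]), (150, [(250, [(235, []), (190, []), (159, [(235, [(190, 0)])])]), (219, [(195, []), (190, []), (159, [(195, [(190, 0)])])]), (175, [(235, []), (190, []), (183, [(235, [(190, 0)])])]), (166, [(195, []), (190, []), (183, [(195, [(190, 0)])])])]), (126, [(190, [(250, []), (235, []), (219, [(235, [(250, 0)])]), (195, [(250, [(235, 9869570), (219, 16423170)])])]), (183, []), (175, [(250, []), (235, [])]), (166, [(219, []), (195, [])]), (159, [(250, []), (219, [])]), (150, [(235, []), (195, [])])]), (119, [(250, [(126, [])]), (235, [(126, [])]), (219, [(126, [])]), (195, [(126, [])]), (190, []), (183, []), (175, []), (166, []), (159, []), (150, [])]), (111, [(219, [(250, []), (159, []), (126, [(159, [(250, 0)])])]), (195, [(235, []), (150, []), (126, [(150, [(235, 0)])])]), (190, [(250, []), (235, []), (159, [(235, [(250, 0)])]), (150, [(250, [(235, 9599234), (159, 11950338)])])]), (183, [(159, []), (150, [])]), (175, [(250, []), (235, [])]), (166, [])]), (102, [(250, [(219, []), (159, []), (126, [(159, [(219, 0)])]), (111, [(219, [(159, 9984258), (126, 11696386)])])]),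 (235, [(195, []), (150, []), (126, [(150, [(195, 0)])]), (111, [(195, [(150, 5658882), (126, 14047490)])])]), (190, [(219, []), (195, []), (159, [(195, [(219, 0)])]), (150, [(219, [(195, 16406786), (159, 5658882)])])]), (183, [(159, []), (150, [])]), (175, []), (166, [(219, []), (195, [])])]), (95, [(235, [(250, []), (175, []), (126, [(175, [(250, 0)])])]), (195, [(219, []), (166, []), (126, [(166, [(219, 0)])])]), (190, [(250, []), (219, []), (175, [(219, [(250, 0)])]), (166, [(250, [(219, 5921026), (175, 9853186)])])]), (183, [(175, []), (166, [])]), (159, [(250, []), (219, [])]), (150, []), (111, [(250, []), (126, []), (119, [(250, [(126, 0)])])]), (102, [(219, []), (126, []), (119, [(219, [(126, 0)])])])]), (86, [(250, [(235, []), (175, []), (126, [(175, [(235, 0)])]), (95, [(235, [(175, 5658882), (126, 5658882)])])]), (219, [(195, []), (166, []), (126, [(166, [(195, 0)])]), (95, [(195, [(166, 5658882), (126, 14047490)])])]), (190, [(235, []), (195, []), (175, [(195, [(235, 0)])]), (166, [(235, [(195, 16406786), (175, 5658882)])])]), (183, [(175, []), (166, [])]), (159, []), (150, [(235, []),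 (195, [])]), (111, [(235, []), (126, []), (119, [(235, [(126, 0)])])]), (102, [(195, []), (126, []), (119, [(195, [(126, 0)])])])]), (51, [(250, []), (235, [(195, []), (150, []), (86, [(150, [(195, 0)])])]), (219, [(195, []), (166, []), (102, [(166, [(195, 0)])])]), (190, [(195, []), (183, [(195, [])]), (166, []), (150, [(166, [(195, 5658882), (183, 8026370)])])]), (175, [(183, []), (166, []), (86, [(183, [(166, 0)])])]), (159, [(183, []), (150, []), (102, [(183, [(150, 0)])])]), (126, [(195, []), (119, [(195, [])]), (102, []), (86, [(102, [(195, 7895298), (119, 5658882)])])]), (111, [(150, []), (119, [(150, [])]), (102, [])]), (95, [(166, []), (119, [(166, [])]), (86, [])])]), (34, [(250, [(219, []), (159, []), (95, [(159, [(219, 0)])])]), (235, []), (195, [(219, []), (166, []), (102, [(166, [(219, 0)])]), (51, [(219, [(166, 5921026), (102, 1)])])]), (190, [(219, []), (183, [(219, [])]), (166, []), (159, [(166, [(219, 7895298), (183, 5658882)])])]), (175, [(183, []), (166, []), (95, [(183, [(166, 0)])])]), (150, [(183, []), (159, []), (102, [(183, [(159, 0)])]), (51, [(159, [(183, 5921026), (102,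 9599234)])])]), (126, [(219, []), (119, [(219, [])]), (102, []), (95, [(102, [(219, 7895298), (119, 5658882)])])]), (111, [(159, []), (119, [(159, [])]), (102, [])]), (86, [(166, []), (119, [(166, [])]), (95, []), (51, [(95, [(166, 5921026), (119, 5921026)])])])]), (18, [(250, [(235, []), (175, []), (111, [(175, [(235, 0)])])]), (219, []), (195, [(235, []), (150, []), (86, [(150, [(235, 0)])]), (51, [(235, [(150, 1), (86, 5921026)])])]), (190, [(235, []), (183, [(235, [])]), (175, []), (150, [(175, [(235, 5658882), (183, 8026370)])])]), (166, [(183, []), (175, []), (86, [(183, [(175, 0)])]), (51, [(175, [(183, 5921026), (86, 5921026)])])]), (159, [(183, []), (150, []), (111, [(183, [(150, 0)])])]), (126, [(235, []), (119, [(235, [])]), (111, []), (86, [(111, [(235, 5658882), (119, 8026370)])])]), (102, [(150, []), (119, [(150, [])]), (111, []), (51, [(111, [(150, 11696386), (119, 5921026)])])]), (95, [(175, []), (119, [(175, [])]), (86, [])]), (34, [(183, []), (119, [(183, [])]), (51, [])])]), (10, [(235, [(250, []), (175, []), (111, [(175, [(250, 0)])]), (18, [(250, [(175, 5921026), (111, 5921026)])])]),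 (219, [(250, []), (159, []), (95, [(159, [(250, 0)])]), (34, [(250, [(159, 5921026), (95, 5921026)])])]), (195, []), (190, [(250, []), (183, [(250, [])]), (175, []), (159, [(175, [(250, 9853186), (183, 11950338)])])]), (166, [(183, []), (175, []), (95, [(183, [(175, 0)])]), (34, [(175, [(183, 8157442), (95, 14309634)])])]), (150, [(183, []), (159, []), (111, [(183, [(159, 0)])]), (18, [(159, [(183, 5527810), (111, 14309634)])])]), (126, [(250, []), (119, [(250, [])]), (111, []), (95, [(111, [(250, 9853186), (119, 11950338)])])]), (102, [(159, []), (119, [(159, [])]), (111, []), (34, [(111, [(159, 16406786), (119, 5527810)])])]), (86, [(175, []), (119, [(175, [])]), (95, []), (18, [(95, [(175, 16406786), (119, 8157442)])])]), (51, [(183, []), (119, [(183, [])]), (34, []), (18, [(34, [(183, 5527810), (119, 5527810)])])])])] = true := by decide +kernel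

theorem ct0_59 : T0.chk1 sv0 lo0 59 [(246, []), (231, []), (215, [(231, [(246, [])])]), (195, [(246, [(231, []), (215, [(231, [])])])]), (190, []), (187, [(246, [(190, [])]), (231, [(190, [])]), (215, [(190, [])]), (195, [(190, [])])]), (175, [(215, [(246, []), (190, [])]), (195, [(231, []), (190, [])])]), (170, [(246, [(215, []), (190, []), (175, [(215, [(190, 0)])])]), (231, [(195, []), (190, []), (175, [(195, [(190, 0)])])])]), (159, [(231, [(246, []), (190, [])]), (195, [(215, []), (190, [])]), (175, [(246, []), (190, []), (187, [(246, [(190, 0)])])]), (170, [(215, []), (190, []), (187, [(215, [(190, 0)])])])]), (154, [(246, [(231, []), (190, []), (159, [(231, [(190, 0)])])]), (215, [(195, []), (190, []), (159, [(195, [(190, 0)])])]), (175, [(231, []), (190, []), (187, [(231, [(190, 0)])])]), (170, [(195, []), (190, []), (187, [(195, [(190, 0)])])])]), (126, [(190, [(246, []), (231, []), (215, [(231, [(246, 0)])]), (195, [(246, [(231, 14326018), (215, 9738498)])])]), (187, []), (175, [(246, []), (231, [])]), (170, [(215, []), (195, [])]), (159, [(246, []), (215, [])]), (154, [(231, []), (195,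 [])])]), (123, [(246, [(126, [])]), (231, [(126, [])]), (215, [(126, [])]), (195, [(126, [])]), (190, []), (187, []), (175, []), (170, []), (159, []), (154, [])]), (111, [(215, [(246, []), (159, []), (126, [(159, [(246, 0)])])]), (195, [(231, []), (154, []), (126, [(154, [(231, 0)])])]), (190, [(246, []), (231, []), (159, [(231, [(246, 0)])]), (154, [(246, [(231, 9591042), (159, 9591042)])])]), (187, [(159, []), (154, [])]), (175, [(246, []), (231, [])]), (170, [])]), (106, [(246, [(215, []), (159, []), (126, [(159, [(215, 0)])]), (111, [(215, [(159, 11688194), (126, 11688194)])])]), (231, [(195, []), (154, []), (126, [(154, [(195, 0)])]), (111, [(195, [(154, 6052098), (126, 16013570)])])]), (190, [(215, []), (195, []), (159, [(195, [(215, 0)])]), (154, [(215, [(195, 14178562), (159, 5527810)])])]), (187, [(159, []), (154, [])]), (175, []), (170, [(215, []), (195, [])])]), (95, [(231, [(246, []), (175, []), (126, [(175, [(246, 0)])])]), (195, [(215, []), (170, []), (126, [(170, [(215, 0)])])]), (190, [(246, []), (215, []), (175, [(215, [(246, 0)])]), (170, [(246, [(215, 11688194), (175, 11688194)])])]),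 (187, [(175, []), (170, [])]), (159, [(246, []), (215, [])]), (154, []), (111, [(246, []), (126, []), (123, [(246, [(126, 0)])])]), (106, [(215, []), (126, []), (123, [(215, [(126, 0)])])])]), (90, [(246, [(231, []), (175, []), (126, [(175, [(231, 0)])]), (95, [(231, [(175, 9591042), (126, 9591042)])])]), (215, [(195, []), (170, []), (126, [(170, [(195, 0)])]), (95, [(195, [(170, 7764226), (126, 16013570)])])]), (190, [(231, []), (195, []), (175, [(195, [(231, 0)])]), (170, [(231, [(195, 5658882), (175, 7764226)])])]), (187, [(175, []), (170, [])]), (159, []), (154, [(231, []), (195, [])]), (111, [(231, []), (126, []), (123, [(231, [(126, 0)])])]), (106, [(195, []), (126, []), (123, [(195, [(126, 0)])])])]), (51, [(246, []), (231, [(195, []), (154, []), (90, [(154, [(195, 0)])])]), (215, [(195, []), (170, []), (106, [(170, [(195, 0)])])]), (190, [(195, []), (187, [(195, [])]), (170, []), (154, [(170, [(195, 5789954), (187, 5921026)])])]), (175, [(187, []), (170, []), (90, [(187, [(170, 0)])])]), (159, [(187, []), (154, []), (106, [(187, [(154, 0)])])]), (126, [(195, []), (123, [(195, [])]), (106,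 []), (90, [(106, [(195, 5789954), (123, 5921026)])])]), (111, [(154, []), (123, [(154, [])]), (106, [])]), (95, [(170, []), (123, [(170, [])]), (90, [])])]), (34, [(246, [(215, []), (159, []), (95, [(159, [(215, 0)])])]), (231, []), (195, [(215, []), (170, []), (106, [(170, [(215, 0)])]), (51, [(215, [(170, 1), (106, 5396994)])])]), (190, [(215, []), (187, [(215, [])]), (170, []), (159, [(170, [(215, 5789954), (187, 5921026)])])]), (175, [(187, []), (170, []), (95, [(187, [(170, 0)])])]), (154, [(187, []), (159, []), (106, [(187, [(159, 0)])]), (51, [(159, [(187, 9591042), (106, 9591042)])])]), (126, [(215, []), (123, [(215, [])]), (106, []), (95, [(106, [(215, 5789954), (123, 5921026)])])]), (111, [(159, []), (123, [(159, [])]), (106, [])]), (90, [(170, []), (123, [(170, [])]), (95, []), (51, [(95, [(170, 9591042), (123, 9591042)])])])]), (18, [(246, [(231, []), (175, []), (111, [(175, [(231, 0)])])]), (215, []), (195, [(231, []), (154, []), (90, [(154, [(231, 0)])]), (51, [(231, [(154, 5396994), (90, 1)])])]), (190, [(231, []), (187, [(231, [])]), (175, []), (154, [(175, [(231, 5789954), (187,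 5921026)])])]), (170, [(187, []), (175, []), (90, [(187, [(175, 0)])]), (51, [(175, [(187, 11688194), (90, 11688194)])])]), (159, [(187, []), (154, []), (111, [(187, [(154, 0)])])]), (126, [(231, []), (123, [(231, [])]), (111, []), (90, [(111, [(231, 5789954), (123, 5921026)])])]), (106, [(154, []), (123, [(154, [])]), (111, []), (51, [(111, [(154, 11688194), (123, 11688194)])])]), (95, [(175, []), (123, [(175, [])]), (90, [])]), (34, [(187, []), (123, [(187, [])]), (51, [])])]), (6, [(231, [(246, []), (175, []), (111, [(175, [(246, 0)])]), (18, [(246, [(175, 8026370), (111, 5396994)])])]), (215, [(246, []), (159, []), (95, [(159, [(246, 0)])]), (34, [(246, [(159, 5396994), (95, 8026370)])])]), (195, []), (190, [(246, []), (187, [(246, [])]), (175, []), (159, [(175, [(246, 5789954), (187, 5921026)])])]), (170, [(187, []), (175, []), (95, [(187, [(175, 0)])]), (34, [(175, [(187, 6052098), (95, 6052098)])])]), (154, [(187, []), (159, []), (111, [(187, [(159, 0)])]), (18, [(159, [(187, 6052098), (111, 6052098)])])]), (126, [(246, []), (123, [(246, [])]), (111, []), (95, [(111, [(246, 5789954), (123,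 5921026)])])]), (106, [(159, []), (123, [(159, [])]), (111, []), (34, [(111, [(159, 6052098), (123, 6052098)])])]), (90, [(175, []), (123, [(175, [])]), (95, []), (18, [(95, [(175, 6052098), (123, 6052098)])])]), (51, [(187, []), (123, [(187, [])]), (34, []), (18, [(34, [(187, 7633154), (123, 7633154)])])])])] = true := by decide +kernel

theorem ct0_62 : T0.chk1 sv0 lo0 62 [(190, []), (187, []), (183, [(187, [(190, [])])]), (175, []), (170, [(183, [(190, []), (175, [])])]), (166, [(187, [(190, []), (175, [])]), (170, [(190, []), (175, [])])]), (159, [(175, [(190, []), (187, []), (183, [(187, [(190, 0)])])]), (170, [(190, []), (187, [])]), (166, [(190, []), (183, [])])]), (154, [(183, [(190, []), (166, []), (159, [(166, [(190, 0)])])]), (175, [(190, []), (187, []), (166, [(187, [(190, 0)])])]), (170, [(190, []), (187, [])])]), (150, [(187, [(190, []), (170, []), (159, [(170, [(190, 0)])])]), (175, [(190, []), (183, []), (170, [(183, [(190, 0)])])]), (166, [(190, []), (183, [])]), (154, [(190, []), (159, [])])]), (130, [(187, [(190, []), (170, []), (154, [(170, [(190, 0)])])]), (183, [(190, []), (166,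 []), (150, [(166, [(190, 0)])])]), (175, [(190, []), (170, []), (166, [(170, [(190, 0)])])]), (159, [(190, []), (154, []), (150, [(154, [(190, 0)])])])]), (126, [(190, []), (187, []), (183, []), (175, []), (170, []), (166, []), (159, []), (154, []), (150, []), (130, [])]), (123, [(190, [(183, []), (166, []), (150, [(166, [(183, 0)])]), (130, [(183, [(166, 8157442), (150, 8157442)])])]), (187, []), (175, [(183, []), (166, [])]), (170, [(150, []), (130, [])]), (159, [(183, []), (150, [])]), (154, [(166, []), (130, [])])]), (119, [(190, [(187, []), (170, []), (154, [(170, [(187, 0)])]), (130, [(187, [(170, 6052098), (154, 6052098)])])]), (183, []), (175, [(187, []), (170, [])]), (166, [(154, []), (130, [])]), (159, [(187, []), (154, [])]), (150, [(170, []), (130, [])]), (123, [(130, []), (126, [(130, [])])])]), (111, [(190, [(159, []), (154, []), (150, [(154, [(159, 0)])]), (130, [(159, [(154, 14309634), (150, 5527810)])])]), (187, [(159, []), (154, []), (119, [(159, [(154, 0)])])]), (183, [(159, []), (150, []), (123, [(159, [(150, 0)])])]), (175, []), (170, [(150, []), (130, []), (119, [(150, [(130,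 0)])])]), (166, [(154, []), (130, []), (123, [(154, [(130, 0)])])])]), (106, [(190, [(183, []), (166, []), (159, [(166, [(183, 0)])]), (154, [(183, [(166, 9591042), (159, 9591042)])])]), (187, [(159, []), (154, [])]), (175, [(183, []), (166, [])]), (170, []), (150, [(183, []), (159, []), (123, [(159, [(183, 0)])]), (111, [(183, [(159, 11688450), (123, 11688450)])])]), (130, [(166, []), (154, []), (123, [(154, [(166, 0)])]), (111, [(166, [(154, 6052098), (123, 6052098)])])]), (119, [(154, []), (126, [(154, [])]), (111, [])])]), (102, [(190, [(187, []), (170, []), (159, [(170, [(187, 0)])]), (150, [(187, [(170, 6052098), (159, 6052098)])])]), (183, [(159, []), (150, [])]), (175, [(187, []), (170, [])]), (166, []), (154, [(187, []), (159, []), (119, [(159, [(187, 0)])]), (111, [(187, [(159, 9591298), (119, 9591298)])])]), (130, [(170, []), (150, []), (119, [(150, [(170, 0)])]), (111, [(170, [(150, 21446913), (119, 5396994)])])]), (123, [(150, []), (126, [(150, [])]), (111, [])]), (106, [(159, []), (126, [(159, [])]), (111, [])])]), (95, [(190, [(175, []), (170, []), (166, [(170, [(175, 0)])]), (130,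 [(175, [(170, 5659138), (166, 5527810)])])]), (187, [(175, []), (170, []), (119, [(175, [(170, 0)])])]), (183, [(175, []), (166, []), (123, [(175, [(166, 0)])])]), (159, []), (154, [(166, []), (130, []), (119, [(166, [(130, 0)])])]), (150, [(170, []), (130, []), (123, [(170, [(130, 0)])])]), (111, [(130, []), (126, [(130, [])]), (123, []), (119, [(123, [(130, 5527810), (126, 5658882)])])]), (106, [(166, []), (126, [(166, [])]), (123, [])]), (102, [(170, []), (126, [(170, [])]), (119, [])])]), (90, [(190, [(183, []), (175, []), (170, [(183, [(175, 0)])]), (150, [(175, [(183, 11688194), (170, 11688194)])])]), (187, [(175, []), (170, []), (102, [(175, [(170, 0)])])]), (166, [(183, []), (175, []), (123, [(175, [(183, 0)])]), (95, [(183, [(175, 9591298), (123, 9591298)])])]), (159, [(183, []), (150, []), (102, [(183, [(150, 0)])])]), (154, []), (130, [(170, []), (150, []), (123, [(170, [(150, 0)])]), (95, [(150, [(170, 21315841), (123, 6052098)])])]), (119, [(170, []), (126, [(170, [])]), (102, []), (95, [(102, [(170, 9591042), (126, 9591042)])])]), (111, [(150, []), (126, [(150, [])]), (123, []), (102,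 [(123, [(150, 5527810), (126, 5658882)])])]), (106, [(183, []), (126, [(183, [])]), (123, [])])]), (86, [(190, [(187, []), (175, []), (166, [(187, [(175, 0)])]), (154, [(175, [(187, 5921026), (166, 5789954)])])]), (183, [(175, []), (166, []), (106, [(175, [(166, 0)])])]), (170, [(187, []), (175, []), (119, [(175, [(187, 0)])]), (95, [(187, [(175, 11688450), (119, 11688450)])])]), (159, [(187, []), (154, []), (106, [(187, [(154, 0)])])]), (150, []), (130, [(166, []), (154, []), (119, [(166, [(154, 0)])]), (95, [(154, [(166, 5396994), (119, 8157442)])])]), (123, [(166, []), (126, [(166, [])]), (106, []), (95, [(106, [(166, 5789954), (126, 5921026)])])]), (111, [(154, []), (126, [(154, [])]), (119, []), (106, [(119, [(154, 11688194), (126, 11688194)])])]), (102, [(187, []), (126, [(187, [])]), (119, [])]), (90, [(175, []), (126, [(175, [])]), (95, [])])]), (66, [(190, [(187, []), (183, [(187, [])]), (175, []), (159, [(175, [(187, 5921026), (183, 5789954)])])]), (170, [(187, []), (175, []), (102, [(175, [(187, 0)])]), (90, [(187, [(175, 5921026), (102, 23421185)])])]), (166, [(183, []), (175, []), (106,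 [(175, [(183, 0)])]), (86, [(183, [(175, 8026370), (106, 5396994)])])]), (154, [(187, []), (159, []), (106, [(187, [(159, 0)])]), (86, [(159, [(187, 6052098), (106, 6052098)])])]), (150, [(183, []), (159, []), (102, [(183, [(159, 0)])]), (90, [(159, [(183, 5396994), (102, 23552257)])])]), (130, []), (123, [(183, []), (126, [(183, [])]), (106, []), (90, [(106, [(183, 5789954), (126, 5921026)])])]), (119, [(187, []), (126, [(187, [])]), (102, []), (86, [(102, [(187, 7895298), (126, 8026370)])])]), (111, [(159, []), (126, [(159, [])]), (106, []), (102, [(106, [(159, 6052098), (126, 16144642)])])]), (95, [(175, []), (126, [(175, [])]), (90, []), (86, [(90, [(175, 6052098), (126, 16144642)])])])])] = true := by decide +kernel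

theorem ct0_70 : T0.chk1 sv0 lo0 70 [(250, []), (238, []), (231, [(250, [(238, [])])]), (222, [(238, [(250, [])]), (231, [])]), (215, [(250, [(222, [])]), (238, []), (231, [])]), (195, [(250, []), (238, [(231, [])]), (222, [(215, [])])]), (190, []), (183, [(250, [(238, []), (222, [(238, [])]), (190, [])]), (195, [(231, []), (215, [(231, [])]), (190, [])])]), (170, [(231, [(238, []), (195, [(238, [])]), (190, [])]), (222, [(250, []), (215, [(250, [])]), (190, [])]), (183, [(238, []), (215, [(238, [])]), (190, [])])]), (154, [(238, [(250, []), (231, [(250, [])]), (190, [])]), (215, [(222, []), (195, [(222, [])]), (190, [])]), (183, [(231, []), (222, [(231, [])]), (190, [])]), (170, [(250, []), (195, [(250, [])]), (190, [])])]), (123, [(231, [(238, []), (183, [])]), (215, [(222, []), (183, [])]), (195, []), (190, [(250, []), (238, []), (222, [(238, [(250, 0)])]), (183, [(250, [(238, 15890690), (222, 5921026)])])]), (170, [(250, []), (238, [])]), (154, [(250, []), (222, [])])]), (111, [(222, [(250, []), (154, []), (123, [(154, [(250, 0)])])]), (215, []), (195, [(231, []), (154, [])]), (190, [(250, []),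 (238, []), (231, [(250, [(238, 0)])]), (154, [(238, [(250, 7633154), (231, 16013570)])])]), (183, [(238, []), (231, []), (123, [(231, [(238, 0)])])]), (170, [(250, []), (238, [])])]), (102, [(250, [(238, []), (170, []), (111, [(170, [(238, 0)])])]), (222, []), (215, [(195, []), (170, [])]), (190, [(238, []), (231, []), (195, [(238, [(231, 0)])]), (170, [(231, [(238, 7764226), (195, 5658882)])])]), (183, [(238, []), (231, [])]), (154, [(231, []), (195, []), (111, [(195, [(231, 0)])])]), (123, [(238, []), (111, [])])]), (95, [(238, [(250, []), (170, []), (123, [(170, [(250, 0)])])]), (231, []), (195, [(215, []), (170, [])]), (190, [(250, []), (222, []), (215, [(250, [(222, 0)])]), (170, [(222, [(250, 21315841), (215, 16013570)])])]), (183, [(222, []), (215, []), (123, [(215, [(222, 0)])])]), (154, [(250, []), (222, [])]), (111, [(250, []), (123, [])]), (102, [(170, [])])]), (86, [(250, [(222, []), (154, []), (95, [(154, [(222, 0)])])]), (238, []), (231, [(195, []), (154, [])]), (190, [(222, []), (215, []), (195, [(222, [(215, 0)])]), (154, [(215, [(222, 7764226), (195, 5658882)])])]), (183, [(222,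 []), (215, [])]), (170, [(215, []), (195, []), (95, [(195, [(215, 0)])])]), (123, [(222, []), (95, [])]), (111, [(154, [])]), (102, [(195, [])])]), (66, [(250, []), (238, [(231, []), (183, []), (102, [(183, [(231, 0)])])]), (222, [(215, []), (183, []), (86, [(183, [(215, 0)])])]), (190, [(231, []), (215, [(231, [])]), (195, []), (183, [(195, [(231, 5658882), (215, 5658882)])])]), (170, [(215, []), (195, []), (102, [(215, [(195, 0)])])]), (154, [(231, []), (195, []), (86, [(231, [(195, 0)])])]), (123, [(183, [])]), (111, [(231, []), (102, [])]), (95, [(215, []), (86, [])])]), (34, [(250, [(238, []), (170, []), (123, [(170, [(238, 0)])]), (95, [(238, [(170, 5658882), (123, 16161026)])])]), (231, [(238, []), (183, []), (102, [(183, [(238, 0)])]), (66, [(238, [(183, 5921026), (102, 5921026)])])]), (222, [(215, []), (183, []), (123, [(215, [(183, 0)])]), (95, [(183, [(215, 5658882), (123, 7895298)])])]), (195, [(215, []), (170, []), (102, [(215, [(170, 0)])]), (66, [(170, [(215, 1), (102, 5921026)])])]), (190, [(238, []), (215, [(238, [])]), (183, []), (170, [(183, [(238, 11950338), (215, 5658882)])])]),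 (154, []), (111, [(238, []), (123, []), (102, [(123, [(238, 0)])])]), (86, [(215, []), (95, []), (66, [(95, [(215, 0)])])])]), (18, [(250, [(222, []), (154, []), (123, [(154, [(222, 0)])]), (111, [(222, [(154, 5658882), (123, 7502338)])])]), (238, [(231, []), (183, []), (123, [(231, [(183, 0)])]), (111, [(183, [(231, 5658882), (123, 12343554)])])]), (215, [(222, []), (183, []), (86, [(183, [(222, 0)])]), (66, [(222, [(183, 5921026), (86, 8157442)])])]), (195, [(231, []), (154, []), (86, [(231, [(154, 0)])]), (66, [(154, [(231, 5921026), (86, 5921026)])])]), (190, [(231, []), (222, [(231, [])]), (183, []), (154, [(183, [(231, 5658882), (222, 11958530)])])]), (170, []), (102, [(231, []), (111, []), (66, [(111, [(231, 0)])])]), (95, [(222, []), (123, []), (86, [(123, [(222, 0)])])]), (34, [(183, []), (123, []), (66, [(123, [(183, 0)])])])]), (15, [(238, [(250, []), (170, []), (111, [(170, [(250, 0)])]), (102, [(250, [(170, 5921026), (111, 16144642)])])]), (231, [(195, []), (154, []), (111, [(195, [(154, 0)])]), (102, [(154, [(195, 5527810), (111, 14309634)])])]), (222, [(250, []), (154, []), (95, [(154,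 [(250, 0)])]), (86, [(250, [(154, 7764226), (95, 16144642)])])]), (215, [(195, []), (170, []), (95, [(195, [(170, 0)])]), (86, [(170, [(195, 7764226), (95, 14309634)])])]), (190, [(250, []), (195, [(250, [])]), (170, []), (154, [(170, [(250, 6052098), (195, 6183170)])])]), (183, []), (123, [(250, []), (111, []), (95, [(111, [(250, 0)])])]), (66, [(195, []), (102, []), (86, [(102, [(195, 0)])])]), (34, [(170, []), (102, []), (95, [(102, [(170, 0)])])]), (18, [(154, []), (111, []), (86, [(111, [(154, 0)])])])]), (6, [(250, [(123, []), (111, []), (95, [(111, [(123, 0)])]), (15, [(123, [(111, 15890690), (95, 5658882)])])]), (238, [(123, []), (111, []), (102, [(123, [(111, 0)])]), (34, [(111, [(123, 5658882), (102, 7764226)])])]), (231, [(111, []), (102, []), (66, [(111, [(102, 0)])]), (18, [(102, [(111, 6052098), (66, 6183170)])])]), (222, [(123, []), (95, []), (86, [(123, [(95, 0)])]), (18, [(95, [(123, 5658882), (86, 7764226)])])]), (215, [(95, []), (86, []), (66, [(95, [(86, 0)])]), (34, [(86, [(95, 6052098), (66, 6183170)])])]), (195, [(102, []), (86, [(102, [])]), (66, []), (15, [(66, [(102, 15890690),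 (86, 5789954)])])]), (190, []), (183, [(123, []), (66, [(123, [])]), (34, []), (18, [(34, [(123, 6052098), (66, 31678721)])])]), (170, [(102, []), (95, [(102, [])]), (34, []), (15, [(34, [(102, 1), (95, 9853186)])])]), (154, [(111, []), (86, [(111, [])]), (18, []), (15, [(18, [(111, 11950338), (86, 5658882)])])])])] = true := by decide +kernel

theorem ct0_74 : T0.chk1 sv0 lo0 74 [(246, []), (238, []), (235, [(246, [(238, [])])]), (222, [(238, [(246, [])]), (235, [])]), (219, [(246, [(222, [])]), (238, []), (235, [])]), (195, [(246, []), (238, [(235, [])]), (222, [(219, [])])]), (190, []), (187, [(246, [(238, []), (222, [(238, [])]), (190, [])]), (195, [(235, []), (219, [(235, [])]), (190, [])])]), (166, [(235, [(238, []), (195, [(238, [])]), (190, [])]), (222, [(246, []), (219, [(246, [])]), (190, [])]), (187, [(238, []), (219, [(238, [])]), (190, [])])]), (150, [(238, [(246, []), (235, [(246, [])]), (190, [])]), (219, [(222, []), (195, [(222, [])]), (190, [])]), (187, [(235, []), (222, [(235, [])]), (190, [])]), (166, [(246, []), (195, [(246, [])]), (190, [])])]), (119, [(235, [(238, []), (187,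 [])]), (219, [(222, []), (187, [])]), (195, []), (190, [(246, []), (238, []), (222, [(238, [(246, 0)])]), (187, [(246, [(238, 15882498), (222, 15882498)])])]), (166, [(246, []), (238, [])]), (150, [(246, []), (222, [])])]), (111, [(222, [(246, []), (150, []), (119, [(150, [(246, 0)])])]), (219, []), (195, [(235, []), (150, [])]), (190, [(246, []), (238, []), (235, [(246, [(238, 0)])]), (150, [(238, [(246, 21446913), (235, 5658882)])])]), (187, [(238, []), (235, []), (119, [(235, [(238, 0)])])]), (166, [(246, []), (238, [])])]), (106, [(246, [(238, []), (166, []), (111, [(166, [(238, 0)])])]), (222, []), (219, [(195, []), (166, [])]), (190, [(238, []), (235, []), (195, [(238, [(235, 0)])]), (166, [(235, [(238, 5658882), (195, 7764226)])])]), (187, [(238, []), (235, [])]), (150, [(235, []), (195, []), (111, [(195, [(235, 0)])])]), (119, [(238, []), (111, [])])]), (95, [(238, [(246, []), (166, []), (119, [(166, [(246, 0)])])]), (235, []), (195, [(219, []), (166, [])]), (190, [(246, []), (222, []), (219, [(246, [(222, 0)])]), (166, [(222, [(246, 5527810), (219, 5658882)])])]), (187, [(222, []), (219,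 []), (119, [(219, [(222, 0)])])]), (150, [(246, []), (222, [])]), (111, [(246, []), (119, [])]), (106, [(166, [])])]), (90, [(246, [(222, []), (150, []), (95, [(150, [(222, 0)])])]), (238, []), (235, [(195, []), (150, [])]), (190, [(222, []), (219, []), (195, [(222, [(219, 0)])]), (150, [(219, [(222, 5658882), (195, 5527810)])])]), (187, [(222, []), (219, [])]), (166, [(219, []), (195, []), (95, [(195, [(219, 0)])])]), (119, [(222, []), (95, [])]), (111, [(150, [])]), (106, [(195, [])])]), (66, [(246, []), (238, [(235, []), (187, []), (106, [(187, [(235, 0)])])]), (222, [(219, []), (187, []), (90, [(187, [(219, 0)])])]), (190, [(235, []), (219, [(235, [])]), (195, []), (187, [(195, [(235, 15882498), (219, 15882498)])])]), (166, [(219, []), (195, []), (106, [(219, [(195, 0)])])]), (150, [(235, []), (195, []), (90, [(235, [(195, 0)])])]), (119, [(187, [])]), (111, [(235, []), (106, [])]), (95, [(219, []), (90, [])])]), (34, [(246, [(238, []), (166, []), (119, [(166, [(238, 0)])]), (95, [(238, [(166, 7764226), (119, 5396994)])])]), (235, [(238, []), (187, []), (106, [(187, [(238, 0)])]), (66, [(238,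 [(187, 6052098), (106, 6052098)])])]), (222, [(219, []), (187, []), (119, [(219, [(187, 0)])]), (95, [(187, [(219, 5921026), (119, 5789954)])])]), (195, [(219, []), (166, []), (106, [(219, [(166, 0)])]), (66, [(166, [(219, 8026370), (106, 8026370)])])]), (190, [(238, []), (219, [(238, [])]), (187, []), (166, [(187, [(238, 9853186), (219, 6052098)])])]), (150, []), (111, [(238, []), (119, []), (106, [(119, [(238, 0)])])]), (90, [(219, []), (95, []), (66, [(95, [(219, 0)])])])]), (18, [(246, [(222, []), (150, []), (119, [(150, [(222, 0)])]), (111, [(222, [(150, 7764226), (119, 14063874)])])]), (238, [(235, []), (187, []), (119, [(235, [(187, 0)])]), (111, [(187, [(235, 5921026), (119, 5789954)])])]), (219, [(222, []), (187, []), (90, [(187, [(222, 0)])]), (66, [(222, [(187, 6052098), (90, 6052098)])])]), (195, [(235, []), (150, []), (90, [(235, [(150, 0)])]), (66, [(150, [(235, 1), (90, 5396994)])])]), (190, [(235, []), (222, [(235, [])]), (187, []), (150, [(187, [(235, 6052098), (222, 11950338)])])]), (166, []), (106, [(235, []), (111, []), (66, [(111, [(235, 0)])])]), (95, [(222, []), (119, []),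 (90, [(119, [(222, 0)])])]), (34, [(187, []), (119, []), (66, [(119, [(187, 0)])])])]), (15, [(238, [(246, []), (166, []), (111, [(166, [(246, 0)])]), (106, [(246, [(166, 5658882), (111, 5527810)])])]), (235, [(195, []), (150, []), (111, [(195, [(150, 0)])]), (106, [(150, [(195, 5658882), (111, 5527810)])])]), (222, [(246, []), (150, []), (95, [(150, [(246, 0)])]), (90, [(246, [(150, 5658882), (95, 16152834)])])]), (219, [(195, []), (166, []), (95, [(195, [(166, 0)])]), (90, [(166, [(195, 5658882), (95, 14317826)])])]), (190, [(246, []), (195, [(246, [])]), (166, []), (150, [(166, [(246, 8157442), (195, 5396994)])])]), (187, []), (119, [(246, []), (111, []), (95, [(111, [(246, 0)])])]), (66, [(195, []), (106, []), (90, [(106, [(195, 0)])])]), (34, [(166, []), (106, []), (95, [(106, [(166, 0)])])]), (18, [(150, []), (111, []), (90, [(111, [(150, 0)])])])]), (10, [(246, [(119, []), (111, []), (95, [(111, [(119, 0)])]), (15, [(119, [(111, 15882498), (95, 15882498)])])]), (238, [(119, []), (111, []), (106, [(119, [(111, 0)])]), (34, [(111, [(119, 5527810), (106, 5658882)])])]), (235, [(111, []), (106,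 []), (66, [(111, [(106, 0)])]), (18, [(106, [(111, 5658882), (66, 5527810)])])]), (222, [(119, []), (95, []), (90, [(119, [(95, 0)])]), (18, [(95, [(119, 5527810), (90, 5658882)])])]), (219, [(95, []), (90, []), (66, [(95, [(90, 0)])]), (34, [(90, [(95, 5658882), (66, 5527810)])])]), (195, [(106, []), (90, [(106, [])]), (66, []), (15, [(66, [(106, 15882498), (90, 15882498)])])]), (190, []), (187, [(119, []), (66, [(119, [])]), (34, []), (18, [(34, [(119, 29581569), (66, 5396994)])])]), (166, [(106, []), (95, [(106, [])]), (34, []), (15, [(34, [(106, 6052098), (95, 6052098)])])]), (150, [(111, []), (90, [(111, [])]), (18, []), (15, [(18, [(111, 6052098), (90, 1)])])])])] = true := by decide +kernel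

theorem ct0_79 : T0.chk1 sv0 lo0 79 [(238, []), (235, []), (231, [(235, [(238, [])])]), (222, [(238, []), (235, []), (231, [])]), (219, [(238, [(231, [])]), (235, [])]), (215, [(238, [(235, [])]), (231, []), (219, [(222, [])])]), (190, []), (187, [(231, [(238, []), (219, [(238, [])]), (190, [])]), (215, [(235, []), (222, [(235, [])]), (190, [])])]), (183, [(235, [(238, []), (215, [(238, [])]), (190, [])]), (219, [(231, []), (222, [(231, [])]), (190, [])]), (187, [(238, []), (222, [(238, [])]), (190, [])])]), (130, [(238, [(235, []), (231, [(235, [])]), (190, [])]), (222, [(219, []), (215, [(219, [])]), (190, [])]), (187, [(235, []), (219, [(235, [])]), (190, [])]), (183, [(231, []), (215, [(231, [])]), (190, [])])]), (111, [(222, []), (219, [(231, []), (130, [])]), (215, [(235, []), (130, [])]), (190, [(238, []), (235, []), (231, [(235, [(238, 0)])]), (130, [(238, [(235, 5658882), (231, 5527810)])])]), (187, [(238, []), (235, [])]), (183, [(238, []), (231, [])])]), (106, [(231, [(238, []), (183, []), (111, [(183, [(238, 0)])])]), (222, [(215, []), (183, [])]), (219, []), (190, [(238, []), (235,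 []), (215, [(238, [(235, 0)])]), (183, [(235, [(238, 5658882), (215, 5527810)])])]), (187, [(238, []), (235, [])]), (130, [(235, []), (215, []), (111, [(215, [(235, 0)])])])]), (102, [(235, [(238, []), (187, []), (111, [(187, [(238, 0)])])]), (222, [(219, []), (187, [])]), (215, []), (190, [(238, []), (231, []), (219, [(238, [(231, 0)])]), (187, [(231, [(238, 15882498), (219, 15882498)])])]), (183, [(238, []), (231, [])]), (130, [(231, []), (219, []), (111, [(219, [(231, 0)])])]), (106, [(238, []), (111, [])])]), (95, [(238, []), (235, [(215, []), (130, [])]), (231, [(219, []), (130, [])]), (190, [(222, []), (219, []), (215, [(219, [(222, 0)])]), (130, [(222, [(219, 5658882), (215, 5527810)])])]), (187, [(222, []), (219, [])]), (183, [(222, []), (215, [])]), (111, [(130, [])]), (106, [(215, [])]), (102, [(219, [])])]), (90, [(238, [(231, []), (183, []), (102, [(183, [(231, 0)])])]), (235, []), (215, [(222, []), (183, []), (95, [(183, [(222, 0)])])]), (190, [(231, []), (222, [(231, [])]), (219, []), (183, [(219, [(231, 5527810), (222, 5658882)])])]), (187, [(222, []), (219, []), (102, [(222, [(219,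 0)])])]), (130, [(231, []), (219, []), (95, [(231, [(219, 0)])])]), (111, [(231, []), (102, [])]), (106, [(183, [])])]), (86, [(238, [(235, []), (187, []), (106, [(187, [(235, 0)])])]), (231, []), (219, [(222, []), (187, []), (95, [(187, [(222, 0)])])]), (190, [(235, []), (222, [(235, [])]), (215, []), (187, [(215, [(235, 15882498), (222, 15882498)])])]), (183, [(222, []), (215, []), (106, [(222, [(215, 0)])])]), (130, [(235, []), (215, []), (95, [(235, [(215, 0)])])]), (111, [(235, []), (106, [])]), (102, [(187, [])]), (90, [(222, []), (95, [])])]), (51, [(235, [(238, []), (187, []), (106, [(187, [(238, 0)])]), (86, [(238, [(187, 6052098), (106, 16161026)])])]), (231, [(238, []), (183, []), (102, [(183, [(238, 0)])]), (90, [(238, [(183, 8157442), (102, 5396994)])])]), (219, [(222, []), (187, []), (102, [(222, [(187, 0)])]), (90, [(187, [(222, 5921026), (102, 5789954)])])]), (215, [(222, []), (183, []), (106, [(222, [(183, 0)])]), (86, [(183, [(222, 8026370), (106, 14326018)])])]), (190, [(238, []), (222, [(238, [])]), (187, []), (183, [(187, [(238, 9853186), (222, 11950338)])])]), (130, []), (111,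 [(238, []), (106, []), (102, [(106, [(238, 0)])])]), (95, [(222, []), (90, []), (86, [(90, [(222, 0)])])])]), (15, [(238, [(111, []), (106, []), (102, [(106, [(111, 0)])]), (51, [(111, [(106, 5658882), (102, 5527810)])])]), (235, [(111, []), (106, []), (86, [(111, [(106, 0)])])]), (231, [(111, []), (102, []), (90, [(111, [(102, 0)])])]), (222, [(95, []), (90, []), (86, [(90, [(95, 0)])]), (51, [(95, [(90, 5658882), (86, 7764226)])])]), (219, [(102, []), (95, [(102, [])]), (90, [])]), (215, [(106, []), (95, [(106, [])]), (86, [])]), (190, []), (187, [(102, []), (86, [(102, [])]), (51, [])]), (183, [(106, []), (90, [(106, [])]), (51, [])]), (130, [(111, []), (95, [(111, [])])])]), (10, [(238, [(231, []), (183, []), (111, [(183, [(231, 0)])]), (106, [(231, [(183, 5658882), (111, 5527810)])])]), (235, [(215, []), (130, []), (111, [(215, [(130, 0)])]), (106, [(130, [(215, 5658882), (111, 5527810)])])]), (222, [(215, []), (183, []), (95, [(183, [(215, 0)])]), (90, [(215, [(183, 5658882), (95, 5527810)])])]), (219, [(231, []), (130, []), (95, [(231, [(130, 0)])]), (90, [(130, [(231, 5658882), (95, 5527810)])])]),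 (190, [(231, []), (215, [(231, [])]), (183, []), (130, [(183, [(231, 8157442), (215, 5396994)])])]), (187, []), (102, [(231, []), (111, []), (90, [(111, [(231, 0)])]), (15, [(231, [(111, 15882498), (90, 15882498)])])]), (86, [(215, []), (106, []), (95, [(106, [(215, 0)])]), (15, [(215, [(106, 15882498), (95, 15882498)])])]), (51, [(183, []), (106, []), (90, [(106, [(183, 0)])]), (15, [(183, [(106, 6052098), (90, 1)])])])]), (6, [(238, [(235, []), (187, []), (111, [(187, [(235, 0)])]), (102, [(235, [(187, 6052098), (111, 7633154)])])]), (231, [(219, []), (130, []), (111, [(219, [(130, 0)])]), (102, [(130, [(219, 7764226), (111, 7633154)])])]), (222, [(219, []), (187, []), (95, [(187, [(219, 0)])]), (86, [(219, [(187, 6052098), (95, 6052098)])])]), (215, [(235, []), (130, []), (95, [(235, [(130, 0)])]), (86, [(130, [(235, 7764226), (95, 5396994)])])]), (190, [(235, []), (219, [(235, [])]), (187, []), (130, [(187, [(235, 6052098), (219, 6052098)])])]), (183, []), (106, [(235, []), (111, []), (86, [(111, [(235, 0)])]), (15, [(235, [(111, 5921026), (86, 5789954)])])]), (90, [(219, []), (102, []), (95,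 [(102, [(219, 0)])]), (15, [(219, [(102, 15890690), (95, 5921026)])])]), (51, [(187, []), (102, []), (86, [(102, [(187, 0)])]), (15, [(187, [(102, 1), (86, 5396994)])])]), (10, [(130, []), (111, []), (95, [(111, [(130, 0)])]), (15, [(130, [(111, 6183170), (95, 6183426)])])])])] = true := by decide +kernel

theorem ct0_82 : T0.chk1 sv0 lo0 82 [(250, []), (246, [(250, [])]), (238, []), (219, [(246, []), (238, [(250, [])])]), (215, [(250, []), (238, [(246, [])]), (219, [])]), (195, [(250, [(219, [])]), (246, [(215, [])]), (238, [])]), (190, []), (170, [(246, [(238, []), (215, [(238, [])]), (190, [])]), (219, [(250, []), (195, [(250, [])]), (190, [])])]), (166, [(250, [(238, []), (219, [(238, [])]), (190, [])]), (215, [(246, []), (195, [(246, [])]), (190, [])]), (170, [(238, []), (195, [(238, [])]), (190, [])])]), (159, [(238, [(250, []), (246, [(250, [])]), (190, [])]), (195, [(219, []), (215, [(219, [])]), (190, [])]), (170, [(250, []), (215, [(250, [])]), (190, [])]), (166, [(246, []), (219, [(246, [])]), (190, [])])]), (123, [(246, [(238, []), (166, [])]), (215, []), (195, [(219, []), (166, [])]),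 (190, [(250, []), (238, []), (219, [(238, [(250, 0)])]), (166, [(250, [(238, 11843842), (219, 7764226)])])]), (170, [(250, []), (238, [])]), (159, [(250, []), (219, [])])]), (119, [(250, [(238, []), (170, [])]), (219, []), (195, [(215, []), (170, [])]), (190, [(246, []), (238, []), (215, [(238, [(246, 0)])]), (170, [(246, [(238, 29835777), (215, 5658882)])])]), (166, [(246, []), (238, [])]), (159, [(246, []), (215, [])]), (123, [(238, [])])]), (111, [(219, [(250, []), (159, []), (123, [(159, [(250, 0)])])]), (215, [(246, []), (159, []), (119, [(159, [(246, 0)])])]), (195, []), (190, [(250, []), (246, [(250, [])]), (238, []), (159, [(238, [(250, 16021762), (246, 16013570)])])]), (170, [(250, []), (238, []), (119, [(250, [(238, 0)])])]), (166, [(246, []), (238, []), (123, [(246, [(238, 0)])])])]), (90, [(246, []), (238, [(250, []), (170, []), (123, [(170, [(250, 0)])])]), (215, [(195, []), (170, [])]), (190, [(250, []), (219, []), (195, [(250, [(219, 0)])]), (170, [(219, [(250, 6052098), (195, 16013570)])])]), (166, [(219, []), (195, []), (123, [(195, [(219, 0)])])]), (159, [(250, []), (219, [])]),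 (119, [(170, [])]), (111, [(250, []), (123, [])])]), (86, [(250, []), (238, [(246, []), (166, []), (119, [(166, [(246, 0)])])]), (219, [(195, []), (166, [])]), (190, [(246, []), (215, []), (195, [(246, [(215, 0)])]), (166, [(215, [(246, 5658882), (195, 5658882)])])]), (170, [(215, []), (195, []), (119, [(195, [(215, 0)])])]), (159, [(246, []), (215, [])]), (123, [(166, [])]), (111, [(246, []), (119, [])]), (90, [(195, [])])]), (66, [(250, [(219, []), (159, []), (90, [(159, [(219, 0)])])]), (246, [(215, []), (159, []), (86, [(159, [(215, 0)])])]), (238, []), (190, [(219, []), (215, [(219, [])]), (195, []), (159, [(195, [(219, 7764226), (215, 5658882)])])]), (170, [(215, []), (195, []), (90, [(215, [(195, 0)])])]), (166, [(219, []), (195, []), (86, [(219, [(195, 0)])])]), (123, [(219, []), (90, [])]), (119, [(215, []), (86, [])]), (111, [(159, [])])]), (51, [(250, [(238, []), (170, []), (123, [(170, [(238, 0)])]), (90, [(238, [(170, 5658882), (123, 5658882)])])]), (246, [(238, []), (166, []), (119, [(166, [(238, 0)])]), (86, [(238, [(166, 5921026), (119, 5921026)])])]), (219, [(195, []), (166, []),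 (123, [(195, [(166, 0)])]), (90, [(166, [(195, 5658882), (123, 14047490)])])]), (215, [(195, []), (170, []), (119, [(195, [(170, 0)])]), (86, [(170, [(195, 7764226), (119, 5921026)])])]), (190, [(238, []), (195, [(238, [])]), (170, []), (166, [(170, [(238, 5658882), (195, 7764226)])])]), (159, []), (111, [(238, []), (123, []), (119, [(123, [(238, 0)])])]), (66, [(195, []), (90, []), (86, [(90, [(195, 0)])])])]), (18, [(250, [(123, []), (111, []), (90, [(111, [(123, 0)])])]), (246, [(119, []), (111, []), (86, [(111, [(119, 0)])])]), (238, [(123, []), (119, [(123, [])]), (111, []), (51, [(111, [(123, 5658882), (119, 7764226)])])]), (219, [(123, []), (90, []), (66, [(123, [(90, 0)])])]), (215, [(119, []), (86, []), (66, [(119, [(86, 0)])])]), (195, [(90, []), (86, [(90, [])]), (66, []), (51, [(66, [(90, 15907074), (86, 6183170)])])]), (190, []), (170, [(119, []), (90, [(119, [])]), (51, [])]), (166, [(123, []), (86, [(123, [])]), (51, [])]), (159, [(111, []), (66, [(111, [])])])]), (10, [(246, [(215, []), (159, []), (119, [(159, [(215, 0)])]), (111, [(215, [(159, 5527810), (119, 7764226)])])]), (238,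 [(250, []), (170, []), (119, [(250, [(170, 0)])]), (111, [(170, [(250, 6052098), (119, 16144642)])])]), (219, [(250, []), (159, []), (90, [(159, [(250, 0)])]), (66, [(250, [(159, 8157442), (90, 16144642)])])]), (195, [(215, []), (170, []), (90, [(215, [(170, 0)])]), (66, [(170, [(215, 1), (90, 14309634)])])]), (190, [(250, []), (215, [(250, [])]), (170, []), (159, [(170, [(250, 6052098), (215, 11950338)])])]), (166, []), (123, [(250, []), (111, []), (90, [(111, [(250, 0)])]), (18, [(250, [(111, 8157442), (90, 11950338)])])]), (86, [(215, []), (119, []), (66, [(119, [(215, 0)])]), (18, [(215, [(119, 5527810), (66, 5527810)])])]), (51, [(170, []), (119, []), (90, [(119, [(170, 0)])]), (18, [(170, [(119, 1), (90, 10115330)])])])]), (6, [(250, [(219, []), (159, []), (123, [(159, [(219, 0)])]), (111, [(219, [(159, 5658882), (123, 9992450)])])]), (238, [(246, []), (166, []), (123, [(246, [(166, 0)])]), (111, [(166, [(246, 5658882), (123, 16152834)])])]), (215, [(246, []), (159, []), (86, [(159, [(246, 0)])]), (66, [(246, [(159, 6052098), (86, 16152834)])])]), (195, [(219, []), (166, []), (86, [(219, [(166,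 0)])]), (66, [(166, [(219, 6052098), (86, 6183170)])])]), (190, [(246, []), (219, [(246, [])]), (166, []), (159, [(166, [(246, 5658882), (219, 11958530)])])]), (170, []), (119, [(246, []), (111, []), (86, [(111, [(246, 0)])]), (18, [(246, [(111, 6052098), (86, 11958530)])])]), (90, [(219, []), (123, []), (66, [(123, [(219, 0)])]), (18, [(219, [(123, 5658882), (66, 7633154)])])]), (51, [(166, []), (123, []), (86, [(123, [(166, 0)])]), (18, [(166, [(123, 6052098), (86, 6183170)])])]), (10, [(159, []), (111, []), (66, [(111, [(159, 0)])]), (18, [(159, [(111, 5658882), (66, 31695105)])])])])] = true := by decide +kernel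

theorem ct0_98 : T0.chk1 sv0 lo0 98 [(250, []), (246, [(250, [])]), (235, [(246, [])]), (231, [(250, []), (235, [])]), (222, [(235, [(250, [])]), (231, [(246, [])])]), (195, [(250, [(235, [])]), (246, [(231, [])]), (222, [])]), (190, []), (175, [(222, [(250, []), (246, [(250, [])]), (190, [])]), (195, [(235, []), (231, [(235, [])]), (190, [])])]), (154, [(246, [(231, []), (222, [(231, [])]), (190, [])]), (235, [(250, []), (195, [(250, [])]), (190, [])]), (175, [(250, []), (231, [(250, [])]), (190, [])])]), (150, [(250, [(235, []), (222, [(235, [])]), (190, [])]), (231, [(246, []), (195, [(246, [])]), (190, [])]), (175, [(246, []), (235, [(246, [])]), (190, [])]), (154, [(222, []), (195, [(222, [])]), (190, [])])]), (123, [(246, [(222, []), (150, [])]), (231, []), (195, [(235, []), (150, [])]), (190, [(250, []), (235, []), (222, [(235, [(250, 0)])]), (150, [(250, [(235, 7764226), (222, 29704705)])])]), (175, [(250, []), (235, [])]), (154, [(250, []), (222, [])])]), (119, [(250, [(222, []), (154, [])]), (235, []), (195, [(231, []), (154, [])]), (190, [(246, []), (231, []), (222, [(231, [(246, 0)])]),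 (154, [(246, [(231, 5658882), (222, 9738498)])])]), (175, [(246, []), (231, [])]), (150, [(246, []), (222, [])]), (123, [(222, [])])]), (106, [(246, []), (231, [(195, []), (154, [])]), (222, [(250, []), (154, []), (123, [(154, [(250, 0)])])]), (190, [(250, []), (235, []), (195, [(250, [(235, 0)])]), (154, [(235, [(250, 7764226), (195, 16013570)])])]), (175, [(250, []), (235, [])]), (150, [(235, []), (195, []), (123, [(195, [(235, 0)])])]), (119, [(154, [])])]), (102, [(250, []), (235, [(195, []), (150, [])]), (222, [(246, []), (150, []), (119, [(150, [(246, 0)])])]), (190, [(246, []), (231, []), (195, [(246, [(231, 0)])]), (150, [(231, [(246, 8157442), (195, 5658882)])])]), (175, [(246, []), (231, [])]), (154, [(231, []), (195, []), (119, [(195, [(231, 0)])])]), (123, [(150, [])]), (106, [(195, [])])]), (95, [(235, [(250, []), (175, []), (123, [(175, [(250, 0)])])]), (231, [(246, []), (175, []), (119, [(175, [(246, 0)])])]), (195, []), (190, [(250, []), (246, [(250, [])]), (222, []), (175, [(222, [(250, 6052098), (246, 16013570)])])]), (154, [(250, []), (222, []), (119, [(250, [(222, 0)])])]), (150,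 [(246, []), (222, []), (123, [(246, [(222, 0)])])]), (106, [(250, []), (123, [])]), (102, [(246, []), (119, [])])]), (66, [(250, [(235, []), (175, []), (106, [(175, [(235, 0)])])]), (246, [(231, []), (175, []), (102, [(175, [(231, 0)])])]), (222, []), (190, [(235, []), (231, [(235, [])]), (195, []), (175, [(195, [(235, 7764226), (231, 5658882)])])]), (154, [(231, []), (195, []), (106, [(231, [(195, 0)])])]), (150, [(235, []), (195, []), (102, [(235, [(195, 0)])])]), (123, [(235, []), (106, [])]), (119, [(231, []), (102, [])]), (95, [(175, [])])]), (51, [(250, [(222, []), (154, []), (123, [(154, [(222, 0)])]), (106, [(222, [(154, 9984258), (123, 8026370)])])]), (246, [(222, []), (150, []), (119, [(150, [(222, 0)])]), (102, [(222, [(150, 5921026), (119, 7764226)])])]), (235, [(195, []), (150, []), (123, [(195, [(150, 0)])]), (106, [(150, [(195, 5658882), (123, 14047490)])])]), (231, [(195, []), (154, []), (119, [(195, [(154, 0)])]), (102, [(154, [(195, 5921026), (119, 14055682)])])]), (190, [(222, []), (195, [(222, [])]), (154, []), (150, [(154, [(222, 5658882), (195, 7764226)])])]), (175, []), (95,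 [(222, []), (123, []), (119, [(123, [(222, 0)])])]), (66, [(195, []), (106, []), (102, [(106, [(195, 0)])])])]), (34, [(250, [(123, []), (106, []), (95, [(106, [(123, 0)])])]), (246, [(119, []), (102, []), (95, [(102, [(119, 0)])])]), (235, [(123, []), (106, []), (66, [(123, [(106, 0)])])]), (231, [(119, []), (102, []), (66, [(119, [(102, 0)])])]), (222, [(123, []), (119, [(123, [])]), (95, []), (51, [(95, [(123, 5658882), (119, 7764226)])])]), (195, [(106, []), (102, [(106, [])]), (66, []), (51, [(66, [(106, 6052098), (102, 15898882)])])]), (190, []), (175, [(95, []), (66, [(95, [])])]), (154, [(119, []), (106, [(119, [])]), (51, [])]), (150, [(123, []), (102, [(123, [])]), (51, [])])]), (10, [(246, [(231, []), (175, []), (119, [(175, [(231, 0)])]), (95, [(231, [(175, 7764226), (119, 12081410)])])]), (235, [(250, []), (175, []), (106, [(175, [(250, 0)])]), (66, [(250, [(175, 5921026), (106, 16144642)])])]), (222, [(250, []), (154, []), (119, [(250, [(154, 0)])]), (95, [(154, [(250, 6052098), (119, 16144642)])])]), (195, [(231, []), (154, []), (106, [(231, [(154, 0)])]), (66, [(154, [(231, 5527810),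 (106, 14309634)])])]), (190, [(250, []), (231, [(250, [])]), (175, []), (154, [(175, [(250, 9853186), (231, 6183170)])])]), (150, []), (123, [(250, []), (106, []), (95, [(106, [(250, 0)])]), (34, [(250, [(106, 9853186), (95, 5921026)])])]), (102, [(231, []), (119, []), (66, [(119, [(231, 0)])]), (34, [(231, [(119, 5527810), (66, 5527810)])])]), (51, [(154, []), (119, []), (106, [(119, [(154, 0)])]), (34, [(154, [(119, 5527810), (106, 12212482)])])])]), (6, [(250, [(235, []), (175, []), (123, [(175, [(235, 0)])]), (95, [(235, [(175, 5658882), (123, 5658882)])])]), (231, [(246, []), (175, []), (102, [(175, [(246, 0)])]), (66, [(246, [(175, 6052098), (102, 6183170)])])]), (222, [(246, []), (150, []), (123, [(246, [(150, 0)])]), (95, [(150, [(246, 5658882), (123, 14047490)])])]), (195, [(235, []), (150, []), (102, [(235, [(150, 0)])]), (66, [(150, [(235, 1), (102, 6183170)])])]), (190, [(246, []), (235, [(246, [])]), (175, []), (150, [(175, [(246, 11950338), (235, 5658882)])])]), (154, []), (119, [(246, []), (102, []), (95, [(102, [(246, 0)])]), (34, [(246, [(102, 6183170), (95, 6052098)])])]), (106,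 [(235, []), (123, []), (66, [(123, [(235, 0)])]), (34, [(235, [(123, 5658882), (66, 7633154)])])]), (51, [(150, []), (123, []), (102, [(123, [(150, 0)])]), (34, [(150, [(123, 1), (102, 6183170)])])]), (10, [(175, []), (95, []), (66, [(95, [(175, 0)])]), (34, [(175, [(95, 29597953), (66, 7633154)])])])])] = true := by decide +kernel

theorem ct0_115 : T0.chk1 sv0 lo0 115 [(250, []), (246, [(250, [])]), (235, [(246, [])]), (231, [(250, []), (235, [])]), (219, [(246, [(231, [])]), (235, [(250, [])])]), (215, [(250, [(235, [])]), (231, [(246, [])]), (219, [])]), (190, []), (175, [(219, [(250, []), (231, [(250, [])]), (190, [])]), (215, [(246, []), (235, [(246, [])]), (190, [])])]), (159, [(235, [(250, []), (215, [(250, [])]), (190, [])]), (231, [(246, []), (219, [(246, [])]), (190, [])]), (175, [(250, []), (246, [(250, [])]), (190, [])])]), (130, [(250, [(235, []), (219, [(235, [])]), (190, [])]), (246, [(231, []), (215, [(231, [])]), (190, [])]), (175, [(235, []), (231, [(235, [])]), (190, [])]), (159, [(219, []), (215, [(219, [])]), (190, [])])]), (123, [(246, []), (231, [(219, []), (130, [])]), (215,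 [(235, []), (130, [])]), (190, [(250, []), (235, []), (219, [(235, [(250, 0)])]), (130, [(250, [(235, 7764226), (219, 5921026)])])]), (175, [(250, []), (235, [])]), (159, [(250, []), (219, [])])]), (119, [(250, []), (235, [(215, []), (130, [])]), (219, [(231, []), (130, [])]), (190, [(246, []), (231, []), (215, [(231, [(246, 0)])]), (130, [(246, [(231, 8026370), (215, 5658882)])])]), (175, [(246, []), (231, [])]), (159, [(246, []), (215, [])]), (123, [(130, [])])]), (106, [(246, [(215, []), (159, [])]), (231, []), (219, [(250, []), (159, []), (123, [(159, [(250, 0)])])]), (190, [(250, []), (235, []), (215, [(250, [(235, 0)])]), (159, [(235, [(250, 7764226), (215, 16013570)])])]), (175, [(250, []), (235, [])]), (130, [(235, []), (215, []), (123, [(215, [(235, 0)])])]), (119, [(215, [])])]), (102, [(250, [(219, []), (159, [])]), (235, []), (215, [(246, []), (159, []), (119, [(159, [(246, 0)])])]), (190, [(246, []), (231, []), (219, [(246, [(231, 0)])]), (159, [(231, [(246, 5658882), (219, 16021762)])])]), (175, [(246, []), (231, [])]), (130, [(231, []), (219, []), (119, [(219, [(231, 0)])])]), (123,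 [(219, [])]), (106, [(159, [])])]), (90, [(246, [(231, []), (175, []), (102, [(175, [(231, 0)])])]), (235, [(250, []), (175, []), (123, [(175, [(250, 0)])])]), (215, []), (190, [(250, []), (231, [(250, [])]), (219, []), (175, [(219, [(250, 7764226), (231, 16013570)])])]), (159, [(250, []), (219, []), (102, [(250, [(219, 0)])])]), (130, [(231, []), (219, []), (123, [(231, [(219, 0)])])]), (119, [(231, []), (102, [])]), (106, [(250, []), (123, [])])]), (86, [(250, [(235, []), (175, []), (106, [(175, [(235, 0)])])]), (231, [(246, []), (175, []), (119, [(175, [(246, 0)])])]), (219, []), (190, [(246, []), (235, [(246, [])]), (215, []), (175, [(215, [(246, 5658882), (235, 16021762)])])]), (159, [(246, []), (215, []), (106, [(246, [(215, 0)])])]), (130, [(235, []), (215, []), (119, [(235, [(215, 0)])])]), (123, [(235, []), (106, [])]), (102, [(246, []), (119, [])]), (90, [(175, [])])]), (51, [(250, [(123, []), (106, []), (90, [(106, [(123, 0)])])]), (246, [(119, []), (102, []), (86, [(102, [(119, 0)])])]), (235, [(123, []), (106, []), (86, [(123, [(106, 0)])])]), (231, [(119, []), (102, []), (90, [(119,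 [(102, 0)])])]), (219, [(123, []), (102, [(123, [])]), (90, [])]), (215, [(119, []), (106, [(119, [])]), (86, [])]), (190, []), (175, [(90, []), (86, [(90, [])])]), (159, [(106, []), (102, [(106, [])])]), (130, [(123, []), (119, [(123, [])])])]), (34, [(250, [(219, []), (159, []), (123, [(159, [(219, 0)])]), (106, [(219, [(159, 9984258), (123, 8288514)])])]), (246, [(215, []), (159, []), (119, [(159, [(215, 0)])]), (102, [(215, [(159, 6052098), (119, 6183170)])])]), (235, [(215, []), (130, []), (123, [(215, [(130, 0)])]), (106, [(130, [(215, 5658882), (123, 14047490)])])]), (231, [(219, []), (130, []), (119, [(219, [(130, 0)])]), (102, [(130, [(219, 6052098), (119, 6183170)])])]), (190, [(219, []), (215, [(219, [])]), (159, []), (130, [(159, [(219, 5658882), (215, 7764226)])])]), (175, []), (90, [(219, []), (123, []), (102, [(123, [(219, 0)])]), (51, [(219, [(123, 5658882), (102, 15898882)])])]), (86, [(215, []), (119, []), (106, [(119, [(215, 0)])]), (51, [(215, [(119, 6183170), (106, 6052098)])])])]), (18, [(250, [(235, []), (175, []), (123, [(175, [(235, 0)])]), (90, [(235, [(175, 5658882), (123,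 8288514)])])]), (246, [(231, []), (175, []), (119, [(175, [(231, 0)])]), (86, [(231, [(175, 6052098), (119, 6183170)])])]), (219, [(231, []), (130, []), (123, [(231, [(130, 0)])]), (90, [(130, [(231, 5658882), (123, 14047490)])])]), (215, [(235, []), (130, []), (119, [(235, [(130, 0)])]), (86, [(130, [(235, 7764226), (119, 6183170)])])]), (190, [(235, []), (231, [(235, [])]), (175, []), (130, [(175, [(235, 5658882), (231, 7764226)])])]), (159, []), (106, [(235, []), (123, []), (86, [(123, [(235, 0)])]), (51, [(235, [(123, 5658882), (86, 8157442)])])]), (102, [(231, []), (119, []), (90, [(119, [(231, 0)])]), (51, [(231, [(119, 6183170), (90, 15907074)])])]), (34, [(130, []), (123, []), (119, [(123, [(130, 0)])]), (51, [(130, [(123, 6052098), (119, 6183170)])])])]), (15, [(235, [(250, []), (175, []), (106, [(175, [(250, 0)])]), (86, [(250, [(175, 5921026), (106, 16144642)])])]), (231, [(246, []), (175, []), (102, [(175, [(246, 0)])]), (90, [(246, [(175, 8026370), (102, 14571778)])])]), (219, [(250, []), (159, []), (102, [(250, [(159, 0)])]), (90, [(159, [(250, 6052098), (102, 16144642)])])]), (215,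 [(246, []), (159, []), (106, [(246, [(159, 0)])]), (86, [(159, [(246, 5527810), (106, 14309634)])])]), (190, [(250, []), (246, [(250, [])]), (175, []), (159, [(175, [(250, 9853186), (246, 11950338)])])]), (130, []), (123, [(250, []), (106, []), (90, [(106, [(250, 0)])]), (51, [(250, [(106, 9853186), (90, 11950338)])])]), (119, [(246, []), (102, []), (86, [(102, [(246, 0)])]), (51, [(246, [(102, 5527810), (86, 11958530)])])]), (34, [(159, []), (106, []), (102, [(106, [(159, 0)])]), (51, [(159, [(106, 1), (102, 5527810)])])]), (18, [(175, []), (90, []), (86, [(90, [(175, 0)])]), (51, [(175, [(90, 7633154), (86, 1)])])])])] = true := by decide +kernel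

theorem ct0_134 : T0.chk1 sv0 lo0 134 [(250, []), (238, []), (231, [(250, [(238, [])])]), (222, [(238, [(250, [])]), (231, [])]), (215, [(250, [(222, [])]), (238, []), (231, [])]), (195, [(250, []), (238, [(231, [])]), (222, [(215, [])])]), (187, [(231, [(238, [])]), (215, [(222, [])]), (195, [])]), (175, [(222, [(250, []), (187, [])]), (215, []), (195, [(231, [])])]), (166, [(250, [(238, []), (175, [])]), (222, []), (215, [(195, [])]), (187, [(238, []), (175, [])])]), (159, [(238, [(250, []), (187, [])]), (231, []), (195, [(215, [])]), (175, [(250, []), (187, [])]), (166, [])]), (150, [(250, [(222, []), (159, [])]), (238, []), (231, [(195, [])]), (187, [(222, []), (159, [])]), (175, []), (166, [(195, [])])]), (130, [(250, []), (238, [(231, []), (166, [])]), (222, [(215, []), (150, [])]), (187, []), (175, [(231, []), (166, [])]), (159, [(215, []), (150, [])])]), (126, [(187, [(250, []), (238, []), (222, [(238, [(250, 0)])])]), (175, [(250, []), (238, []), (231, [(250, [(238, 0)])])]), (166, [(238, []), (231, []), (195, [(238, [(231, 0)])])]), (159, [(250, []), (222, []), (215, [(250, [(222, 0)])])]),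 (150, [(222, []), (215, []), (195, [(222, [(215, 0)])])]), (130, [(231, []), (215, [(231, [])]), (195, [])])]), (119, [(250, [(238, []), (222, [(238, [])]), (187, []), (126, [(187, [(238, 13793538), (222, 5658882)])])]), (195, [(231, []), (215, [(231, [])]), (130, []), (126, [(130, [(231, 5789954), (215, 5789954)])])]), (175, [(238, []), (231, []), (187, [(231, [(238, 0)])])]), (166, [(238, []), (231, []), (130, [(238, [(231, 0)])])]), (159, [(222, []), (215, []), (187, [(215, [(222, 0)])])]), (150, [(222, []), (215, []), (130, [(222, [(215, 0)])])])]), (106, [(231, [(238, []), (195, [(238, [])]), (166, []), (126, [(166, [(238, 5527810), (195, 16152834)])])]), (222, [(250, []), (215, [(250, [])]), (159, []), (126, [(159, [(250, 14047490), (215, 8026370)])])]), (187, [(250, []), (238, []), (159, [(238, [(250, 0)])])]), (175, [(250, []), (238, []), (166, [(250, [(238, 0)])])]), (150, [(215, []), (195, []), (159, [(195, [(215, 0)])])]), (130, [(215, []), (195, []), (166, [(215, [(195, 0)])])]), (119, [(238, []), (215, [(238, [])]), (126, [])])]), (90, [(238, [(250, []), (231, [(250, [])]), (175, []),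 (126, [(175, [(250, 14047490), (231, 21315841)])])]), (215, [(222, []), (195, [(222, [])]), (150, []), (126, [(150, [(222, 5527810), (195, 16152834)])])]), (187, [(250, []), (222, []), (175, [(222, [(250, 0)])])]), (166, [(231, []), (195, []), (175, [(195, [(231, 0)])])]), (159, [(250, []), (222, []), (150, [(250, [(222, 0)])])]), (130, [(231, []), (195, []), (150, [(231, [(195, 0)])])]), (119, [(231, []), (222, [(231, [])]), (126, [])]), (106, [(250, []), (195, [(250, [])]), (126, [])])]), (34, [(250, [(238, []), (187, []), (159, [(238, [(187, 0)])]), (106, [(187, [(238, 7502338), (159, 5658882)])])]), (231, [(238, []), (166, []), (130, [(238, [(166, 0)])]), (119, [(166, [(238, 8026370), (130, 6183170)])])]), (222, [(215, []), (187, [(215, [])]), (159, []), (119, [(159, [(215, 10377474), (187, 5658882)])])]), (195, [(215, []), (166, [(215, [])]), (130, []), (106, [(130, [(215, 5789954), (166, 5789954)])])]), (175, [(238, []), (187, []), (166, [(187, [(238, 0)])])]), (150, [(215, []), (159, []), (130, [(159, [(215, 0)])])]), (126, [(238, []), (215, [(238, [])]), (119, []), (106, [(119, [(238, 9861378),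 (215, 5658882)])])]), (90, [])]), (18, [(250, [(222, []), (187, []), (175, [(222, [(187, 0)])]), (90, [(187, [(222, 16161026), (175, 5658882)])])]), (238, [(231, []), (187, [(231, [])]), (175, []), (119, [(175, [(231, 8026370), (187, 5658882)])])]), (215, [(222, []), (150, []), (130, [(222, [(150, 0)])]), (119, [(150, [(222, 6052098), (130, 6183170)])])]), (195, [(231, []), (150, [(231, [])]), (130, []), (90, [(130, [(231, 5789954), (150, 1)])])]), (166, [(231, []), (175, []), (130, [(175, [(231, 0)])])]), (159, [(222, []), (187, []), (150, [(187, [(222, 0)])])]), (126, [(231, []), (222, [(231, [])]), (119, []), (90, [(119, [(231, 5658882), (222, 9853186)])])]), (106, []), (34, [(187, []), (130, [(187, [])]), (119, [])])]), (15, [(238, [(250, []), (175, []), (166, [(250, [(175, 0)])]), (106, [(175, [(250, 14047490), (166, 7764226)])])]), (231, [(195, []), (175, [(195, [])]), (166, []), (90, [(166, [(195, 16275714), (175, 7764226)])])]), (222, [(250, []), (159, []), (150, [(250, [(159, 0)])]), (90, [(159, [(250, 14047490), (150, 6183170)])])]), (215, [(195, []), (159, [(195, [])]), (150, []), (106,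 [(150, [(195, 16275714), (159, 5527810)])])]), (187, [(250, []), (175, []), (159, [(175, [(250, 0)])])]), (130, [(195, []), (166, []), (150, [(166, [(195, 0)])])]), (126, [(250, []), (195, [(250, [])]), (106, []), (90, [(106, [(250, 6052098), (195, 6183170)])])]), (119, []), (34, [(166, []), (159, [(166, [])]), (106, [])]), (18, [(175, []), (150, [(175, [])]), (90, [])])]), (6, [(250, [(187, []), (175, []), (159, [(175, [(187, 0)])]), (15, [(187, [(175, 5658882), (159, 13793538)])])]), (238, [(187, []), (175, []), (166, [(187, [(175, 0)])]), (34, [(175, [(187, 5658882), (166, 7764226)])])]), (231, [(175, []), (166, []), (130, [(175, [(166, 0)])]), (18, [(166, [(175, 6052098), (130, 6183170)])])]), (222, [(187, []), (159, []), (150, [(187, [(159, 0)])]), (18, [(159, [(187, 5658882), (150, 7764226)])])]), (215, [(159, []), (150, []), (130, [(159, [(150, 0)])]), (34, [(150, [(159, 6052098), (130, 6183170)])])]), (195, [(166, []), (150, [(166, [])]), (130, []), (15, [(130, [(166, 5789954), (150, 13793538)])])]), (126, []), (119, [(187, []), (130, [(187, [])]), (34, []), (18, [(34, [(187, 29581569), (130,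 6183170)])])]), (106, [(166, []), (159, [(166, [])]), (34, []), (15, [(34, [(166, 5658882), (159, 9853186)])])]), (90, [(175, []), (150, [(175, [])]), (18, []), (15, [(18, [(175, 11950338), (150, 1)])])])])] = true := by decide +kernel

theorem ct0_138 : T0.chk1 sv0 lo0 138 [(246, []), (238, []), (235, [(246, [(238, [])])]), (222, [(238, [(246, [])]), (235, [])]), (219, [(246, [(222, [])]), (238, []), (235, [])]), (195, [(246, []), (238, [(235, [])]), (222, [(219, [])])]), (183, [(235, [(238, [])]), (219, [(222, [])]), (195, [])]), (175, [(222, [(246, []), (183, [])]), (219, []), (195, [(235, [])])]), (170, [(246, [(238, []), (175, [])]), (222, []), (219, [(195, [])]), (183, [(238, []), (175, [])])]), (159, [(238, [(246, []), (183, [])]), (235, []), (195, [(219, [])]), (175, [(246, []), (183, [])]), (170, [])]), (154, [(246, [(222, []), (159, [])]), (238, []), (235, [(195, [])]), (183, [(222, []), (159, [])]), (175, []), (170, [(195, [])])]), (130, [(246, []), (238, [(235, []), (170, [])]), (222, [(219, []), (154, [])]), (183, []), (175, [(235, []), (170, [])]), (159, [(219, []), (154, [])])]), (126,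 [(183, [(246, []), (238, []), (222, [(238, [(246, 0)])])]), (175, [(246, []), (238, []), (235, [(246, [(238, 0)])])]), (170, [(238, []), (235, []), (195, [(238, [(235, 0)])])]), (159, [(246, []), (222, []), (219, [(246, [(222, 0)])])]), (154, [(222, []), (219, []), (195, [(222, [(219, 0)])])]), (130, [(235, []), (219, [(235, [])]), (195, [])])]), (123, [(246, [(238, []), (222, [(238, [])]), (183, []), (126, [(183, [(238, 13785346), (222, 13785346)])])]), (195, [(235, []), (219, [(235, [])]), (130, []), (126, [(130, [(235, 13785346), (219, 13785346)])])]), (175, [(238, []), (235, []), (183, [(235, [(238, 0)])])]), (170, [(238, []), (235, []), (130, [(238, [(235, 0)])])]), (159, [(222, []), (219, []), (183, [(219, [(222, 0)])])]), (154, [(222, []), (219, []), (130, [(222, [(219, 0)])])])]), (102, [(235, [(238, []), (195, [(238, [])]), (170, []), (126, [(170, [(238, 5921026), (195, 16144642)])])]), (222, [(246, []), (219, [(246, [])]), (159, []), (126, [(159, [(246, 16144642), (219, 21446913)])])]), (183, [(246, []), (238, []), (159, [(238, [(246, 0)])])]), (175, [(246, []), (238, []), (170, [(246,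 [(238, 0)])])]), (154, [(219, []), (195, []), (159, [(195, [(219, 0)])])]), (130, [(219, []), (195, []), (170, [(219, [(195, 0)])])]), (123, [(238, []), (219, [(238, [])]), (126, [])])]), (86, [(238, [(246, []), (235, [(246, [])]), (175, []), (126, [(175, [(246, 16144642), (235, 5921026)])])]), (219, [(222, []), (195, [(222, [])]), (154, []), (126, [(154, [(222, 7633154), (195, 16144642)])])]), (183, [(246, []), (222, []), (175, [(222, [(246, 0)])])]), (170, [(235, []), (195, []), (175, [(195, [(235, 0)])])]), (159, [(246, []), (222, []), (154, [(246, [(222, 0)])])]), (130, [(235, []), (195, []), (154, [(235, [(195, 0)])])]), (123, [(235, []), (222, [(235, [])]), (126, [])]), (102, [(246, []), (195, [(246, [])]), (126, [])])]), (34, [(246, [(238, []), (183, []), (159, [(238, [(183, 0)])]), (102, [(183, [(238, 14063874), (159, 7764226)])])]), (235, [(238, []), (170, []), (130, [(238, [(170, 0)])]), (123, [(170, [(238, 5921026), (130, 5789954)])])]), (222, [(219, []), (183, [(219, [])]), (159, []), (123, [(159, [(219, 5921026), (183, 5789954)])])]), (195, [(219, []), (170, [(219, [])]), (130, []),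 (102, [(130, [(219, 5396994), (170, 1)])])]), (175, [(238, []), (183, []), (170, [(183, [(238, 0)])])]), (154, [(219, []), (159, []), (130, [(159, [(219, 0)])])]), (126, [(238, []), (219, [(238, [])]), (123, []), (102, [(123, [(238, 9853186), (219, 6052098)])])]), (86, [])]), (18, [(246, [(222, []), (183, []), (175, [(222, [(183, 0)])]), (86, [(183, [(222, 5396994), (175, 7764226)])])]), (238, [(235, []), (183, [(235, [])]), (175, []), (123, [(175, [(235, 5921026), (183, 5789954)])])]), (219, [(222, []), (154, []), (130, [(222, [(154, 0)])]), (123, [(154, [(222, 5921026), (130, 5789954)])])]), (195, [(235, []), (154, [(235, [])]), (130, []), (86, [(130, [(235, 7895298), (154, 7895298)])])]), (170, [(235, []), (175, []), (130, [(175, [(235, 0)])])]), (159, [(222, []), (183, []), (154, [(183, [(222, 0)])])]), (126, [(235, []), (222, [(235, [])]), (123, []), (86, [(123, [(235, 6052098), (222, 11950338)])])]), (102, []), (34, [(183, []), (130, [(183, [])]), (123, [])])]), (15, [(238, [(246, []), (175, []), (170, [(246, [(175, 0)])]), (102, [(175, [(246, 14055682), (170, 5658882)])])]), (235, [(195, []),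 (175, [(195, [])]), (170, []), (86, [(170, [(195, 16283906), (175, 5658882)])])]), (222, [(246, []), (159, []), (154, [(246, [(159, 0)])]), (86, [(159, [(246, 5527810), (154, 5658882)])])]), (219, [(195, []), (159, [(195, [])]), (154, []), (102, [(154, [(195, 5527810), (159, 5658882)])])]), (183, [(246, []), (175, []), (159, [(175, [(246, 0)])])]), (130, [(195, []), (170, []), (154, [(170, [(195, 0)])])]), (126, [(246, []), (195, [(246, [])]), (102, []), (86, [(102, [(246, 5396994), (195, 8288514)])])]), (123, []), (34, [(170, []), (159, [(170, [])]), (102, [])]), (18, [(175, []), (154, [(175, [])]), (86, [])])]), (10, [(246, [(183, []), (175, []), (159, [(175, [(183, 0)])]), (15, [(183, [(175, 13785346), (159, 13785346)])])]), (238, [(183, []), (175, []), (170, [(183, [(175, 0)])]), (34, [(175, [(183, 5527810), (170, 5658882)])])]), (235, [(175, []), (170, []), (130, [(175, [(170, 0)])]), (18, [(170, [(175, 5658882), (130, 5527810)])])]), (222, [(183, []), (159, []), (154, [(183, [(159, 0)])]), (18, [(159, [(183, 5527810), (154, 5658882)])])]), (219, [(159, []), (154, []), (130, [(159, [(154, 0)])]),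 (34, [(154, [(159, 5658882), (130, 5527810)])])]), (195, [(170, []), (154, [(170, [])]), (130, []), (15, [(130, [(170, 13785346), (154, 13785346)])])]), (126, []), (123, [(183, []), (130, [(183, [])]), (34, []), (18, [(34, [(183, 5396994), (130, 31678721)])])]), (102, [(170, []), (159, [(170, [])]), (34, []), (15, [(34, [(170, 1), (159, 6052098)])])]), (86, [(175, []), (154, [(175, [])]), (18, []), (15, [(18, [(175, 6052098), (154, 6052098)])])])])] = true := by decide +kernel

theorem ct0_143 : T0.chk1 sv0 lo0 143 [(238, []), (235, []), (231, [(235, [(238, [])])]), (222, [(238, []), (235, []), (231, [])]), (219, [(238, [(231, [])]), (235, [])]), (215, [(238, [(235, [])]), (231, []), (219, [(222, [])])]), (175, [(222, []), (219, [(231, [])]), (215, [(235, [])])]), (170, [(231, [(238, []), (175, [])]), (222, [(215, [])]), (219, [])]), (166, [(235, [(238, []), (175, [])]), (222, [(219, [])]), (215, []), (170, [(238, []), (175, [])])]), (159, [(238, []), (235, [(215, [])]), (231, [(219, [])]), (175, []), (170, [(215, [])]), (166, [(219, [])])]), (154, [(238, [(231, []), (166, [])]), (235, []), (215,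 [(222, []), (159, [])]), (175, [(231, []), (166, [])]), (170, [])]), (150, [(238, [(235, []), (170, [])]), (231, []), (219, [(222, []), (159, [])]), (175, [(235, []), (170, [])]), (166, []), (154, [(222, []), (159, [])])]), (126, [(175, [(238, []), (235, []), (231, [(235, [(238, 0)])])]), (170, [(238, []), (235, []), (215, [(238, [(235, 0)])])]), (166, [(238, []), (231, []), (219, [(238, [(231, 0)])])]), (159, [(222, []), (219, []), (215, [(219, [(222, 0)])])]), (154, [(231, []), (222, [(231, [])]), (219, [])]), (150, [(235, []), (222, [(235, [])]), (215, [])])]), (123, [(231, [(238, []), (219, [(238, [])]), (166, []), (126, [(166, [(238, 13785346), (219, 13785346)])])]), (215, [(235, []), (222, [(235, [])]), (150, []), (126, [(150, [(235, 13785346), (222, 13785346)])])]), (175, [(238, []), (235, []), (166, [(235, [(238, 0)])])]), (170, [(238, []), (235, []), (150, [(238, [(235, 0)])])]), (159, [(222, []), (219, []), (150, [(219, [(222, 0)])])]), (154, [(222, []), (219, []), (166, [(222, [(219, 0)])])])]), (119, [(235, [(238, []), (215, [(238, [])]), (170, []), (126, [(170, [(238, 5921026), (215,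 16144642)])])]), (219, [(231, []), (222, [(231, [])]), (154, []), (126, [(154, [(231, 16144642), (222, 5921026)])])]), (175, [(238, []), (231, []), (170, [(231, [(238, 0)])])]), (166, [(238, []), (231, []), (154, [(238, [(231, 0)])])]), (159, [(222, []), (215, []), (154, [(215, [(222, 0)])])]), (150, [(222, []), (215, []), (170, [(222, [(215, 0)])])]), (123, [(238, []), (222, [(238, [])]), (126, [])])]), (66, [(238, [(235, []), (231, [(235, [])]), (175, []), (126, [(175, [(235, 5921026), (231, 16144642)])])]), (222, [(219, []), (215, [(219, [])]), (159, []), (126, [(159, [(219, 5921026), (215, 16144642)])])]), (170, [(235, []), (215, []), (175, [(215, [(235, 0)])])]), (166, [(231, []), (219, []), (175, [(219, [(231, 0)])])]), (154, [(231, []), (219, []), (159, [(231, [(219, 0)])])]), (150, [(235, []), (215, []), (159, [(235, [(215, 0)])])]), (123, [(235, []), (219, [(235, [])]), (126, [])]), (119, [(231, []), (215, [(231, [])]), (126, [])])]), (51, [(235, [(238, []), (170, []), (150, [(238, [(170, 0)])]), (123, [(170, [(238, 5921026), (150, 5789954)])])]), (231, [(238, []), (166, []), (154, [(238,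 [(166, 0)])]), (119, [(166, [(238, 14063874), (154, 7895298)])])]), (219, [(222, []), (166, [(222, [])]), (154, []), (123, [(154, [(222, 16292098), (166, 5789954)])])]), (215, [(222, []), (170, [(222, [])]), (150, []), (119, [(150, [(222, 5396994), (170, 7895298)])])]), (175, [(238, []), (170, []), (166, [(170, [(238, 0)])])]), (159, [(222, []), (154, []), (150, [(154, [(222, 0)])])]), (126, [(238, []), (222, [(238, [])]), (123, []), (119, [(123, [(238, 9853186), (222, 11950338)])])]), (66, [])]), (15, [(238, [(175, []), (170, []), (166, [(170, [(175, 0)])]), (51, [(175, [(170, 5658882), (166, 7764226)])])]), (235, [(175, []), (170, []), (150, [(175, [(170, 0)])])]), (231, [(175, []), (166, []), (154, [(175, [(166, 0)])])]), (222, [(159, []), (154, []), (150, [(154, [(159, 0)])]), (51, [(159, [(154, 5658882), (150, 5527810)])])]), (219, [(166, []), (159, [(166, [])]), (154, [])]), (215, [(170, []), (159, [(170, [])]), (150, [])]), (126, []), (123, [(166, []), (150, [(166, [])]), (51, [])]), (119, [(170, []), (154, [(170, [])]), (51, [])]), (66, [(175, []), (159, [(175, [])])])]), (10, [(238, [(231,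 []), (175, []), (170, [(231, [(175, 0)])]), (119, [(175, [(231, 5527810), (170, 5658882)])])]), (235, [(215, []), (175, [(215, [])]), (170, []), (66, [(170, [(215, 5527810), (175, 5658882)])])]), (222, [(215, []), (159, []), (154, [(215, [(159, 0)])]), (119, [(159, [(215, 5527810), (154, 5658882)])])]), (219, [(231, []), (159, [(231, [])]), (154, []), (66, [(154, [(231, 5527810), (159, 5658882)])])]), (166, [(231, []), (175, []), (154, [(175, [(231, 0)])]), (15, [(231, [(175, 13785346), (154, 13785346)])])]), (150, [(215, []), (170, []), (159, [(170, [(215, 0)])]), (15, [(215, [(170, 13785346), (159, 13785346)])])]), (126, [(231, []), (215, [(231, [])]), (119, []), (66, [(119, [(231, 5396994), (215, 8157442)])])]), (123, []), (51, [(170, []), (154, [(170, [])]), (119, []), (15, [(119, [(170, 1), (154, 6052098)])])])]), (6, [(238, [(235, []), (175, []), (166, [(235, [(175, 0)])]), (123, [(175, [(235, 5921026), (166, 5789954)])])]), (231, [(219, []), (175, [(219, [])]), (166, []), (66, [(166, [(219, 5396994), (175, 7764226)])])]), (222, [(219, []), (159, []), (150, [(219, [(159, 0)])]), (123, [(159,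 [(219, 7633154), (150, 5789954)])])]), (215, [(235, []), (159, [(235, [])]), (150, []), (66, [(150, [(235, 7633154), (159, 7764226)])])]), (170, [(235, []), (175, []), (150, [(175, [(235, 0)])]), (15, [(235, [(175, 5921026), (150, 13793538)])])]), (154, [(219, []), (166, []), (159, [(166, [(219, 0)])]), (15, [(219, [(166, 5789954), (159, 5921026)])])]), (126, [(235, []), (219, [(235, [])]), (123, []), (66, [(123, [(235, 6052098), (219, 6052098)])])]), (119, []), (51, [(166, []), (150, [(166, [])]), (123, []), (15, [(123, [(166, 5396994), (150, 1)])])]), (10, [(175, []), (159, [(175, [])]), (66, []), (15, [(66, [(175, 6183426), (159, 6183170)])])])])] = true := by decide +kernel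

theorem ct0_146 : T0.chk1 sv0 lo0 146 [(250, []), (246, [(250, [])]), (238, []), (219, [(246, []), (238, [(250, [])])]), (215, [(250, []), (238, [(246, [])]), (219, [])]), (195, [(250, [(219, [])]), (246, [(215, [])]), (238, [])]), (187, [(246, [(238, [])]), (215, []), (195, [(219, [])])]), (183, [(250, [(238, [])]), (219, []), (195, [(215, [])]), (187, [(238, [])])]), (175, [(219, [(250, []), (187, [])]), (215, [(246, []), (183, [])]), (195, [])]), (154, [(246, []), (238, [(250, []), (187, [])]), (215, [(195, [])]), (183, []), (175, [(250, []), (187, [])])]), (150, [(250, []), (238, [(246, []), (183, [])]), (219, [(195, [])]), (187, []), (175, [(246, []), (183, [])]), (154, [(195, [])])]), (130, [(250, [(219, []), (154, [])]), (246, [(215, []), (150, [])]), (238, []), (187, [(219, []), (154, [])]), (183, [(215, []), (150, [])]), (175, [])]), (126, [(187, [(250, []), (238, []), (219, [(238, [(250, 0)])])]), (183, [(246, []), (238, []), (215, [(238, [(246, 0)])])]), (175, [(250, []), (246, [(250, [])]), (238, [])]), (154, [(250, []), (219, []), (195, [(250, [(219, 0)])])]), (150, [(246, []), (215,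 []), (195, [(246, [(215, 0)])])]), (130, [(219, []), (215, [(219, [])]), (195, [])])]), (106, [(246, [(238, []), (215, [(238, [])]), (183, []), (126, [(183, [(238, 5527810), (215, 12237058)])])]), (219, [(250, []), (195, [(250, [])]), (154, []), (126, [(154, [(250, 14047490), (195, 7895298)])])]), (187, [(250, []), (238, []), (154, [(238, [(250, 0)])])]), (175, [(250, []), (238, []), (183, [(250, [(238, 0)])])]), (150, [(215, []), (195, []), (183, [(195, [(215, 0)])])]), (130, [(215, []), (195, []), (154, [(215, [(195, 0)])])])]), (102, [(250, [(238, []), (219, [(238, [])]), (187, []), (126, [(187, [(238, 7633154), (219, 21446913)])])]), (215, [(246, []), (195, [(246, [])]), (150, []), (126, [(150, [(246, 5789954), (195, 8288514)])])]), (183, [(246, []), (238, []), (150, [(238, [(246, 0)])])]), (175, [(246, []), (238, []), (187, [(246, [(238, 0)])])]), (154, [(219, []), (195, []), (187, [(195, [(219, 0)])])]), (130, [(219, []), (195, []), (150, [(219, [(195, 0)])])]), (106, [(238, []), (195, [(238, [])]), (126, [])])]), (95, [(238, [(250, []), (246, [(250, [])]), (175, []), (126, [(175, [(250, 11819266),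 (246, 6183170)])])]), (195, [(219, []), (215, [(219, [])]), (130, []), (126, [(130, [(219, 5527810), (215, 7633154)])])]), (187, [(250, []), (219, []), (175, [(219, [(250, 0)])])]), (183, [(246, []), (215, []), (175, [(215, [(246, 0)])])]), (154, [(250, []), (219, []), (130, [(250, [(219, 0)])])]), (150, [(246, []), (215, []), (130, [(246, [(215, 0)])])]), (106, [(250, []), (215, [(250, [])]), (126, [])]), (102, [(246, []), (219, [(246, [])]), (126, [])])]), (51, [(250, [(238, []), (187, []), (154, [(238, [(187, 0)])]), (106, [(187, [(238, 8157442), (154, 12212482)])])]), (246, [(238, []), (183, []), (150, [(238, [(183, 0)])]), (102, [(183, [(238, 7764226), (150, 6183170)])])]), (219, [(195, []), (187, [(195, [])]), (154, []), (102, [(154, [(195, 16144642), (187, 5658882)])])]), (215, [(195, []), (183, [(195, [])]), (150, []), (106, [(150, [(195, 16152834), (183, 5789954)])])]), (175, [(238, []), (187, []), (183, [(187, [(238, 0)])])]), (130, [(195, []), (154, []), (150, [(154, [(195, 0)])])]), (126, [(238, []), (195, [(238, [])]), (106, []), (102, [(106, [(238, 5658882), (195, 7764226)])])]), (95,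 [])]), (18, [(250, [(187, []), (175, []), (154, [(175, [(187, 0)])])]), (246, [(183, []), (175, []), (150, [(175, [(183, 0)])])]), (238, [(187, []), (183, [(187, [])]), (175, []), (51, [(175, [(187, 5658882), (183, 7764226)])])]), (219, [(187, []), (154, []), (130, [(187, [(154, 0)])])]), (215, [(183, []), (150, []), (130, [(183, [(150, 0)])])]), (195, [(154, []), (150, [(154, [])]), (130, []), (51, [(130, [(154, 6052098), (150, 13809922)])])]), (126, []), (106, [(183, []), (154, [(183, [])]), (51, [])]), (102, [(187, []), (150, [(187, [])]), (51, [])]), (95, [(175, []), (130, [(175, [])])])]), (10, [(246, [(215, []), (183, []), (175, [(215, [(183, 0)])]), (95, [(183, [(215, 16275714), (175, 7764226)])])]), (238, [(250, []), (183, [(250, [])]), (175, []), (106, [(175, [(250, 14047490), (183, 6183170)])])]), (219, [(250, []), (154, []), (130, [(250, [(154, 0)])]), (95, [(154, [(250, 14047490), (130, 6183170)])])]), (195, [(215, []), (154, [(215, [])]), (130, []), (106, [(130, [(215, 16275714), (154, 5527810)])])]), (187, [(250, []), (175, []), (154, [(175, [(250, 0)])]), (18, [(250, [(175, 5921026),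 (154, 11950338)])])]), (150, [(215, []), (183, []), (130, [(183, [(215, 0)])]), (18, [(215, [(183, 5527810), (130, 5527810)])])]), (126, [(250, []), (215, [(250, [])]), (106, []), (95, [(106, [(250, 6052098), (215, 11950338)])])]), (102, []), (51, [(183, []), (154, [(183, [])]), (106, []), (18, [(106, [(183, 5527810), (154, 10115330)])])])]), (6, [(250, [(219, []), (187, []), (175, [(219, [(187, 0)])]), (95, [(187, [(219, 5658882), (175, 5658882)])])]), (238, [(246, []), (187, [(246, [])]), (175, []), (102, [(175, [(246, 16144642), (187, 5658882)])])]), (215, [(246, []), (150, []), (130, [(246, [(150, 0)])]), (95, [(150, [(246, 5789954), (130, 5789954)])])]), (195, [(219, []), (150, [(219, [])]), (130, []), (102, [(130, [(219, 6052098), (150, 1)])])]), (183, [(246, []), (175, []), (150, [(175, [(246, 0)])]), (18, [(246, [(175, 6052098), (150, 6183170)])])]), (154, [(219, []), (187, []), (130, [(187, [(219, 0)])]), (18, [(219, [(187, 5658882), (130, 7633154)])])]), (126, [(246, []), (219, [(246, [])]), (102, []), (95, [(102, [(246, 5658882), (219, 9853186)])])]), (106, []), (51, [(187, []), (150,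 [(187, [])]), (102, []), (18, [(102, [(187, 1), (150, 6183170)])])]), (10, [(175, []), (130, [(175, [])]), (95, []), (18, [(95, [(175, 29597953), (130, 7633154)])])])])] = true := by decide +kernel

theorem ct0_162 : T0.chk1 sv0 lo0 162 [(250, []), (246, [(250, [])]), (235, [(246, [])]), (231, [(250, []), (235, [])]), (222, [(235, [(250, [])]), (231, [(246, [])])]), (195, [(250, [(235, [])]), (246, [(231, [])]), (222, [])]), (187, [(246, [(222, [])]), (231, []), (195, [(235, [])])]), (183, [(250, [(222, [])]), (235, []), (195, [(231, [])]), (187, [(222, [])])]), (170, [(246, []), (231, [(195, [])]), (222, [(250, []), (187, [])]), (183, [])]), (166, [(250, []), (235, [(195, [])]), (222, [(246, []), (183, [])]), (187, []), (170, [(195, [])])]), (159, [(235, [(250, []), (187, [])]), (231, [(246, []), (183, [])]), (195, []), (170, [(250, []), (187, [])]), (166, [(246, []), (183, [])])]), (130, [(250, [(235, []), (170, [])]), (246, [(231, []), (166, [])]), (222, []), (187, [(235, []), (170, [])]), (183, [(231, []), (166, [])]), (159, [])]), (126, [(187, [(250, []), (235, []), (222, [(235, [(250, 0)])])]),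 (183, [(246, []), (231, []), (222, [(231, [(246, 0)])])]), (170, [(250, []), (235, []), (195, [(250, [(235, 0)])])]), (166, [(246, []), (231, []), (195, [(246, [(231, 0)])])]), (159, [(250, []), (246, [(250, [])]), (222, [])]), (130, [(235, []), (231, [(235, [])]), (195, [])])]), (111, [(222, [(250, []), (246, [(250, [])]), (159, []), (126, [(159, [(250, 9722114), (246, 9730306)])])]), (195, [(235, []), (231, [(235, [])]), (130, []), (126, [(130, [(235, 5527810), (231, 7633154)])])]), (187, [(250, []), (235, []), (159, [(235, [(250, 0)])])]), (183, [(246, []), (231, []), (159, [(231, [(246, 0)])])]), (170, [(250, []), (235, []), (130, [(250, [(235, 0)])])]), (166, [(246, []), (231, []), (130, [(246, [(231, 0)])])])]), (90, [(246, [(231, []), (222, [(231, [])]), (183, []), (126, [(183, [(231, 21315841), (222, 5527810)])])]), (235, [(250, []), (195, [(250, [])]), (170, []), (126, [(170, [(250, 14047490), (195, 6183170)])])]), (187, [(250, []), (222, []), (170, [(222, [(250, 0)])])]), (166, [(231, []), (195, []), (183, [(195, [(231, 0)])])]), (159, [(250, []), (222, []), (183, [(250, [(222, 0)])])]),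 (130, [(231, []), (195, []), (170, [(231, [(195, 0)])])]), (111, [(250, []), (231, [(250, [])]), (126, [])])]), (86, [(250, [(235, []), (222, [(235, [])]), (187, []), (126, [(187, [(235, 10131714), (222, 7633154)])])]), (231, [(246, []), (195, [(246, [])]), (166, []), (126, [(166, [(246, 5789954), (195, 5789954)])])]), (183, [(246, []), (222, []), (166, [(222, [(246, 0)])])]), (170, [(235, []), (195, []), (187, [(195, [(235, 0)])])]), (159, [(246, []), (222, []), (187, [(246, [(222, 0)])])]), (130, [(235, []), (195, []), (166, [(235, [(195, 0)])])]), (111, [(246, []), (235, [(246, [])]), (126, [])]), (90, [(222, []), (195, [(222, [])]), (126, [])])]), (51, [(250, [(222, []), (187, []), (170, [(222, [(187, 0)])]), (90, [(187, [(222, 5658882), (170, 5658882)])])]), (246, [(222, []), (183, []), (166, [(222, [(183, 0)])]), (86, [(183, [(222, 6052098), (166, 6183170)])])]), (235, [(195, []), (187, [(195, [])]), (170, []), (86, [(170, [(195, 16144642), (187, 5658882)])])]), (231, [(195, []), (183, [(195, [])]), (166, []), (90, [(166, [(195, 5789954), (183, 7764226)])])]), (159, [(222, []), (187, []), (183,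 [(187, [(222, 0)])])]), (130, [(195, []), (170, []), (166, [(170, [(195, 0)])])]), (126, [(222, []), (195, [(222, [])]), (90, []), (86, [(90, [(222, 5658882), (195, 7764226)])])]), (111, [])]), (34, [(250, [(187, []), (170, []), (159, [(170, [(187, 0)])])]), (246, [(183, []), (166, []), (159, [(166, [(183, 0)])])]), (235, [(187, []), (170, []), (130, [(187, [(170, 0)])])]), (231, [(183, []), (166, []), (130, [(183, [(166, 0)])])]), (222, [(187, []), (183, [(187, [])]), (159, []), (51, [(159, [(187, 5658882), (183, 7764226)])])]), (195, [(170, []), (166, [(170, [])]), (130, []), (51, [(130, [(170, 13801730), (166, 6183170)])])]), (126, []), (111, [(159, []), (130, [(159, [])])]), (90, [(183, []), (170, [(183, [])]), (51, [])]), (86, [(187, []), (166, [(187, [])]), (51, [])])]), (10, [(246, [(231, []), (183, []), (159, [(231, [(183, 0)])]), (111, [(183, [(231, 7764226), (159, 5527810)])])]), (235, [(250, []), (170, []), (130, [(250, [(170, 0)])]), (111, [(170, [(250, 14047490), (130, 7895298)])])]), (222, [(250, []), (183, [(250, [])]), (159, []), (90, [(159, [(250, 14047490), (183, 6183170)])])]),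 (195, [(231, []), (170, [(231, [])]), (130, []), (90, [(130, [(231, 16275714), (170, 1)])])]), (187, [(250, []), (170, []), (159, [(170, [(250, 0)])]), (34, [(250, [(170, 9853186), (159, 8157442)])])]), (166, [(231, []), (183, []), (130, [(183, [(231, 0)])]), (34, [(231, [(183, 5527810), (130, 5527810)])])]), (126, [(250, []), (231, [(250, [])]), (111, []), (90, [(111, [(250, 9853186), (231, 6183170)])])]), (86, []), (51, [(183, []), (170, [(183, [])]), (90, []), (34, [(90, [(183, 1), (170, 12212482)])])])]), (6, [(250, [(235, []), (187, []), (159, [(235, [(187, 0)])]), (111, [(187, [(235, 16283906), (159, 5658882)])])]), (231, [(246, []), (166, []), (130, [(246, [(166, 0)])]), (111, [(166, [(246, 14055682), (130, 5789954)])])]), (222, [(246, []), (187, [(246, [])]), (159, []), (86, [(159, [(246, 14055682), (187, 5658882)])])]), (195, [(235, []), (166, [(235, [])]), (130, []), (86, [(130, [(235, 6052098), (166, 6183170)])])]), (183, [(246, []), (166, []), (159, [(166, [(246, 0)])]), (34, [(246, [(166, 9861378), (159, 6052098)])])]), (170, [(235, []), (187, []), (130, [(187, [(235, 0)])]), (34, [(235,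 [(187, 5658882), (130, 7633154)])])]), (126, [(246, []), (235, [(246, [])]), (111, []), (86, [(111, [(246, 9861378), (235, 5658882)])])]), (90, []), (51, [(187, []), (166, [(187, [])]), (86, []), (34, [(86, [(187, 6052098), (166, 6183170)])])]), (10, [(159, []), (130, [(159, [])]), (111, []), (34, [(111, [(159, 5658882), (130, 31695105)])])])])] = true := by decide +kernel

theorem ct0_179 : T0.chk1 sv0 lo0 179 [(250, []), (246, [(250, [])]), (235, [(246, [])]), (231, [(250, []), (235, [])]), (219, [(246, [(231, [])]), (235, [(250, [])])]), (215, [(250, [(235, [])]), (231, [(246, [])]), (219, [])]), (187, [(246, []), (231, [(219, [])]), (215, [(235, [])])]), (183, [(250, []), (235, [(215, [])]), (219, [(231, [])]), (187, [])]), (170, [(246, [(215, [])]), (231, []), (219, [(250, []), (187, [])]), (183, [(215, [])])]), (166, [(250, [(219, [])]), (235, []), (215, [(246, []), (183, [])]), (187, [(219, [])]), (170, [])]), (154, [(246, [(231, []), (166, [])]), (235, [(250, []), (187, [])]), (215, []), (183, [(231, []), (166, [])]), (170, [(250, []), (187, [])])]), (150, [(250, [(235, []), (170, [])]),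 (231, [(246, []), (183, [])]), (219, []), (187, [(235, []), (170, [])]), (166, [(246, []), (183, [])]), (154, [])]), (126, [(187, [(250, []), (235, []), (219, [(235, [(250, 0)])])]), (183, [(246, []), (231, []), (215, [(231, [(246, 0)])])]), (170, [(250, []), (235, []), (215, [(250, [(235, 0)])])]), (166, [(246, []), (231, []), (219, [(246, [(231, 0)])])]), (154, [(250, []), (231, [(250, [])]), (219, [])]), (150, [(246, []), (235, [(246, [])]), (215, [])])]), (111, [(219, [(250, []), (231, [(250, [])]), (154, []), (126, [(154, [(250, 9722114), (231, 7633154)])])]), (215, [(246, []), (235, [(246, [])]), (150, []), (126, [(150, [(246, 9730306), (235, 5527810)])])]), (187, [(250, []), (235, []), (154, [(235, [(250, 0)])])]), (183, [(246, []), (231, []), (150, [(231, [(246, 0)])])]), (170, [(250, []), (235, []), (150, [(250, [(235, 0)])])]), (166, [(246, []), (231, []), (154, [(246, [(231, 0)])])])]), (95, [(235, [(250, []), (215, [(250, [])]), (170, []), (126, [(170, [(250, 11819266), (215, 7633154)])])]), (231, [(246, []), (219, [(246, [])]), (166, []), (126, [(166, [(246, 11827458), (219, 5527810)])])]),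 (187, [(250, []), (219, []), (170, [(219, [(250, 0)])])]), (183, [(246, []), (215, []), (166, [(215, [(246, 0)])])]), (154, [(250, []), (219, []), (166, [(250, [(219, 0)])])]), (150, [(246, []), (215, []), (170, [(246, [(215, 0)])])]), (111, [(250, []), (246, [(250, [])]), (126, [])])]), (66, [(250, [(235, []), (219, [(235, [])]), (187, []), (126, [(187, [(235, 7895298), (219, 5658882)])])]), (246, [(231, []), (215, [(231, [])]), (183, []), (126, [(183, [(231, 7764226), (215, 5789954)])])]), (170, [(235, []), (215, []), (187, [(215, [(235, 0)])])]), (166, [(231, []), (219, []), (183, [(219, [(231, 0)])])]), (154, [(231, []), (219, []), (187, [(231, [(219, 0)])])]), (150, [(235, []), (215, []), (183, [(235, [(215, 0)])])]), (111, [(235, []), (231, [(235, [])]), (126, [])]), (95, [(219, []), (215, [(219, [])]), (126, [])])]), (51, [(250, [(187, []), (170, []), (154, [(170, [(187, 0)])])]), (246, [(183, []), (166, []), (150, [(166, [(183, 0)])])]), (235, [(187, []), (170, []), (150, [(187, [(170, 0)])])]), (231, [(183, []), (166, []), (154, [(183, [(166, 0)])])]), (219, [(187, []), (166, [(187, [])]),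 (154, [])]), (215, [(183, []), (170, [(183, [])]), (150, [])]), (126, []), (111, [(154, []), (150, [(154, [])])]), (95, [(170, []), (166, [(170, [])])]), (66, [(187, []), (183, [(187, [])])])]), (34, [(250, [(219, []), (187, []), (170, [(219, [(187, 0)])]), (95, [(187, [(219, 7895298), (170, 5658882)])])]), (246, [(215, []), (183, []), (166, [(215, [(183, 0)])]), (95, [(183, [(215, 5789954), (166, 5789954)])])]), (235, [(215, []), (187, [(215, [])]), (170, []), (66, [(170, [(215, 16144642), (187, 5658882)])])]), (231, [(219, []), (183, [(219, [])]), (166, []), (66, [(166, [(219, 6052098), (183, 7764226)])])]), (154, [(219, []), (187, []), (166, [(187, [(219, 0)])]), (51, [(219, [(187, 5658882), (166, 8157442)])])]), (150, [(215, []), (183, []), (170, [(183, [(215, 0)])]), (51, [(215, [(183, 6183170), (170, 13801730)])])]), (126, [(219, []), (215, [(219, [])]), (95, []), (66, [(95, [(219, 5658882), (215, 7764226)])])]), (111, [])]), (18, [(250, [(235, []), (187, []), (154, [(235, [(187, 0)])]), (111, [(187, [(235, 7895298), (154, 12212482)])])]), (246, [(231, []), (183, []), (150, [(231, [(183, 0)])]),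 (111, [(183, [(231, 5789954), (150, 5789954)])])]), (219, [(231, []), (187, [(231, [])]), (154, []), (66, [(154, [(231, 16144642), (187, 5658882)])])]), (215, [(235, []), (183, [(235, [])]), (150, []), (66, [(150, [(235, 6052098), (183, 6183170)])])]), (170, [(235, []), (187, []), (150, [(187, [(235, 0)])]), (51, [(235, [(187, 5658882), (150, 13809922)])])]), (166, [(231, []), (183, []), (154, [(183, [(231, 0)])]), (51, [(231, [(183, 6183170), (154, 6052098)])])]), (126, [(235, []), (231, [(235, [])]), (111, []), (66, [(111, [(235, 5658882), (231, 7764226)])])]), (95, []), (34, [(187, []), (183, [(187, [])]), (66, []), (51, [(66, [(187, 6052098), (183, 6183170)])])])]), (15, [(235, [(250, []), (170, []), (150, [(250, [(170, 0)])]), (111, [(170, [(250, 14047490), (150, 6183170)])])]), (231, [(246, []), (166, []), (154, [(246, [(166, 0)])]), (111, [(166, [(246, 16275714), (154, 5527810)])])]), (219, [(250, []), (166, [(250, [])]), (154, []), (95, [(154, [(250, 14047490), (166, 6183170)])])]), (215, [(246, []), (170, [(246, [])]), (150, []), (95, [(150, [(246, 16275714), (170, 8288514)])])]), (187,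 [(250, []), (170, []), (154, [(170, [(250, 0)])]), (51, [(250, [(170, 9853186), (154, 11950338)])])]), (183, [(246, []), (166, []), (150, [(166, [(246, 0)])]), (51, [(246, [(166, 9861378), (150, 5527810)])])]), (126, [(250, []), (246, [(250, [])]), (111, []), (95, [(111, [(250, 9853186), (246, 11950338)])])]), (66, []), (34, [(170, []), (166, [(170, [])]), (95, []), (51, [(95, [(170, 7633154), (166, 1)])])]), (18, [(154, []), (150, [(154, [])]), (111, []), (51, [(111, [(154, 1), (150, 5527810)])])])])] = true := by decide +kernel

theorem ct0_199 : T0.chk1 sv0 lo0 199 [(250, []), (238, []), (231, [(250, [(238, [])])]), (222, [(238, [(250, [])]), (231, [])]), (215, [(250, [(222, [])]), (238, []), (231, [])]), (195, [(250, []), (238, [(231, [])]), (222, [(215, [])])]), (187, [(231, [(238, [])]), (215, [(222, [])]), (195, [])]), (175, [(222, [(250, []), (187, [])]), (215, []), (195, [(231, [])])]), (166, [(250, [(238, []), (175, [])]), (222, []), (215, [(195, [])]), (187, [(238, []), (175, [])])]), (159, [(238, [(250, []), (187, [])]), (231, []), (195, [(215, [])]), (175, [(250, []), (187, [])]), (166,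 [])]), (150, [(250, [(222, []), (159, [])]), (238, []), (231, [(195, [])]), (187, [(222, []), (159, [])]), (175, []), (166, [(195, [])])]), (130, [(250, []), (238, [(231, []), (166, [])]), (222, [(215, []), (150, [])]), (187, []), (175, [(231, []), (166, [])]), (159, [(215, []), (150, [])])]), (123, [(231, [(238, []), (166, []), (130, [(238, [(166, 0)])])]), (215, [(222, []), (150, []), (130, [(222, [(150, 0)])])]), (195, [(166, []), (150, [(166, [])]), (130, [])]), (187, [(250, []), (238, []), (222, [(238, [(250, 0)])])]), (175, [(250, []), (238, []), (166, [(250, [(238, 0)])])]), (159, [(250, []), (222, []), (150, [(250, [(222, 0)])])])]), (111, [(222, [(250, []), (159, []), (150, [(250, [(159, 0)])]), (123, [(159, [(250, 14047490), (150, 15890690)])])]), (215, [(159, []), (150, []), (130, [(159, [(150, 0)])])]), (195, [(231, []), (150, [(231, [])]), (130, [])]), (187, [(250, []), (238, []), (159, [(238, [(250, 0)])])]), (175, [(250, []), (238, []), (231, [(250, [(238, 0)])])]), (166, [(238, []), (231, []), (130, [(238, [(231, 0)])]), (123, [(231, [(238, 5527810), (130, 7633154)])])])]), (102,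 [(250, [(238, []), (187, []), (159, [(238, [(187, 0)])]), (111, [(187, [(238, 13793538), (159, 16275714)])])]), (222, [(187, []), (159, []), (150, [(187, [(159, 0)])])]), (215, [(195, []), (159, [(195, [])]), (150, [])]), (175, [(238, []), (231, []), (187, [(231, [(238, 0)])])]), (166, [(238, []), (231, []), (195, [(238, [(231, 0)])])]), (130, [(231, []), (195, []), (150, [(231, [(195, 0)])]), (111, [(195, [(231, 5789954), (150, 13793538)])])]), (123, [(238, []), (150, [(238, [])]), (111, [])])]), (95, [(238, [(250, []), (175, []), (166, [(250, [(175, 0)])]), (123, [(175, [(250, 14047490), (166, 6183170)])])]), (231, [(175, []), (166, []), (130, [(175, [(166, 0)])])]), (195, [(215, []), (166, [(215, [])]), (130, [])]), (187, [(250, []), (222, []), (175, [(222, [(250, 0)])])]), (159, [(250, []), (222, []), (215, [(250, [(222, 0)])])]), (150, [(222, []), (215, []), (130, [(222, [(215, 0)])]), (123, [(215, [(222, 5527810), (130, 7633154)])])]), (111, [(250, []), (130, [(250, [])]), (123, [])]), (102, [])]), (86, [(250, [(222, []), (187, []), (175, [(222, [(187, 0)])]), (95, [(187, [(222, 5658882), (175,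 5658882)])])]), (238, [(187, []), (175, []), (166, [(187, [(175, 0)])])]), (231, [(195, []), (175, [(195, [])]), (166, [])]), (159, [(222, []), (215, []), (187, [(215, [(222, 0)])])]), (150, [(222, []), (215, []), (195, [(222, [(215, 0)])])]), (130, [(215, []), (195, []), (166, [(215, [(195, 0)])]), (95, [(195, [(215, 5789954), (166, 5789954)])])]), (123, [(222, []), (166, [(222, [])]), (95, [])]), (111, []), (102, [(195, []), (187, [(195, [])])])]), (66, [(250, [(187, []), (175, []), (159, [(175, [(187, 0)])])]), (238, [(231, []), (187, [(231, [])]), (175, []), (102, [(175, [(231, 8026370), (187, 5658882)])])]), (222, [(215, []), (187, [(215, [])]), (159, []), (86, [(159, [(215, 8026370), (187, 5658882)])])]), (166, [(231, []), (195, []), (175, [(195, [(231, 0)])]), (86, [(231, [(195, 6183170), (175, 6052098)])])]), (150, [(215, []), (195, []), (159, [(195, [(215, 0)])]), (102, [(215, [(195, 15890690), (159, 6052098)])])]), (130, [(231, []), (215, [(231, [])]), (195, [])]), (123, []), (111, [(231, []), (159, [(231, [])]), (102, [])]), (95, [(215, []), (175, [(215, [])]), (86, [])])]), (51, [(250,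 [(238, []), (222, [(238, [])]), (187, []), (123, [(187, [(238, 14063874), (222, 16161026)])])]), (231, [(238, []), (195, [(238, [])]), (166, []), (102, [(166, [(238, 8026370), (195, 6183170)])])]), (215, [(222, []), (195, [(222, [])]), (150, []), (86, [(150, [(222, 6052098), (195, 7895298)])])]), (175, [(238, []), (187, []), (166, [(187, [(238, 0)])]), (86, [(238, [(187, 5658882), (166, 12474626)])])]), (159, [(222, []), (187, []), (150, [(187, [(222, 0)])]), (102, [(222, [(187, 5658882), (150, 10377474)])])]), (130, [(195, []), (166, []), (150, [(166, [(195, 0)])]), (123, [(195, [(166, 5789954), (150, 1)])])]), (111, [(238, []), (150, [(238, [])]), (123, []), (102, [(123, [(238, 5658882), (150, 12212482)])])]), (95, [(222, []), (166, [(222, [])]), (123, []), (86, [(123, [(222, 5658882), (166, 10115330)])])]), (66, [(195, []), (187, [(195, [])]), (102, []), (86, [(102, [(195, 1), (187, 6052098)])])])]), (10, [(238, [(250, []), (231, [(250, [])]), (175, []), (111, [(175, [(250, 14047490), (231, 16144642)])])]), (222, [(250, []), (215, [(250, [])]), (159, []), (95, [(159, [(250, 14047490), (215, 16144642)])])]),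 (195, [(231, []), (215, [(231, [])]), (130, []), (66, [(130, [(231, 5527810), (215, 5527810)])])]), (187, [(250, []), (175, []), (159, [(175, [(250, 0)])]), (66, [(250, [(175, 5921026), (159, 5921026)])])]), (166, [(231, []), (175, []), (130, [(175, [(231, 0)])]), (95, [(231, [(175, 8026370), (130, 10377474)])])]), (150, [(215, []), (159, []), (130, [(159, [(215, 0)])]), (111, [(215, [(159, 5527810), (130, 12474626)])])]), (123, [(250, []), (130, [(250, [])]), (111, []), (95, [(111, [(250, 6052098), (130, 6183170)])])]), (102, [(231, []), (159, [(231, [])]), (111, []), (66, [(111, [(231, 5527810), (159, 10115330)])])]), (86, [(215, []), (175, [(215, [])]), (95, []), (66, [(95, [(215, 8157442), (175, 12212482)])])]), (51, [])])] = true := by decide +kernel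

theorem ct0_203 : T0.chk1 sv0 lo0 203 [(246, []), (238, []), (235, [(246, [(238, [])])]), (222, [(238, [(246, [])]), (235, [])]), (219, [(246, [(222, [])]), (238, []), (235, [])]), (195, [(246, []), (238, [(235, [])]), (222, [(219, [])])]), (183, [(235, [(238, [])]), (219, [(222, [])]), (195, [])]), (175, [(222, [(246, []), (183, [])]), (219, []), (195, [(235, [])])]), (170, [(246, [(238, []), (175, [])]), (222, []), (219, [(195, [])]), (183, [(238, []), (175, [])])]), (159, [(238, [(246, []), (183, [])]), (235, []), (195, [(219, [])]), (175, [(246, []), (183, [])]), (170, [])]), (154, [(246, [(222, []), (159, [])]), (238, []), (235, [(195, [])]), (183, [(222, []), (159, [])]), (175, []), (170, [(195, [])])]), (130, [(246, []), (238, [(235, []), (170, [])]), (222, [(219, []), (154, [])]), (183, []), (175, [(235, []), (170, [])]), (159, [(219, []), (154, [])])]), (119, [(235, [(238, []), (170, []), (130, [(238, [(170, 0)])])]), (219, [(222, []), (154, []), (130, [(222, [(154, 0)])])]), (195, [(170, []), (154, [(170, [])]), (130, [])]), (183, [(246, []), (238, []), (222, [(238, [(246, 0)])])]), (175,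 [(246, []), (238, []), (170, [(246, [(238, 0)])])]), (159, [(246, []), (222, []), (154, [(246, [(222, 0)])])])]), (111, [(222, [(246, []), (159, []), (154, [(246, [(159, 0)])]), (119, [(159, [(246, 15882498), (154, 15882498)])])]), (219, [(159, []), (154, []), (130, [(159, [(154, 0)])])]), (195, [(235, []), (154, [(235, [])]), (130, [])]), (183, [(246, []), (238, []), (159, [(238, [(246, 0)])])]), (175, [(246, []), (238, []), (235, [(246, [(238, 0)])])]), (170, [(238, []), (235, []), (130, [(238, [(235, 0)])]), (119, [(235, [(238, 5658882), (130, 5527810)])])])]), (106, [(246, [(238, []), (183, []), (159, [(238, [(183, 0)])]), (111, [(183, [(238, 13785346), (159, 13785346)])])]), (222, [(183, []), (159, []), (154, [(183, [(159, 0)])])]), (219, [(195, []), (159, [(195, [])]), (154, [])]), (175, [(238, []), (235, []), (183, [(235, [(238, 0)])])]), (170, [(238, []), (235, []), (195, [(238, [(235, 0)])])]), (130, [(235, []), (195, []), (154, [(235, [(195, 0)])]), (111, [(195, [(235, 13785346), (154, 13785346)])])]), (119, [(238, []), (154, [(238, [])]), (111, [])])]), (95, [(238, [(246, []), (175, []),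 (170, [(246, [(175, 0)])]), (119, [(175, [(246, 15882498), (170, 15882498)])])]), (235, [(175, []), (170, []), (130, [(175, [(170, 0)])])]), (195, [(219, []), (170, [(219, [])]), (130, [])]), (183, [(246, []), (222, []), (175, [(222, [(246, 0)])])]), (159, [(246, []), (222, []), (219, [(246, [(222, 0)])])]), (154, [(222, []), (219, []), (130, [(222, [(219, 0)])]), (119, [(219, [(222, 5658882), (130, 5527810)])])]), (111, [(246, []), (130, [(246, [])]), (119, [])]), (106, [])]), (90, [(246, [(222, []), (183, []), (175, [(222, [(183, 0)])]), (95, [(183, [(222, 13785346), (175, 13785346)])])]), (238, [(183, []), (175, []), (170, [(183, [(175, 0)])])]), (235, [(195, []), (175, [(195, [])]), (170, [])]), (159, [(222, []), (219, []), (183, [(219, [(222, 0)])])]), (154, [(222, []), (219, []), (195, [(222, [(219, 0)])])]), (130, [(219, []), (195, []), (170, [(219, [(195, 0)])]), (95, [(195, [(219, 13785346), (170, 13785346)])])]), (119, [(222, []), (170, [(222, [])]), (95, [])]), (111, []), (106, [(195, []), (183, [(195, [])])])]), (66, [(246, [(183, []), (175, []), (159, [(175, [(183, 0)])])]), (238, [(235,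 []), (183, [(235, [])]), (175, []), (106, [(175, [(235, 5921026), (183, 5789954)])])]), (222, [(219, []), (183, [(219, [])]), (159, []), (90, [(159, [(219, 5921026), (183, 5789954)])])]), (170, [(235, []), (195, []), (175, [(195, [(235, 0)])]), (90, [(235, [(195, 15882498), (175, 15882498)])])]), (154, [(219, []), (195, []), (159, [(195, [(219, 0)])]), (106, [(219, [(195, 15882498), (159, 15882498)])])]), (130, [(235, []), (219, [(235, [])]), (195, [])]), (119, []), (111, [(235, []), (159, [(235, [])]), (106, [])]), (95, [(219, []), (175, [(219, [])]), (90, [])])]), (51, [(246, [(238, []), (222, [(238, [])]), (183, []), (119, [(183, [(238, 14063874), (222, 16161026)])])]), (235, [(238, []), (195, [(238, [])]), (170, []), (106, [(170, [(238, 5921026), (195, 5789954)])])]), (219, [(222, []), (195, [(222, [])]), (154, []), (90, [(154, [(222, 5921026), (195, 5789954)])])]), (175, [(238, []), (183, []), (170, [(183, [(238, 0)])]), (90, [(238, [(183, 7764226), (170, 9853186)])])]), (159, [(222, []), (183, []), (154, [(183, [(222, 0)])]), (106, [(222, [(183, 5789954), (154, 11950338)])])]), (130, [(195,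 []), (170, []), (154, [(170, [(195, 0)])]), (119, [(195, [(170, 1), (154, 5396994)])])]), (111, [(238, []), (154, [(238, [])]), (119, []), (106, [(119, [(238, 6183170), (154, 9853186)])])]), (95, [(222, []), (170, [(222, [])]), (119, []), (90, [(119, [(222, 7764226), (170, 11950338)])])]), (66, [(195, []), (183, [(195, [])]), (106, []), (90, [(106, [(195, 5396994), (183, 1)])])])]), (6, [(238, [(246, []), (235, [(246, [])]), (175, []), (111, [(175, [(246, 5789954), (235, 5921026)])])]), (222, [(246, []), (219, [(246, [])]), (159, []), (95, [(159, [(246, 5789954), (219, 5921026)])])]), (195, [(235, []), (219, [(235, [])]), (130, []), (66, [(130, [(235, 7633154), (219, 7633154)])])]), (183, [(246, []), (175, []), (159, [(175, [(246, 0)])]), (66, [(246, [(175, 8026370), (159, 5396994)])])]), (170, [(235, []), (175, []), (130, [(175, [(235, 0)])]), (95, [(235, [(175, 5921026), (130, 5789954)])])]), (154, [(219, []), (159, []), (130, [(159, [(219, 0)])]), (111, [(219, [(159, 5921026), (130, 5789954)])])]), (119, [(246, []), (130, [(246, [])]), (111, []), (95, [(111, [(246, 5396994), (130, 8288514)])])]),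 (106, [(235, []), (159, [(235, [])]), (111, []), (66, [(111, [(235, 6052098), (159, 6052098)])])]), (90, [(219, []), (175, [(219, [])]), (95, []), (66, [(95, [(219, 6052098), (175, 6052098)])])]), (51, [])])] = true := by decide +kernel

theorem ct0_206 : T0.chk1 sv0 lo0 206 [(238, []), (235, []), (231, [(235, [(238, [])])]), (222, [(238, []), (235, []), (231, [])]), (219, [(238, [(231, [])]), (235, [])]), (215, [(238, [(235, [])]), (231, []), (219, [(222, [])])]), (175, [(222, []), (219, [(231, [])]), (215, [(235, [])])]), (170, [(231, [(238, []), (175, [])]), (222, [(215, [])]), (219, [])]), (166, [(235, [(238, []), (175, [])]), (222, [(219, [])]), (215, []), (170, [(238, []), (175, [])])]), (159, [(238, []), (235, [(215, [])]), (231, [(219, [])]), (175, []), (170, [(215, [])]), (166, [(219, [])])]), (154, [(238, [(231, []), (166, [])]), (235, []), (215, [(222, []), (159, [])]), (175, [(231, []), (166, [])]), (170, [])]), (150, [(238, [(235, []), (170, [])]), (231, []), (219, [(222, []), (159, [])]), (175, [(235, []), (170, [])]), (166, []), (154, [(222, []), (159, [])])]), (111, [(222, [(159,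 []), (154, []), (150, [(154, [(159, 0)])])]), (219, [(231, []), (159, [(231, [])]), (154, [])]), (215, [(235, []), (159, [(235, [])]), (150, [])]), (175, [(238, []), (235, []), (231, [(235, [(238, 0)])])]), (170, [(238, []), (235, []), (150, [(238, [(235, 0)])])]), (166, [(238, []), (231, []), (154, [(238, [(231, 0)])])])]), (106, [(231, [(238, []), (166, []), (154, [(238, [(166, 0)])]), (111, [(166, [(238, 13785346), (154, 13785346)])])]), (222, [(215, []), (159, []), (154, [(215, [(159, 0)])])]), (219, [(166, []), (159, [(166, [])]), (154, [])]), (175, [(238, []), (235, []), (166, [(235, [(238, 0)])])]), (170, [(238, []), (235, []), (215, [(238, [(235, 0)])])]), (150, [(235, []), (215, []), (159, [(235, [(215, 0)])]), (111, [(215, [(235, 13785602), (159, 13785602)])])])]), (102, [(235, [(238, []), (170, []), (150, [(238, [(170, 0)])]), (111, [(170, [(238, 5921026), (150, 5789954)])])]), (222, [(219, []), (159, []), (150, [(219, [(159, 0)])])]), (215, [(170, []), (159, [(170, [])]), (150, [])]), (175, [(238, []), (231, []), (170, [(231, [(238, 0)])])]), (166, [(238, []), (231, []), (219, [(238,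 [(231, 0)])])]), (154, [(231, []), (219, []), (159, [(231, [(219, 0)])]), (111, [(219, [(231, 15882754), (159, 15882754)])])]), (106, [(238, []), (159, [(238, [])]), (111, [])])]), (95, [(238, [(175, []), (170, []), (166, [(170, [(175, 0)])])]), (235, [(215, []), (175, [(215, [])]), (170, [])]), (231, [(219, []), (175, [(219, [])]), (166, [])]), (159, [(222, []), (219, []), (215, [(219, [(222, 0)])])]), (154, [(222, []), (219, []), (166, [(222, [(219, 0)])])]), (150, [(222, []), (215, []), (170, [(222, [(215, 0)])])]), (111, []), (106, [(215, []), (166, [(215, [])])]), (102, [(219, []), (170, [(219, [])])])]), (90, [(238, [(231, []), (175, []), (170, [(231, [(175, 0)])]), (102, [(175, [(231, 15882498), (170, 15882498)])])]), (235, [(175, []), (170, []), (150, [(175, [(170, 0)])])]), (215, [(222, []), (170, [(222, [])]), (150, []), (95, [(150, [(222, 13785346), (170, 13785346)])])]), (166, [(231, []), (219, []), (175, [(219, [(231, 0)])]), (95, [(231, [(219, 13785602), (175, 13785602)])])]), (159, [(222, []), (219, []), (150, [(219, [(222, 0)])]), (102, [(222, [(219, 5658882), (150, 5527810)])])]),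 (154, [(231, []), (222, [(231, [])]), (219, [])]), (111, [(231, []), (150, [(231, [])]), (102, [])]), (106, [])]), (86, [(238, [(235, []), (175, []), (166, [(235, [(175, 0)])]), (106, [(175, [(235, 5921026), (166, 5789954)])])]), (231, [(175, []), (166, []), (154, [(175, [(166, 0)])])]), (219, [(222, []), (166, [(222, [])]), (154, []), (95, [(154, [(222, 5921026), (166, 5789954)])])]), (170, [(235, []), (215, []), (175, [(215, [(235, 0)])]), (95, [(235, [(215, 15882754), (175, 15882754)])])]), (159, [(222, []), (215, []), (154, [(215, [(222, 0)])]), (106, [(222, [(215, 15882498), (154, 15882498)])])]), (150, [(235, []), (222, [(235, [])]), (215, [])]), (111, [(235, []), (154, [(235, [])]), (106, [])]), (102, []), (90, [(222, []), (175, [(222, [])]), (95, [])])]), (34, [(235, [(238, []), (215, [(238, [])]), (170, []), (106, [(170, [(238, 5921026), (215, 5789954)])])]), (231, [(238, []), (219, [(238, [])]), (166, []), (102, [(166, [(238, 8026370), (219, 7895298)])])]), (222, [(219, []), (215, [(219, [])]), (159, []), (95, [(159, [(219, 5921026), (215, 5789954)])])]), (175, [(238, []), (170, []), (166,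 [(170, [(238, 0)])]), (95, [(238, [(170, 9853186), (166, 5789954)])])]), (154, [(219, []), (166, []), (159, [(166, [(219, 0)])]), (106, [(219, [(166, 5789954), (159, 5921026)])])]), (150, [(215, []), (170, []), (159, [(170, [(215, 0)])]), (102, [(215, [(170, 23552257), (159, 5396994)])])]), (111, [(238, []), (159, [(238, [])]), (106, []), (102, [(106, [(238, 9853186), (159, 6052098)])])]), (90, [(219, []), (170, [(219, [])]), (102, []), (95, [(102, [(219, 23421185), (170, 6183170)])])]), (86, [(215, []), (166, [(215, [])]), (106, []), (95, [(106, [(215, 5396994), (166, 8288514)])])])]), (18, [(238, [(235, []), (231, [(235, [])]), (175, []), (111, [(175, [(235, 5921026), (231, 5789954)])])]), (219, [(231, []), (222, [(231, [])]), (154, []), (90, [(154, [(231, 5789954), (222, 5921026)])])]), (215, [(235, []), (222, [(235, [])]), (150, []), (86, [(150, [(235, 7895298), (222, 8026370)])])]), (170, [(235, []), (175, []), (150, [(175, [(235, 0)])]), (90, [(235, [(175, 5921026), (150, 23421185)])])]), (166, [(231, []), (175, []), (154, [(175, [(231, 0)])]), (86, [(231, [(175, 8026370), (154, 5396994)])])]),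 (159, [(222, []), (154, []), (150, [(154, [(222, 0)])]), (111, [(222, [(154, 11950338), (150, 5789954)])])]), (106, [(235, []), (154, [(235, [])]), (111, []), (86, [(111, [(235, 6052098), (154, 6052098)])])]), (102, [(231, []), (150, [(231, [])]), (111, []), (90, [(111, [(231, 5396994), (150, 23552257)])])]), (95, [(222, []), (175, [(222, [])]), (90, []), (86, [(90, [(222, 11950338), (175, 6052098)])])]), (34, [])])] = true := by decide +kernel

theorem ct0_211 : T0.chk1 sv0 lo0 211 [(250, []), (246, [(250, [])]), (238, []), (219, [(246, []), (238, [(250, [])])]), (215, [(250, []), (238, [(246, [])]), (219, [])]), (195, [(250, [(219, [])]), (246, [(215, [])]), (238, [])]), (187, [(246, [(238, [])]), (215, []), (195, [(219, [])])]), (183, [(250, [(238, [])]), (219, []), (195, [(215, [])]), (187, [(238, [])])]), (175, [(219, [(250, []), (187, [])]), (215, [(246, []), (183, [])]), (195, [])]), (154, [(246, []), (238, [(250, []), (187, [])]), (215, [(195, [])]), (183, []), (175, [(250, []), (187, [])])]), (150, [(250, []), (238, [(246, []), (183, [])]), (219, [(195, [])]), (187, []), (175, [(246, []),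 (183, [])]), (154, [(195, [])])]), (130, [(250, [(219, []), (154, [])]), (246, [(215, []), (150, [])]), (238, []), (187, [(219, []), (154, [])]), (183, [(215, []), (150, [])]), (175, [])]), (123, [(246, [(238, []), (183, []), (150, [(238, [(183, 0)])])]), (215, [(183, []), (150, []), (130, [(183, [(150, 0)])])]), (195, [(219, []), (150, [(219, [])]), (130, [])]), (187, [(250, []), (238, []), (219, [(238, [(250, 0)])])]), (175, [(250, []), (238, []), (183, [(250, [(238, 0)])])]), (154, [(250, []), (219, []), (130, [(250, [(219, 0)])])])]), (119, [(250, [(238, []), (187, []), (154, [(238, [(187, 0)])])]), (219, [(187, []), (154, []), (130, [(187, [(154, 0)])])]), (195, [(215, []), (154, [(215, [])]), (130, [])]), (183, [(246, []), (238, []), (215, [(238, [(246, 0)])])]), (175, [(246, []), (238, []), (187, [(246, [(238, 0)])])]), (150, [(246, []), (215, []), (130, [(246, [(215, 0)])])]), (123, [(238, []), (130, [(238, [])])])]), (111, [(219, [(250, []), (154, []), (130, [(250, [(154, 0)])]), (123, [(154, [(250, 14047490), (130, 7633154)])])]), (215, [(246, []), (150, []), (130, [(246, [(150, 0)])]),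 (119, [(150, [(246, 5527810), (130, 5527810)])])]), (195, [(154, []), (150, [(154, [])]), (130, [])]), (187, [(250, []), (238, []), (154, [(238, [(250, 0)])]), (119, [(250, [(238, 7633154), (154, 16013570)])])]), (183, [(246, []), (238, []), (150, [(238, [(246, 0)])]), (123, [(246, [(238, 5527810), (150, 16021762)])])]), (175, [(250, []), (246, [(250, [])]), (238, [])])]), (90, [(246, [(183, []), (175, []), (150, [(175, [(183, 0)])])]), (238, [(250, []), (183, [(250, [])]), (175, []), (123, [(175, [(250, 11819266), (183, 7764226)])])]), (215, [(195, []), (183, [(195, [])]), (150, [])]), (187, [(250, []), (219, []), (175, [(219, [(250, 0)])])]), (154, [(250, []), (219, []), (195, [(250, [(219, 0)])])]), (130, [(219, []), (195, []), (150, [(219, [(195, 0)])]), (123, [(195, [(219, 5527810), (150, 13809922)])])]), (119, []), (111, [(250, []), (150, [(250, [])]), (123, [])])]), (86, [(250, [(187, []), (175, []), (154, [(175, [(187, 0)])])]), (238, [(246, []), (187, [(246, [])]), (175, []), (119, [(175, [(246, 11827458), (187, 5658882)])])]), (219, [(195, []), (187, [(195, [])]), (154, [])]), (183, [(246,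 []), (215, []), (175, [(215, [(246, 0)])])]), (150, [(246, []), (215, []), (195, [(246, [(215, 0)])])]), (130, [(215, []), (195, []), (154, [(215, [(195, 0)])]), (119, [(195, [(215, 6183170), (154, 6052098)])])]), (123, []), (111, [(246, []), (154, [(246, [])]), (119, [])]), (90, [(195, []), (175, [(195, [])])])]), (66, [(250, [(219, []), (187, []), (175, [(219, [(187, 0)])]), (90, [(187, [(219, 8288514), (175, 5658882)])])]), (246, [(215, []), (183, []), (175, [(215, [(183, 0)])]), (86, [(183, [(215, 6183170), (175, 6052098)])])]), (238, [(187, []), (183, [(187, [])]), (175, [])]), (154, [(219, []), (195, []), (187, [(195, [(219, 0)])]), (86, [(219, [(195, 7895298), (187, 5658882)])])]), (150, [(215, []), (195, []), (183, [(195, [(215, 0)])]), (90, [(215, [(195, 15907074), (183, 5789954)])])]), (130, [(219, []), (215, [(219, [])]), (195, [])]), (123, [(219, []), (183, [(219, [])]), (90, [])]), (119, [(215, []), (187, [(215, [])]), (86, [])]), (111, [])]), (34, [(250, [(238, []), (219, [(238, [])]), (187, []), (123, [(187, [(238, 8157442), (219, 5658882)])])]), (246, [(238, []), (215, [(238, [])]),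 (183, []), (119, [(183, [(238, 7764226), (215, 6183170)])])]), (195, [(219, []), (215, [(219, [])]), (130, []), (66, [(130, [(219, 6052098), (215, 6183170)])])]), (175, [(238, []), (187, []), (183, [(187, [(238, 0)])]), (66, [(238, [(187, 5658882), (183, 7764226)])])]), (154, [(219, []), (187, []), (130, [(187, [(219, 0)])]), (119, [(219, [(187, 5658882), (130, 10377474)])])]), (150, [(215, []), (183, []), (130, [(183, [(215, 0)])]), (123, [(215, [(183, 5789954), (130, 5789954)])])]), (111, [(238, []), (130, [(238, [])]), (123, []), (119, [(123, [(238, 5658882), (130, 7764226)])])]), (90, [(219, []), (183, [(219, [])]), (123, []), (66, [(123, [(219, 5658882), (183, 10115330)])])]), (86, [(215, []), (187, [(215, [])]), (119, []), (66, [(119, [(215, 7764226), (187, 6052098)])])])]), (15, [(238, [(250, []), (246, [(250, [])]), (175, []), (111, [(175, [(250, 14047490), (246, 16144642)])])]), (219, [(250, []), (195, [(250, [])]), (154, []), (90, [(154, [(250, 14047490), (195, 16144642)])])]), (215, [(246, []), (195, [(246, [])]), (150, []), (86, [(150, [(246, 5527810), (195, 16152834)])])]), (187, [(250,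 []), (175, []), (154, [(175, [(250, 0)])]), (86, [(250, [(175, 5921026), (154, 11950338)])])]), (183, [(246, []), (175, []), (150, [(175, [(246, 0)])]), (90, [(246, [(175, 8026370), (150, 10377474)])])]), (130, [(195, []), (154, []), (150, [(154, [(195, 0)])]), (111, [(195, [(154, 5527810), (150, 1)])])]), (123, [(250, []), (150, [(250, [])]), (111, []), (90, [(111, [(250, 6052098), (150, 11950338)])])]), (119, [(246, []), (154, [(246, [])]), (111, []), (86, [(111, [(246, 5527810), (154, 10115330)])])]), (66, [(195, []), (175, [(195, [])]), (90, []), (86, [(90, [(195, 1), (175, 7633154)])])]), (34, [])])] = true := by decide +kernel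

theorem ct0_227 : T0.chk1 sv0 lo0 227 [(250, []), (246, [(250, [])]), (235, [(246, [])]), (231, [(250, []), (235, [])]), (222, [(235, [(250, [])]), (231, [(246, [])])]), (195, [(250, [(235, [])]), (246, [(231, [])]), (222, [])]), (187, [(246, [(222, [])]), (231, []), (195, [(235, [])])]), (183, [(250, [(222, [])]), (235, []), (195, [(231, [])]), (187, [(222, [])])]), (170, [(246, []), (231, [(195, [])]), (222, [(250, []), (187, [])]), (183, [])]), (166, [(250, []), (235, [(195, [])]), (222, [(246, []), (183, [])]), (187, []), (170, [(195, [])])]), (159, [(235, [(250, []), (187, [])]), (231, [(246, []), (183, [])]), (195, []), (170, [(250, []), (187, [])]), (166, [(246, []), (183, [])])]), (130, [(250, [(235, []), (170, [])]), (246, [(231, []), (166, [])]), (222, []), (187, [(235, []), (170, [])]), (183, [(231, []), (166, [])]), (159, [])]), (123, [(246, [(222, []), (183, []), (166, [(222, [(183, 0)])])]), (231, [(183, []), (166, []), (130, [(183, [(166, 0)])])]), (195, [(235, []), (166, [(235, [])]), (130, [])]), (187, [(250, []), (235, []), (222, [(235, [(250, 0)])])]), (170, [(250, []), (235,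 []), (130, [(250, [(235, 0)])])]), (159, [(250, []), (222, []), (183, [(250, [(222, 0)])])])]), (119, [(250, [(222, []), (187, []), (170, [(222, [(187, 0)])])]), (235, [(187, []), (170, []), (130, [(187, [(170, 0)])])]), (195, [(231, []), (170, [(231, [])]), (130, [])]), (183, [(246, []), (231, []), (222, [(231, [(246, 0)])])]), (166, [(246, []), (231, []), (130, [(246, [(231, 0)])])]), (159, [(246, []), (222, []), (187, [(246, [(222, 0)])])]), (123, [(222, []), (130, [(222, [])])])]), (106, [(246, [(183, []), (166, []), (159, [(166, [(183, 0)])])]), (231, [(195, []), (183, [(195, [])]), (166, [])]), (222, [(250, []), (183, [(250, [])]), (159, []), (123, [(159, [(250, 9722114), (183, 7764226)])])]), (187, [(250, []), (235, []), (159, [(235, [(250, 0)])])]), (170, [(250, []), (235, []), (195, [(250, [(235, 0)])])]), (130, [(235, []), (195, []), (166, [(235, [(195, 0)])]), (123, [(195, [(235, 5527810), (166, 8157442)])])]), (119, [])]), (102, [(250, [(187, []), (170, []), (159, [(170, [(187, 0)])])]), (235, [(195, []), (187, [(195, [])]), (170, [])]), (222, [(246, []), (187, [(246, [])]), (159, []),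 (119, [(159, [(246, 9730306), (187, 5658882)])])]), (183, [(246, []), (231, []), (159, [(231, [(246, 0)])])]), (166, [(246, []), (231, []), (195, [(246, [(231, 0)])])]), (130, [(231, []), (195, []), (170, [(231, [(195, 0)])]), (119, [(195, [(231, 6183170), (170, 13801730)])])]), (123, []), (106, [(195, []), (159, [(195, [])])])]), (95, [(235, [(250, []), (170, []), (130, [(250, [(170, 0)])]), (123, [(170, [(250, 14047490), (130, 7633154)])])]), (231, [(246, []), (166, []), (130, [(246, [(166, 0)])]), (119, [(166, [(246, 5527810), (130, 5527810)])])]), (195, [(170, []), (166, [(170, [])]), (130, [])]), (187, [(250, []), (222, []), (170, [(222, [(250, 0)])]), (119, [(250, [(222, 7633154), (170, 16013570)])])]), (183, [(246, []), (222, []), (166, [(222, [(246, 0)])]), (123, [(246, [(222, 5527810), (166, 16021762)])])]), (159, [(250, []), (246, [(250, [])]), (222, [])]), (106, [(250, []), (166, [(250, [])]), (123, [])]), (102, [(246, []), (170, [(246, [])]), (119, [])])]), (66, [(250, [(235, []), (187, []), (159, [(235, [(187, 0)])]), (106, [(187, [(235, 8288514), (159, 16275714)])])]), (246, [(231,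 []), (183, []), (159, [(231, [(183, 0)])]), (102, [(183, [(231, 6183170), (159, 6052098)])])]), (222, [(187, []), (183, [(187, [])]), (159, [])]), (170, [(235, []), (195, []), (187, [(195, [(235, 0)])]), (102, [(235, [(195, 15898882), (187, 5658882)])])]), (166, [(231, []), (195, []), (183, [(195, [(231, 0)])]), (106, [(231, [(195, 5789954), (183, 5789954)])])]), (130, [(235, []), (231, [(235, [])]), (195, [])]), (123, [(235, []), (183, [(235, [])]), (106, [])]), (119, [(231, []), (187, [(231, [])]), (102, [])]), (95, [])]), (18, [(250, [(235, []), (222, [(235, [])]), (187, []), (123, [(187, [(235, 8288514), (222, 5658882)])])]), (246, [(231, []), (222, [(231, [])]), (183, []), (119, [(183, [(231, 7764226), (222, 6052098)])])]), (195, [(235, []), (231, [(235, [])]), (130, []), (66, [(130, [(235, 6052098), (231, 6183170)])])]), (170, [(235, []), (187, []), (130, [(187, [(235, 0)])]), (119, [(235, [(187, 5658882), (130, 12474626)])])]), (166, [(231, []), (183, []), (130, [(183, [(231, 0)])]), (123, [(231, [(183, 7764226), (130, 5789954)])])]), (159, [(222, []), (187, []), (183, [(187, [(222, 0)])]),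 (66, [(222, [(187, 5658882), (183, 7764226)])])]), (106, [(235, []), (183, [(235, [])]), (123, []), (66, [(123, [(235, 5658882), (183, 12212482)])])]), (102, [(231, []), (187, [(231, [])]), (119, []), (66, [(119, [(231, 6183170), (187, 6052098)])])]), (95, [(222, []), (130, [(222, [])]), (123, []), (119, [(123, [(222, 5658882), (130, 7764226)])])])]), (15, [(235, [(250, []), (195, [(250, [])]), (170, []), (106, [(170, [(250, 14047490), (195, 16144642)])])]), (231, [(246, []), (195, [(246, [])]), (166, []), (102, [(166, [(246, 14055682), (195, 5527810)])])]), (222, [(250, []), (246, [(250, [])]), (159, []), (95, [(159, [(250, 14047490), (246, 16144642)])])]), (187, [(250, []), (170, []), (159, [(170, [(250, 0)])]), (102, [(250, [(170, 9853186), (159, 5921026)])])]), (183, [(246, []), (166, []), (159, [(166, [(246, 0)])]), (106, [(246, [(166, 12474626), (159, 5527810)])])]), (130, [(195, []), (170, []), (166, [(170, [(195, 0)])]), (95, [(195, [(170, 1), (166, 7633154)])])]), (123, [(250, []), (166, [(250, [])]), (106, []), (95, [(106, [(250, 9853186), (166, 6183170)])])]), (119, [(246, []), (170, [(246,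 [])]), (102, []), (95, [(102, [(246, 12081410), (170, 8288514)])])]), (66, [(195, []), (159, [(195, [])]), (106, []), (102, [(106, [(195, 5527810), (159, 1)])])]), (18, [])])] = true := by decide +kernel

theorem ct0_242 : T0.chk1 sv0 lo0 242 [(250, []), (246, [(250, [])]), (235, [(246, [])]), (231, [(250, []), (235, [])]), (219, [(246, [(231, [])]), (235, [(250, [])])]), (215, [(250, [(235, [])]), (231, [(246, [])]), (219, [])]), (187, [(246, []), (231, [(219, [])]), (215, [(235, [])])]), (183, [(250, []), (235, [(215, [])]), (219, [(231, [])]), (187, [])]), (170, [(246, [(215, [])]), (231, []), (219, [(250, []), (187, [])]), (183, [(215, [])])]), (166, [(250, [(219, [])]), (235, []), (215, [(246, []), (183, [])]), (187, [(219, [])]), (170, [])]), (154, [(246, [(231, []), (166, [])]), (235, [(250, []), (187, [])]), (215, []), (183, [(231, []), (166, [])]), (170, [(250, []), (187, [])])]), (150, [(250, [(235, []), (170, [])]), (231, [(246, []), (183, [])]), (219, []), (187, [(235, []), (170, [])]), (166, [(246, []), (183, [])]), (154, [])]), (123, [(246, [(183, []), (166, []), (150, [(166, [(183,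 0)])])]), (231, [(219, []), (183, [(219, [])]), (166, [])]), (215, [(235, []), (183, [(235, [])]), (150, [])]), (187, [(250, []), (235, []), (219, [(235, [(250, 0)])])]), (170, [(250, []), (235, []), (150, [(250, [(235, 0)])])]), (154, [(250, []), (219, []), (166, [(250, [(219, 0)])])])]), (119, [(250, [(187, []), (170, []), (154, [(170, [(187, 0)])])]), (235, [(215, []), (187, [(215, [])]), (170, [])]), (219, [(231, []), (187, [(231, [])]), (154, [])]), (183, [(246, []), (231, []), (215, [(231, [(246, 0)])])]), (166, [(246, []), (231, []), (154, [(246, [(231, 0)])])]), (150, [(246, []), (215, []), (170, [(246, [(215, 0)])])]), (123, [])]), (106, [(246, [(215, []), (183, []), (166, [(215, [(183, 0)])])]), (231, [(183, []), (166, []), (154, [(183, [(166, 0)])])]), (219, [(250, []), (166, [(250, [])]), (154, []), (123, [(154, [(250, 9722114), (166, 8157698)])])]), (187, [(250, []), (235, []), (154, [(235, [(250, 0)])])]), (170, [(250, []), (235, []), (215, [(250, [(235, 0)])])]), (150, [(235, []), (215, []), (183, [(235, [(215, 0)])]), (123, [(215, [(235, 5527810), (183, 7764226)])])]), (119, [(215,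 []), (154, [(215, [])])])]), (102, [(250, [(219, []), (187, []), (170, [(219, [(187, 0)])])]), (235, [(187, []), (170, []), (150, [(187, [(170, 0)])])]), (215, [(246, []), (170, [(246, [])]), (150, []), (119, [(150, [(246, 6183170), (170, 8288514)])])]), (183, [(246, []), (231, []), (150, [(231, [(246, 0)])])]), (166, [(246, []), (231, []), (219, [(246, [(231, 0)])])]), (154, [(231, []), (219, []), (187, [(231, [(219, 0)])]), (119, [(219, [(231, 7633154), (187, 5658882)])])]), (123, [(219, []), (150, [(219, [])])]), (106, [])]), (90, [(246, [(231, []), (183, []), (150, [(231, [(183, 0)])]), (102, [(183, [(231, 7764226), (150, 5527810)])])]), (235, [(250, []), (170, []), (150, [(250, [(170, 0)])]), (123, [(170, [(250, 11819266), (150, 6183170)])])]), (215, [(183, []), (170, [(183, [])]), (150, [])]), (187, [(250, []), (219, []), (170, [(219, [(250, 0)])]), (102, [(250, [(219, 5921026), (170, 16013570)])])]), (166, [(231, []), (219, []), (183, [(219, [(231, 0)])]), (123, [(231, [(219, 5527810), (183, 7764226)])])]), (154, [(250, []), (231, [(250, [])]), (219, [])]), (119, [(231, []), (170, [(231, [])]),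 (102, [])]), (106, [(250, []), (183, [(250, [])]), (123, [])])]), (86, [(250, [(235, []), (187, []), (154, [(235, [(187, 0)])]), (106, [(187, [(235, 7633410), (154, 5658882)])])]), (231, [(246, []), (166, []), (154, [(246, [(166, 0)])]), (119, [(166, [(246, 11827458), (154, 6052354)])])]), (219, [(187, []), (166, [(187, [])]), (154, [])]), (183, [(246, []), (215, []), (166, [(215, [(246, 0)])]), (106, [(246, [(215, 5790210), (166, 16021762)])])]), (170, [(235, []), (215, []), (187, [(215, [(235, 0)])]), (119, [(235, [(215, 7633154), (187, 5658882)])])]), (150, [(246, []), (235, [(246, [])]), (215, [])]), (123, [(235, []), (166, [(235, [])]), (106, [])]), (102, [(246, []), (187, [(246, [])]), (119, [])]), (90, [])]), (10, [(246, [(231, []), (215, [(231, [])]), (183, []), (119, [(183, [(231, 5527810), (215, 5527810)])])]), (235, [(250, []), (215, [(250, [])]), (170, []), (106, [(170, [(250, 14047490), (215, 16144642)])])]), (219, [(250, []), (231, [(250, [])]), (154, []), (90, [(154, [(250, 14047490), (231, 16144642)])])]), (187, [(250, []), (170, []), (154, [(170, [(250, 0)])]), (119, [(250, [(170,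 9853186), (154, 11950338)])])]), (166, [(231, []), (183, []), (154, [(183, [(231, 0)])]), (106, [(231, [(183, 7764226), (154, 5527810)])])]), (150, [(215, []), (183, []), (170, [(183, [(215, 0)])]), (90, [(215, [(183, 7764226), (170, 23552257)])])]), (123, [(250, []), (183, [(250, [])]), (106, []), (90, [(106, [(250, 9853186), (183, 11950338)])])]), (102, [(231, []), (170, [(231, [])]), (119, []), (90, [(119, [(231, 7764226), (170, 23552257)])])]), (86, [(215, []), (154, [(215, [])]), (119, []), (106, [(119, [(215, 7764226), (154, 5527810)])])])]), (6, [(250, [(235, []), (219, [(235, [])]), (187, []), (123, [(187, [(235, 7633154), (219, 7633154)])])]), (231, [(246, []), (219, [(246, [])]), (166, []), (102, [(166, [(246, 6183170), (219, 6052098)])])]), (215, [(246, []), (235, [(246, [])]), (150, []), (86, [(150, [(246, 6183170), (235, 6052098)])])]), (183, [(246, []), (166, []), (150, [(166, [(246, 0)])]), (123, [(246, [(166, 5789954), (150, 5789954)])])]), (170, [(235, []), (187, []), (150, [(187, [(235, 0)])]), (102, [(235, [(187, 5658882), (150, 23421185)])])]), (154, [(219, []), (187, []), (166,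 [(187, [(219, 0)])]), (86, [(219, [(187, 5658882), (166, 7633154)])])]), (119, [(246, []), (187, [(246, [])]), (102, []), (86, [(102, [(246, 6183170), (187, 6052098)])])]), (106, [(235, []), (166, [(235, [])]), (123, []), (86, [(123, [(235, 5658882), (166, 7633154)])])]), (90, [(219, []), (150, [(219, [])]), (123, []), (102, [(123, [(219, 5658882), (150, 23421185)])])]), (10, [])])] = true := by decide +kernel

end Cfsg.Agent.LargeExtra.Enum9
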