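import Cfsg.Agent.LargeExtra.Enum9.Check

/-!
# S1763, case II, type (B): certificates for level 1, form T4 (helper268)
-/

set_option autoImplicit false
set_option maxRecDepth 100000

namespace Cfsg.Agent.LargeExtra.Enum9

/-- the surviving pairs -/
def sv4 : List ℕ := [0x40102008800402ff, 0x20401008800402ff, 0x10802008400402ff, 0x80201008400402ff, 0x10408008200402ff, 0x80104008200402ff, 0x40208008100402ff, 0x20804008100402ff]

/-- the order conditions -/
def lo4 : ℕ := 0x44422100

theorem ct4_2 : T4.chk1 sv4 lo4 2 [(248, []), (244, [(248, [])]), (236, [(248, [(244, [])]), (244, [(248, [])])]), (220, [(248, [(244, []), (236, [(244, [])])]), (244, [(248, []), (236, [(248, [])])]), (236, [(248, []), (244, [(248, [])])])]), (188, [(248, [(244, []), (236, [(244, [])]), (220, [(244, [(236, 0)]), (236, [(244, 0)])])]), (244, [(248, []), (236, [(248, [])]), (220, [(248, [(236, 0)]), (236, [(248, 0)])])]), (236, [(248, []), (244, [(248, [])]), (220, [(248, [(244, 0)]), (244, [(248, 0)])])]), (220, [(248, []), (244, [(248, [])]), (236, [(248, [(244, 0)]), (244, [(248, 0)])])])]),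 (128, []), (124, [(248, [(244, []), (236, [(244, [])]), (220, [(244, [(236, 0)]), (236, [(244, 0)])]), (188, [(244, [(236, 1190402), (220, 1190402)]), (236, [(244, 1190402), (220, 1190402)]), (220, [(244, 1190402), (236, 1190402)])])]), (244, [(248, []), (236, [(248, [])]), (220, [(248, [(236, 0)]), (236, [(248, 0)])]), (188, [(248, [(236, 1190402), (220, 1190402)]), (236, [(248, 1190402), (220, 1190402)]), (220, [(248, 1190402), (236, 1190402)])])]), (236, [(248, []), (244, [(248, [])]), (220, [(248, [(244, 0)]), (244, [(248, 0)])]), (188, [(248, [(244, 1190402), (220, 1190402)]), (244, [(248, 1190402), (220, 1190402)]), (220, [(248, 1190402), (244, 1190402)])])]), (220, [(248, []), (244, [(248, [])]), (236, [(248, [(244, 0)]), (244, [(248, 0)])]), (188, [(248, [(244, 1190402), (236, 1190402)]), (244, [(248, 1190402), (236, 1190402)]), (236, [(248, 1190402), (244, 1190402)])])]), (188, [(248, []), (244, [(248, [])]), (236, [(248, [(244, 0)]), (244, [(248, 0)])]), (220, [(248, [(244, 1190402), (236, 1190402)]), (244, [(248, 1190402), (236, 1190402)]), (236, [(248,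 1190402), (244, 1190402)])])]), (128, [])]), (64, [(188, []), (128, [])]), (32, [(220, []), (128, [(64, [])]), (64, [(128, [])])]), (16, [(236, []), (128, [(64, []), (32, [(64, [])])]), (64, [(128, []), (32, [(128, [])])]), (32, [(128, []), (64, [(128, [])])])]), (8, [(244, []), (128, [(64, []), (32, [(64, [])]), (16, [(64, [(32, 0)]), (32, [(64, 0)])])]), (64, [(128, []), (32, [(128, [])]), (16, [(128, [(32, 0)]), (32, [(128, 0)])])]), (32, [(128, []), (64, [(128, [])]), (16, [(128, [(64, 0)]), (64, [(128, 0)])])]), (16, [(128, []), (64, [(128, [])]), (32, [(128, [(64, 0)]), (64, [(128, 0)])])])]), (4, [(248, []), (128, [(64, []), (32, [(64, [])]), (16, [(64, [(32, 0)]), (32, [(64, 0)])]), (8, [(64, [(32, 1190150), (16, 1190150)]), (32, [(64, 1190918), (16, 1)]), (16, [(64, 1), (32, 1190918)])])]), (64, [(128, []), (32, [(128, [])]), (16, [(128, [(32, 0)]), (32, [(128, 0)])]), (8, [(128, [(32, 1190150), (16, 1190150)]), (32, [(128, 1), (16, 1190918)]), (16, [(128, 1190918), (32, 1)])])]), (32, [(128, []), (64, [(128, [])]), (16, [(128, [(64, 0)]), (64, [(128, 0)])]),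 (8, [(128, [(64, 1), (16, 1190918)]), (64, [(128, 1190918), (16, 1)]), (16, [(128, 1190150), (64, 1190150)])])]), (16, [(128, []), (64, [(128, [])]), (32, [(128, [(64, 0)]), (64, [(128, 0)])]), (8, [(128, [(64, 1190918), (32, 1)]), (64, [(128, 1), (32, 1190918)]), (32, [(128, 1190150), (64, 1190150)])])]), (8, [(128, []), (64, [(128, [])]), (32, [(128, [(64, 0)]), (64, [(128, 0)])]), (16, [(128, [(64, 1190918), (32, 1190922)]), (64, [(128, 1190918), (32, 1190918)]), (32, [(128, 1330182), (64, 1190918)])])])])] = true := by decide +kernel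

theorem ct4_4 : T4.chk1 sv4 lo4 4 [(248, []), (242, [(248, [])]), (234, [(248, [(242, [])]), (242, [(248, [])])]), (218, [(248, [(242, []), (234, [(242, [])])]), (242, [(248, []), (234, [(248, [])])]), (234, [(248, []), (242, [(248, [])])])]), (186, [(248, [(242, []), (234, [(242, [])]), (218, [(242, [(234, 0)]), (234, [(242, 0)])])]), (242, [(248, []), (234, [(248, [])]), (218, [(248, [(234, 0)]), (234, [(248, 0)])])]), (234, [(248, []), (242, [(248, [])]), (218, [(248, [(242, 0)]), (242, [(248, 0)])])]), (218, [(248, []), (242, [(248, [])]), (234, [(248, [(242, 0)]), (242, [(248, 0)])])])]), (128, []), (122, [(248, [(242, []), (234, [(242, [])]), (218, [(242, [(234, 0)]), (234, [(242, 0)])]), (186, [(242, [(234, 1198594), (218, 1198594)]), (234, [(242, 1198594), (218, 1198594)]), (218, [(242, 1198594), (234, 1198594)])])]), (242, [(248, []), (234, [(248, [])]), (218, [(248, [(234, 0)]), (234, [(248, 0)])]), (186, [(248, [(234, 1198594), (218, 1198594)]), (234, [(248, 1198594), (218, 1198594)]), (218, [(248, 1198594), (234, 1198594)])])]), (234, [(248, []), (242,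 [(248, [])]), (218, [(248, [(242, 0)]), (242, [(248, 0)])]), (186, [(248, [(242, 1198594), (218, 1198594)]), (242, [(248, 1198594), (218, 1198594)]), (218, [(248, 1198594), (242, 1198594)])])]), (218, [(248, []), (242, [(248, [])]), (234, [(248, [(242, 0)]), (242, [(248, 0)])]), (186, [(248, [(242, 1198594), (234, 1198594)]), (242, [(248, 1198594), (234, 1198594)]), (234, [(248, 1198594), (242, 1198594)])])]), (186, [(248, []), (242, [(248, [])]), (234, [(248, [(242, 0)]), (242, [(248, 0)])]), (218, [(248, [(242, 1198594), (234, 1198594)]), (242, [(248, 1198594), (234, 1198594)]), (234, [(248, 1198594), (242, 1198594)])])]), (128, [])]), (64, [(186, []), (128, [])]), (32, [(218, []), (128, [(64, [])]), (64, [(128, [])])]), (16, [(234, []), (128, [(64, []), (32, [(64, [])])]), (64, [(128, []), (32, [(128, [])])]), (32, [(128, []), (64, [(128, [])])])]), (8, [(242, []), (128, [(64, []), (32, [(64, [])]), (16, [(64, [(32, 0)]), (32, [(64, 0)])])]), (64, [(128, []), (32, [(128, [])]), (16, [(128, [(32, 0)]), (32, [(128, 0)])])]), (32, [(128, []), (64, [(128, [])]),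 (16, [(128, [(64, 0)]), (64, [(128, 0)])])]), (16, [(128, []), (64, [(128, [])]), (32, [(128, [(64, 0)]), (64, [(128, 0)])])])])] = true := by decide +kernel

theorem ct4_8 : T4.chk1 sv4 lo4 8 [(244, []), (242, [(244, [])]), (230, [(244, [(242, [])]), (242, [(244, [])])]), (214, [(244, [(242, []), (230, [(242, [])])]), (242, [(244, []), (230, [(244, [])])]), (230, [(244, []), (242, [(244, [])])])]), (182, [(244, [(242, []), (230, [(242, [])]), (214, [(242, [(230, 0)]), (230, [(242, 0)])])]), (242, [(244, []), (230, [(244, [])]), (214, [(244, [(230, 0)]), (230, [(244, 0)])])]), (230, [(244, []), (242, [(244, [])]), (214, [(244, [(242, 0)]), (242, [(244, 0)])])]), (214, [(244, []), (242, [(244, [])]), (230, [(244, [(242, 0)]), (242, [(244, 0)])])])]), (128, []), (118, [(244, [(242, []), (230, [(242, [])]), (214, [(242, [(230, 0)]), (230, [(242, 0)])]), (182, [(242, [(230, 1206786), (214, 1206786)]), (230, [(242, 1206786), (214, 1206786)]), (214, [(242, 1206786), (230, 1206786)])])]), (242, [(244, []), (230, [(244, [])]), (214, [(244, [(230, 0)]), (230, [(244, 0)])]),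 (182, [(244, [(230, 1206786), (214, 1206786)]), (230, [(244, 1206786), (214, 1206786)]), (214, [(244, 1206786), (230, 1206786)])])]), (230, [(244, []), (242, [(244, [])]), (214, [(244, [(242, 0)]), (242, [(244, 0)])]), (182, [(244, [(242, 1206786), (214, 1206786)]), (242, [(244, 1206786), (214, 1206786)]), (214, [(244, 1206786), (242, 1206786)])])]), (214, [(244, []), (242, [(244, [])]), (230, [(244, [(242, 0)]), (242, [(244, 0)])]), (182, [(244, [(242, 1206786), (230, 1206786)]), (242, [(244, 1206786), (230, 1206786)]), (230, [(244, 1206786), (242, 1206786)])])]), (182, [(244, []), (242, [(244, [])]), (230, [(244, [(242, 0)]), (242, [(244, 0)])]), (214, [(244, [(242, 1206786), (230, 1206786)]), (242, [(244, 1206786), (230, 1206786)]), (230, [(244, 1206786), (242, 1206786)])])]), (128, [])]), (64, [(182, []), (128, [])]), (32, [(214, []), (128, [(64, [])]), (64, [(128, [])])]), (16, [(230, []), (128, [(64, []), (32, [(64, [])])]), (64, [(128, []), (32, [(128, [])])]), (32, [(128, []), (64, [(128, [])])])])] = true := by decide +kernel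

theorem ct4_16 : T4.chk1 sv4 lo4 16 [(236, []), (234, [(236, [])]), (230, [(236, [(234, [])]), (234, [(236, [])])]), (206, [(236, [(234, []), (230, [(234, [])])]), (234, [(236, []), (230, [(236, [])])]), (230, [(236, []), (234, [(236, [])])])]), (174, [(236, [(234, []), (230, [(234, [])]), (206, [(234, [(230, 0)]), (230, [(234, 0)])])]), (234, [(236, []), (230, [(236, [])]), (206, [(236, [(230, 0)]), (230, [(236, 0)])])]), (230, [(236, []), (234, [(236, [])]), (206, [(236, [(234, 0)]), (234, [(236, 0)])])]), (206, [(236, []), (234, [(236, [])]), (230, [(236, [(234, 0)]), (234, [(236, 0)])])])]), (128, []), (110, [(236, [(234, []), (230, [(234, [])]), (206, [(234, [(230, 0)]), (230, [(234, 0)])]), (174, [(234, [(230, 1214978), (206, 1214978)]), (230, [(234, 1214978), (206, 1214978)]), (206, [(234, 1214978), (230, 1214978)])])]), (234, [(236, []), (230, [(236, [])]), (206, [(236, [(230, 0)]), (230, [(236, 0)])]), (174, [(236, [(230, 1214978), (206, 1214978)]), (230, [(236, 1214978), (206, 1214978)]), (206, [(236, 1214978), (230, 1214978)])])]), (230, [(236, []),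 (234, [(236, [])]), (206, [(236, [(234, 0)]), (234, [(236, 0)])]), (174, [(236, [(234, 1214978), (206, 1214978)]), (234, [(236, 1214978), (206, 1214978)]), (206, [(236, 1214978), (234, 1214978)])])]), (206, [(236, []), (234, [(236, [])]), (230, [(236, [(234, 0)]), (234, [(236, 0)])]), (174, [(236, [(234, 1214978), (230, 1214978)]), (234, [(236, 1214978), (230, 1214978)]), (230, [(236, 1214978), (234, 1214978)])])]), (174, [(236, []), (234, [(236, [])]), (230, [(236, [(234, 0)]), (234, [(236, 0)])]), (206, [(236, [(234, 1214978), (230, 1214978)]), (234, [(236, 1214978), (230, 1214978)]), (230, [(236, 1214978), (234, 1214978)])])]), (128, [])]), (64, [(174, []), (128, [])]), (32, [(206, []), (128, [(64, [])]), (64, [(128, [])])])] = true := by decide +kernel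

theorem ct4_32 : T4.chk1 sv4 lo4 32 [(220, []), (218, [(220, [])]), (214, [(220, [(218, [])]), (218, [(220, [])])]), (206, [(220, [(218, []), (214, [(218, [])])]), (218, [(220, []), (214, [(220, [])])]), (214, [(220, []), (218, [(220, [])])])]), (158, [(220, [(218, []), (214, [(218, [])]), (206, [(218, [(214, 0)]), (214, [(218, 0)])])]), (218, [(220, []), (214, [(220, [])]), (206, [(220, [(214, 0)]), (214, [(220, 0)])])]), (214, [(220, []), (218, [(220, [])]), (206, [(220, [(218, 0)]), (218, [(220, 0)])])]), (206, [(220, []), (218, [(220, [])]), (214, [(220, [(218, 0)]), (218, [(220, 0)])])])]), (128, []), (94, [(220, [(218, []), (214, [(218, [])]), (206, [(218, [(214, 0)]), (214, [(218, 0)])]), (158, [(218, [(214, 1223170), (206, 1223170)]), (214, [(218, 1223170), (206, 1223170)]), (206, [(218, 1223170), (214, 1223170)])])]), (218, [(220, []), (214, [(220, [])]), (206, [(220, [(214, 0)]), (214, [(220, 0)])]), (158, [(220, [(214, 1223170), (206, 1223170)]), (214, [(220, 1223170), (206, 1223170)]), (206, [(220, 1223170), (214, 1223170)])])]), (214, [(220, []), (218,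 [(220, [])]), (206, [(220, [(218, 0)]), (218, [(220, 0)])]), (158, [(220, [(218, 1223170), (206, 1223170)]), (218, [(220, 1223170), (206, 1223170)]), (206, [(220, 1223170), (218, 1223170)])])]), (206, [(220, []), (218, [(220, [])]), (214, [(220, [(218, 0)]), (218, [(220, 0)])]), (158, [(220, [(218, 1223170), (214, 1223170)]), (218, [(220, 1223170), (214, 1223170)]), (214, [(220, 1223170), (218, 1223170)])])]), (158, [(220, []), (218, [(220, [])]), (214, [(220, [(218, 0)]), (218, [(220, 0)])]), (206, [(220, [(218, 1223170), (214, 1223170)]), (218, [(220, 1223170), (214, 1223170)]), (214, [(220, 1223170), (218, 1223170)])])]), (128, [])]), (64, [(158, []), (128, [])])] = true := by decide +kernel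

theorem ct4_62 : T4.chk1 sv4 lo4 62 [(188, []), (186, [(188, [])]), (182, [(188, [(186, [])]), (186, [(188, [])])]), (174, [(188, [(186, []), (182, [(186, [])])]), (186, [(188, []), (182, [(188, [])])]), (182, [(188, []), (186, [(188, [])])])]), (158, [(188, [(186, []), (182, [(186, [])]), (174, [(186, [(182, 0)]), (182, [(186, 0)])])]), (186, [(188, []), (182, [(188, [])]), (174, [(188, [(182, 0)]), (182, [(188, 0)])])]), (182, [(188, []), (186, [(188, [])]), (174, [(188, [(186, 0)]), (186, [(188, 0)])])]), (174, [(188, []), (186, [(188, [])]), (182, [(188, [(186, 0)]), (186, [(188, 0)])])])]), (128, []), (124, [(188, []), (128, [])]), (122, [(186, []), (128, [(124, [])]), (124, [(128, [])])]), (118, [(182, []), (128, [(124, []), (122, [(124, [])])]), (124, [(128, []), (122, [(128, [])])]), (122, [(128, []), (124, [(128, [])])])]), (110, [(174, []), (128, [(124, []), (122, [(124, [])]), (118, [(124, [(122, 0)]), (122, [(124, 0)])])]), (124, [(128, []), (122, [(128, [])]), (118, [(128, [(122, 0)]), (122, [(128, 0)])])]), (122, [(128, []), (124, [(128, [])]), (118,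 [(128, [(124, 0)]), (124, [(128, 0)])])]), (118, [(128, []), (124, [(128, [])]), (122, [(128, [(124, 0)]), (124, [(128, 0)])])])]), (94, [(158, []), (128, [(124, []), (122, [(124, [])]), (118, [(124, [(122, 0)]), (122, [(124, 0)])]), (110, [(124, [(122, 1501442), (118, 1501442)]), (122, [(124, 1501442), (118, 1501442)]), (118, [(124, 1501442), (122, 1501442)])])]), (124, [(128, []), (122, [(128, [])]), (118, [(128, [(122, 0)]), (122, [(128, 0)])]), (110, [(128, [(122, 1763586), (118, 1763586)]), (122, [(128, 1894658), (118, 2025730)]), (118, [(128, 1894658), (122, 2025730)])])]), (122, [(128, []), (124, [(128, [])]), (118, [(128, [(124, 0)]), (124, [(128, 0)])]), (110, [(128, [(124, 1763586), (118, 1763586)]), (124, [(128, 1894658), (118, 2025730)]), (118, [(128, 1894658), (124, 2025730)])])]), (118, [(128, []), (124, [(128, [])]), (122, [(128, [(124, 0)]), (124, [(128, 0)])]), (110, [(128, [(124, 1763586), (122, 1763586)]), (124, [(128, 1894658), (122, 2025730)]), (122, [(128, 1894658), (124, 2025730)])])]), (110, [(128, []), (124, [(128, [])]), (122, [(128, [(124,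 0)]), (124, [(128, 0)])]), (118, [(128, [(124, 1763586), (122, 1763586)]), (124, [(128, 1894658), (122, 2025730)]), (122, [(128, 1894658), (124, 2025730)])])])]), (64, [(188, [(186, []), (182, [(186, [])]), (174, [(186, [(182, 0)]), (182, [(186, 0)])]), (158, [(186, [(182, 1362178), (174, 1362178)]), (182, [(186, 1362178), (174, 1362178)]), (174, [(186, 1362178), (182, 1362178)])])]), (186, [(188, []), (182, [(188, [])]), (174, [(188, [(182, 0)]), (182, [(188, 0)])]), (158, [(188, [(182, 1362178), (174, 1362178)]), (182, [(188, 1362178), (174, 1362178)]), (174, [(188, 1362178), (182, 1362178)])])]), (182, [(188, []), (186, [(188, [])]), (174, [(188, [(186, 0)]), (186, [(188, 0)])]), (158, [(188, [(186, 1362178), (174, 1362178)]), (186, [(188, 1362178), (174, 1362178)]), (174, [(188, 1362178), (186, 1362178)])])]), (174, [(188, []), (186, [(188, [])]), (182, [(188, [(186, 0)]), (186, [(188, 0)])]), (158, [(188, [(186, 1362178), (182, 1362178)]), (186, [(188, 1362178), (182, 1362178)]), (182, [(188, 1362178), (186, 1362178)])])]), (158, [(188, []), (186, [(188, [])]),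 (182, [(188, [(186, 0)]), (186, [(188, 0)])]), (174, [(188, [(186, 1362178), (182, 1362178)]), (186, [(188, 1362178), (182, 1362178)]), (182, [(188, 1362178), (186, 1362178)])])]), (128, [])])] = true := by decide +kernel

theorem ct4_64 : T4.chk1 sv4 lo4 64 [(188, []), (186, [(188, [])]), (182, [(188, [(186, [])]), (186, [(188, [])])]), (174, [(188, [(186, []), (182, [(186, [])])]), (186, [(188, []), (182, [(188, [])])]), (182, [(188, []), (186, [(188, [])])])]), (158, [(188, [(186, []), (182, [(186, [])]), (174, [(186, [(182, 0)]), (182, [(186, 0)])])]), (186, [(188, []), (182, [(188, [])]), (174, [(188, [(182, 0)]), (182, [(188, 0)])])]), (182, [(188, []), (186, [(188, [])]), (174, [(188, [(186, 0)]), (186, [(188, 0)])])]), (174, [(188, []), (186, [(188, [])]), (182, [(188, [(186, 0)]), (186, [(188, 0)])])])]), (128, [])] = true := by decide +kernel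

theorem ct4_94 : T4.chk1 sv4 lo4 94 [(220, []), (218, [(220, [])]), (214, [(220, [(218, [])]), (218, [(220, [])])]), (206, [(220, [(218, []), (214, [(218, [])])]), (218, [(220, []), (214, [(220, [])])]), (214, [(220, []), (218, [(220, [])])])]), (158, [(220, [(218, []), (214, [(218, [])]), (206, [(218, [(214, 0)]), (214, [(218, 0)])])]), (218, [(220, []), (214, [(220, [])]), (206, [(220, [(214, 0)]), (214, [(220, 0)])])]), (214, [(220, []), (218, [(220, [])]), (206, [(220, [(218, 0)]), (218, [(220, 0)])])]), (206, [(220, []), (218, [(220, [])]), (214, [(220, [(218, 0)]), (218, [(220, 0)])])])]), (128, []), (124, [(220, []), (128, [])]), (122, [(218, []), (128, [(124, [])]), (124, [(128, [])])]), (118, [(214, []), (128, [(124, []), (122, [(124, [])])]), (124, [(128, []), (122, [(128, [])])]), (122, [(128, []), (124, [(128, [])])])]), (110, [(206, []), (128, [(124, []), (122, [(124, [])]), (118, [(124, [(122, 0)]), (122, [(124, 0)])])]), (124, [(128, []), (122, [(128, [])]), (118, [(128, [(122, 0)]), (122, [(128, 0)])])]), (122, [(128, []), (124, [(128, [])]), (118,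 [(128, [(124, 0)]), (124, [(128, 0)])])]), (118, [(128, []), (124, [(128, [])]), (122, [(128, [(124, 0)]), (124, [(128, 0)])])])])] = true := by decide +kernel

theorem ct4_110 : T4.chk1 sv4 lo4 110 [(236, []), (234, [(236, [])]), (230, [(236, [(234, [])]), (234, [(236, [])])]), (206, [(236, [(234, []), (230, [(234, [])])]), (234, [(236, []), (230, [(236, [])])]), (230, [(236, []), (234, [(236, [])])])]), (174, [(236, [(234, []), (230, [(234, [])]), (206, [(234, [(230, 0)]), (230, [(234, 0)])])]), (234, [(236, []), (230, [(236, [])]), (206, [(236, [(230, 0)]), (230, [(236, 0)])])]), (230, [(236, []), (234, [(236, [])]), (206, [(236, [(234, 0)]), (234, [(236, 0)])])]), (206, [(236, []), (234, [(236, [])]), (230, [(236, [(234, 0)]), (234, [(236, 0)])])])]), (128, []), (124, [(236, []), (128, [])]), (122, [(234, []), (128, [(124, [])]), (124, [(128, [])])]), (118, [(230, []), (128, [(124, []), (122, [(124, [])])]), (124, [(128, []), (122, [(128, [])])]), (122, [(128, []), (124, [(128, [])])])])] = true := by decide +kernel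

theorem ct4_118 : T4.chk1 sv4 lo4 118 [(244, []), (242, [(244, [])]), (230, [(244, [(242, [])]), (242, [(244, [])])]), (214, [(244, [(242, []), (230, [(242, [])])]), (242, [(244, []), (230, [(244, [])])]), (230, [(244, []), (242, [(244, [])])])]), (182, [(244, [(242, []), (230, [(242, [])]), (214, [(242, [(230, 0)]), (230, [(242, 0)])])]), (242, [(244, []), (230, [(244, [])]), (214, [(244, [(230, 0)]), (230, [(244, 0)])])]), (230, [(244, []), (242, [(244, [])]), (214, [(244, [(242, 0)]), (242, [(244, 0)])])]), (214, [(244, []), (242, [(244, [])]), (230, [(244, [(242, 0)]), (242, [(244, 0)])])])]), (128, []), (124, [(244, []), (128, [])]), (122, [(242, []), (128, [(124, [])]), (124, [(128, [])])])] = true := by decide +kernel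

theorem ct4_122 : T4.chk1 sv4 lo4 122 [(248, []), (242, [(248, [])]), (234, [(248, [(242, [])]), (242, [(248, [])])]), (218, [(248, [(242, []), (234, [(242, [])])]), (242, [(248, []), (234, [(248, [])])]), (234, [(248, []), (242, [(248, [])])])]), (186, [(248, [(242, []), (234, [(242, [])]), (218, [(242, [(234, 0)]), (234, [(242, 0)])])]), (242, [(248, []), (234, [(248, [])]), (218, [(248, [(234, 0)]), (234, [(248, 0)])])]), (234, [(248, []), (242, [(248, [])]), (218, [(248, [(242, 0)]), (242, [(248, 0)])])]), (218, [(248, []), (242, [(248, [])]), (234, [(248, [(242, 0)]), (242, [(248, 0)])])])]), (128, []), (124, [(248, []), (128, [])])] = true := by decide +kernel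

theorem ct4_124 : T4.chk1 sv4 lo4 124 [(248, []), (244, [(248, [])]), (236, [(248, [(244, [])]), (244, [(248, [])])]), (220, [(248, [(244, []), (236, [(244, [])])]), (244, [(248, []), (236, [(248, [])])]), (236, [(248, []), (244, [(248, [])])])]), (188, [(248, [(244, []), (236, [(244, [])]), (220, [(244, [(236, 0)]), (236, [(244, 0)])])]), (244, [(248, []), (236, [(248, [])]), (220, [(248, [(236, 0)]), (236, [(248, 0)])])]), (236, [(248, []), (244, [(248, [])]), (220, [(248, [(244, 0)]), (244, [(248, 0)])])]), (220, [(248, []), (244, [(248, [])]), (236, [(248, [(244, 0)]), (244, [(248, 0)])])])]), (128, [])] = true := by decide +kernel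

theorem ct4_128 : T4.chk1 sv4 lo4 128 [] = true := by decide +kernel

theorem ct4_158 : T4.chk1 sv4 lo4 158 [(220, []), (218, [(220, [])]), (214, [(220, [(218, [])]), (218, [(220, [])])]), (206, [(220, [(218, []), (214, [(218, [])])]), (218, [(220, []), (214, [(220, [])])]), (214, [(220, []), (218, [(220, [])])])]), (188, [(220, [])]), (186, [(218, []), (188, [])]), (182, [(214, []), (188, [(186, [])]), (186, [(188, [])])]), (174, [(206, []), (188, [(186, []), (182, [(186, [])])]), (186, [(188, []), (182, [(188, [])])]), (182, [(188, []), (186, [(188, [])])])])] = true := by decide +kernel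

theorem ct4_174 : T4.chk1 sv4 lo4 174 [(236, []), (234, [(236, [])]), (230, [(236, [(234, [])]), (234, [(236, [])])]), (206, [(236, [(234, []), (230, [(234, [])])]), (234, [(236, []), (230, [(236, [])])]), (230, [(236, []), (234, [(236, [])])])]), (188, [(236, [])]), (186, [(234, []), (188, [])]), (182, [(230, []), (188, [(186, [])]), (186, [(188, [])])])] = true := by decide +kernel

theorem ct4_182 : T4.chk1 sv4 lo4 182 [(244, []), (242, [(244, [])]), (230, [(244, [(242, [])]), (242, [(244, [])])]), (214, [(244, [(242, []), (230, [(242, [])])]), (242, [(244, []), (230, [(244, [])])]), (230, [(244, []), (242, [(244, [])])])]), (188, [(244, [])]), (186, [(242, []), (188, [])])] = true := by decide +kernel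

theorem ct4_186 : T4.chk1 sv4 lo4 186 [(248, []), (242, [(248, [])]), (234, [(248, [(242, [])]), (242, [(248, [])])]), (218, [(248, [(242, []), (234, [(242, [])])]), (242, [(248, []), (234, [(248, [])])]), (234, [(248, []), (242, [(248, [])])])]), (188, [(248, [])])] = true := by decide +kernel

theorem ct4_188 : T4.chk1 sv4 lo4 188 [(248, []), (244, [(248, [])]), (236, [(248, [(244, [])]), (244, [(248, [])])]), (220, [(248, [(244, []), (236, [(244, [])])]), (244, [(248, []), (236, [(248, [])])]), (236, [(248, []), (244, [(248, [])])])])] = true := by decide +kernel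

theorem ct4_206 : T4.chk1 sv4 lo4 206 [(236, []), (234, [(236, [])]), (230, [(236, [(234, [])]), (234, [(236, [])])]), (220, [(236, [])]), (218, [(234, []), (220, [])]), (214, [(230, []), (220, [(218, [])]), (218, [(220, [])])])] = true := by decide +kernel

theorem ct4_214 : T4.chk1 sv4 lo4 214 [(244, []), (242, [(244, [])]), (230, [(244, [(242, [])]), (242, [(244, [])])]), (220, [(244, [])]), (218, [(242, []), (220, [])])] = true := by decide +kernel

theorem ct4_218 : T4.chk1 sv4 lo4 218 [(248, []), (242, [(248, [])]), (234, [(248, [(242, [])]), (242, [(248, [])])]), (220, [(248, [])])] = true := by decide +kernel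

theorem ct4_220 : T4.chk1 sv4 lo4 220 [(248, []), (244, [(248, [])]), (236, [(248, [(244, [])]), (244, [(248, [])])])] = true := by decide +kernel

theorem ct4_230 : T4.chk1 sv4 lo4 230 [(244, []), (242, [(244, [])]), (236, [(244, [])]), (234, [(242, []), (236, [])])] = true := by decide +kernel

theorem ct4_234 : T4.chk1 sv4 lo4 234 [(248, []), (242, [(248, [])]), (236, [(248, [])])] = true := by decide +kernel

theorem ct4_236 : T4.chk1 sv4 lo4 236 [(248, []), (244, [(248, [])])] = true := by decide +kernel

theorem ct4_242 : T4.chk1 sv4 lo4 242 [(248, []), (244, [(248, [])])] = true := by decide +kernel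

theorem ct4_244 : T4.chk1 sv4 lo4 244 [(248, [])] = true := by decide +kernel

theorem ct4_248 : T4.chk1 sv4 lo4 248 [] = true := by decide +kernel

end Cfsg.Agent.LargeExtra.Enum9
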