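import Cfsg.Agent.LargeExtra.Enum9.Code

/-!
# S1763, case II, type (B): the kernel checker for level 1 (helper268)
-/

set_option autoImplicit false

namespace Cfsg.Agent.LargeExtra.Enum9

/-- evaluate `n` before applying `k` -/
def fc {α : Type} (n : ℕ) (k : ℕ → α) : α :=
  match n with
  | 0 => k 0
  | Nat.succ m => k (Nat.succ m)

theorem fc_eq {α : Type} (n : ℕ) (k : ℕ → α) : fc n k = k n := by cases n <;> rfl

/-- the numbers in the list are exactly the bits of the mask, and `f n a` for all of them -/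
def zipF {α : Type} (f : ℕ → α → Bool) : ℕ → List (ℕ × α) → Bool
  | mask, [] => Nat.beq mask 0
  | mask, (h, a) :: as => Nat.beq (bt mask h) 1 && (f h a &&
      fc (Nat.xor mask (Nat.shiftLeft 1 h)) fun m => zipF f m as)

/-- nested certificates -/
abbrev C1 := List (ℕ × ℕ)
/-- nested certificates -/
abbrev C2 := List (ℕ × C1)
/-- nested certificates -/
abbrev C3 := List (ℕ × C2)
/-- nested certificates -/
abbrev C4 := List (ℕ × C3)
/-- nested certificates -/
abbrev C5 := List (ℕ × C4)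

/-- mask of the `n` with `b(n, m) = g(d)` -/
def Tab.msk (T : Tab) (d m : ℕ) : ℕ :=
  Nat.xor (row T.rp m) (Nat.mul (Nat.sub 1 (bt T.gm d)) (0xffffffffffffffffffffffffffffffffffffffffffffffffffffffffffffffff))

/-- mask of the singular `n` with `b(n, b) = 1`, `b(n, a) = g(k)` -/
def Tab.base (T : Tab) (k : ℕ) : ℕ := bif Nat.beq (bt T.gm k) 0 then T.l0 else T.l1

/-- clear the bits below `l` -/
def clr (mask l : ℕ) : ℕ := Nat.shiftLeft (Nat.shiftRight mask l) l

/-- one letter: `x_j` for `l = j < 8`, `y_j` for `l = 8 + j` -/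
def Tab.lt (T : Tab) (M l t : ℕ) : ℕ := bif Nat.blt l 8 then px l t else T.act M (Nat.sub l 8) t

/-- a word of at most `f` letters (hexadecimal digits, applied from the lowest) -/
def Tab.evw (T : Tab) (M : ℕ) : ℕ → ℕ → ℕ → ℕ
  | 0, _, t => t
  | Nat.succ f, w, t => bif Nat.beq w 0 then t else
      fc (T.lt M (Nat.land w 15) t) fun s => T.evw M f (Nat.shiftRight w 4) s

/-- `W` is a contradiction for the pair with matrix `M` -/
def Tab.conf (T : Tab) (M W : ℕ) : Bool :=
  fc (Nat.land W 255) fun t => fc (Nat.land (Nat.shiftRight W 8) 7) fun k =>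
  fc (bt W 11) fun p => fc (bt W 12) fun p' => fc (Nat.shiftRight W 13) fun w =>
  Nat.beq (T.evw M 4 w (bif Nat.beq p 0 then 255 else 1)) (bif Nat.beq p' 0 then 255 else 1) &&
  fc (T.evw M 4 w t) fun s1 =>
  fc (T.evw M 4 w (bif Nat.beq p 0 then px k t else T.act M k t)) fun s2 =>
  not (Nat.beq (orb (bif Nat.beq p' 0 then s1 else T.crd M s1))
    (orb (bif Nat.beq p' 0 then s2 else T.crd M s2)))

/-- leaf: `W = 1` means survivor -/
def Tab.leaf (T : Tab) (S : List ℕ) (M W : ℕ) : Bool :=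
  bif Nat.beq W 1 then S.any (Nat.beq M) else T.conf M W

/-- the checker for a fixed `m1`; `lo` (hexadecimal digits): `m_(lo k) ≤ m_k` -/
def Tab.chk1 (T : Tab) (S : List ℕ) (lo m1 : ℕ) (c : C5) : Bool :=
  zipF (fun m2 c => zipF (fun m3 c => zipF (fun m4 c => zipF (fun m5 c => zipF (fun m6 W =>
      fc (Nat.xor 254 (Nat.xor m1 (Nat.xor m2 (Nat.xor m3 (Nat.xor m4 (Nat.xor m5 m6)))))) fun m7 =>
      (bif Nat.beq (Nat.land (Nat.shiftRight lo 28) 15) 4 then Nat.blt m7 m4 else false) ||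
      fc (Nat.add 255 (Nat.shiftLeft (Nat.add m1 (Nat.shiftLeft (Nat.add m2 (Nat.shiftLeft (Nat.add m3
        (Nat.shiftLeft (Nat.add m4 (Nat.shiftLeft (Nat.add m5 (Nat.shiftLeft
          (Nat.add m6 (Nat.shiftLeft m7 8)) 8)) 8)) 8)) 8)) 8)) 8)) fun M => T.leaf S M W)
      (fc (Nat.land (T.base 6) (Nat.land (T.msk 7 m1) (Nat.land (T.msk 4 m2) (Nat.land (T.msk 5 m3)
        (Nat.land (T.msk 2 m4) (T.msk 3 m5)))))) fun m =>
        bif Nat.beq (Nat.land (Nat.shiftRight lo 24) 15) 4 then clr m m4 else m) c)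
      (fc (Nat.land (T.base 5) (Nat.land (T.msk 4 m1) (Nat.land (T.msk 7 m2) (Nat.land (T.msk 6 m3)
        (T.msk 1 m4))))) fun m =>
        bif Nat.beq (Nat.land (Nat.shiftRight lo 20) 15) 4 then clr m m4 else m) c)
      (fc (Nat.land (T.base 4) (Nat.land (T.msk 5 m1) (Nat.land (T.msk 6 m2) (T.msk 7 m3)))) fun m =>
        bif Nat.beq (Nat.land (Nat.shiftRight lo 16) 15) 2 then clr m m2 else m) c)
      (fc (Nat.land (T.base 3) (Nat.land (T.msk 2 m1) (T.msk 1 m2))) fun m =>
        bif Nat.beq (Nat.land (Nat.shiftRight lo 12) 15) 2 then clr m m2 else m) c)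
      (fc (Nat.land (T.base 2) (T.msk 3 m1)) fun m =>
        bif Nat.beq (Nat.land (Nat.shiftRight lo 8) 15) 1 then clr m m1 else m) c

end Cfsg.Agent.LargeExtra.Enum9
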