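import Cfsg.Agent.LargeExtra.Enum9.Level2

/-!
# S1763, case II, type (B): the orbit of the point (helper268)
-/

set_option autoImplicit false

namespace Cfsg.Agent.LargeExtra.Enum9

/-- the check for `PairM.relabel` -/
def relOk (T : Tab) (M M' : ℕ) (β γ : ℕ × ℕ × ℕ) (PB : ℕ) : Bool :=
  (blOk β && (allN 8 fun k => Nat.beq (bt T.gm (bl β k)) (bt T.gm k))) &&
  ((blOk γ && (allN 8 fun k => Nat.beq (bt T.gm (bl γ k)) (bt T.gm k))) &&
  ((allN 8 fun k => Nat.beq (col PB k) (Nat.shiftLeft 1 (bl β k))) &&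
  (allN 8 fun k => Nat.beq (lin PB (col M' k)) (col M (bl γ k)))))

/-- the matrices of the list `S` can be relabelled to members of `R` -/
def relAll (T : Tab) (R : List ℕ) : List ℕ → List (ℕ × (ℕ × ℕ × ℕ) × (ℕ × ℕ × ℕ) × ℕ) → Bool
  | [], _ => true
  | _ :: _, [] => false
  | M :: S, (M', β, γ, PB) :: c => R.any (Nat.beq M') && relOk T M M' β γ PB && relAll T R S c

theorem orb_ex : ∀ n, n < 256 → ∃ j, j < 8 ∧ px j n = orb n := by
  have h : (allN 256 fun n => !(allN 8 fun j => !(Nat.beq (px j n) (orb n)))) = true := by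
    decide +kernel
  intro n hn
  have h1 := allN_apply h hn
  by_contra hcon
  push Not at hcon
  have h2 : (allN 8 fun j => !(Nat.beq (px j n) (orb n))) = true := by
    rw [allN_iff]
    intro j hj
    rw [Bool.not_eq_true', Bool.eq_false_iff]
    intro h3
    exact hcon j hj (Nat.eq_of_beq_eq_true h3)
  rw [h2] at h1
  exact absurd h1 (by decide)

/-- the check for `PairM.closed` -/
def closedOk (T : Tab) (LM D : List ℕ) : Bool :=
  allN 256 fun v => !(Nat.beq (par v) 1) || (!(Nat.beq (bt T.q v) 0) ||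
    (LM.any (Nat.beq v) || (D.any (Nat.beq (orb v)) && Nat.beq (par (orb v)) 1)))

variable {V : Type*} [AddCommGroup V] [Module (ZMod 2) V]
variable {q : V → ZMod 2} {b : LinearMap.BilinForm (ZMod 2) V}
  {H : Subgroup (V ≃ₗ[ZMod 2] V)} {a : V} {X : Subgroup (V ≃ₗ[ZMod 2] V)}

namespace PairM

variable {T : Tab} {M : ℕ} {r : V} {x y : ℕ → (V ≃ₗ[ZMod 2] V)}

theorem relabel (P : PairM q b H a X T M r x y) {M' : ℕ} {β γ : ℕ × ℕ × ℕ} {PB : ℕ}
    (h : relOk T M M' β γ PB = true) :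
    PairM q b H a X T M' r (fun k => x (bl β k)) (fun k => y (bl γ k)) := by
  rw [relOk, Bool.and_eq_true, Bool.and_eq_true, Bool.and_eq_true, Bool.and_eq_true,
    Bool.and_eq_true] at h
  obtain ⟨⟨h1, h2⟩, ⟨h3, h4⟩, h5, h6⟩ := h
  refine ⟨P.L.relabel h1 fun k hk => Nat.eq_of_beq_eq_true (allN_apply h2 hk),
    P.L'.relabel h3 fun k hk => Nat.eq_of_beq_eq_true (allN_apply h4 hk), fun k hk => ?_⟩
  have h7 : ∀ n, vec (fun k => x (bl β k) r) n = vec (fun k => x k r) (lin PB n) := by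
    intro n
    rw [vec_lin]
    refine vec_congr (fun k hk => ?_) n
    rw [Nat.eq_of_beq_eq_true (allN_apply h5 hk)]
    exact (vec_two_pow (fun k => x k r) (blOk_lt h1 hk)).symm
  show y (bl γ k) a = _
  rw [h7, Nat.eq_of_beq_eq_true (allN_apply h6 hk)]
  exact P.hM _ (blOk_lt h3 hk)

theorem relabel_all {R : List ℕ} :
    ∀ {S : List ℕ} {c : List (ℕ × (ℕ × ℕ × ℕ) × (ℕ × ℕ × ℕ) × ℕ)}, relAll T R S c = true →
    ∀ {M : ℕ}, M ∈ S → ∀ {r : V} {x y : ℕ → (V ≃ₗ[ZMod 2] V)}, PairM q b H a X T M r x y →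
    ∃ M' ∈ R, ∃ x' y', PairM q b H a X T M' r x' y' := by
  intro S
  induction S with
  | nil => intro c _ M hM; exact absurd hM (List.not_mem_nil)
  | cons M1 S ih =>
    intro c hc M hM r x y P
    cases c with
    | nil => exact absurd hc (by simp [relAll])
    | cons w c =>
      obtain ⟨M', β, γ, PB⟩ := w
      rw [relAll, Bool.and_eq_true, Bool.and_eq_true] at hc
      rcases List.mem_cons.1 hM with h | h
      · subst h
        have h1 := hc.1.1
        rw [List.any_eq_true] at h1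
        obtain ⟨M2, h3, h4⟩ := h1
        rw [← Nat.eq_of_beq_eq_true h4] at h3
        exact ⟨M', h3, _, _, P.relabel hc.1.2⟩
      · exact ih hc.2 h P

theorem closed (P : PairM q b H a X T M r x y) {LM D : List ℕ} (hD : closedOk T LM D = true)
    (hdead : ∀ u ∈ D, u < 256 → par u = 1 → vec (fun k => x k r) u ∈ Orb H a → False) :
    ∀ v, v < 256 → par v = 1 → vec (fun k => x k r) v ∈ Orb H a → v ∈ LM := by
  intro v hv hpar hO
  have h1 := allN_apply hD hv
  have hq : bt T.q v = 0 := by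
    have h2 := P.L.q_vec v hv
    rw [q_Orb P.L.fam hO] at h2
    exact (Lab.nat_of_zmod (Or.inl rfl) (bt_cases _ _) (by rw [← h2]; rfl)).symm
  rw [hpar, hq, show Nat.beq 1 1 = true from rfl, show Nat.beq 0 0 = true from rfl, Bool.not_true,
    Bool.false_or, Bool.false_or, Bool.or_eq_true, Bool.and_eq_true, List.any_eq_true,
    List.any_eq_true] at h1
  rcases h1 with ⟨u, h2, h3⟩ | ⟨⟨u, h2, h3⟩, h4⟩
  · rw [Nat.eq_of_beq_eq_true h3]; exact h2
  · exfalso
    obtain ⟨j, hj, he⟩ := orb_ex v hv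
    rw [← Nat.eq_of_beq_eq_true h3] at h2
    refine hdead _ h2 ?_ (Nat.eq_of_beq_eq_true h4) ?_
    · rw [← he]; exact px_lt hj hv
    · rw [← he, ← P.L.f_vec hj hv]
      exact Orb_map hO (P.L.mem_H hj)

end PairM

/-- the result of the enumeration -/
structure Res (q : V → ZMod 2) (b : LinearMap.BilinForm (ZMod 2) V)
    (H : Subgroup (V ≃ₗ[ZMod 2] V)) (a : V) (X : Subgroup (V ≃ₗ[ZMod 2] V)) (T : Tab) (M : ℕ)
    (LM : List ℕ) (r : V) (x y : ℕ → (V ≃ₗ[ZMod 2] V)) : Prop extends PairM q b H a X T M r x y where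
  mem : ∀ v, v < 256 → par v = 1 → vec (fun k => x k r) v ∈ Orb H a → v ∈ LM

/-- an element of `H` with the matrix `G` -/
def Has (H : Subgroup (V ≃ₗ[ZMod 2] V)) (e : ℕ → V) (G : ℕ) : Prop :=
  ∃ U ∈ H, ∀ t, U (vec e t) = vec e (lin G t)

theorem Three.has {T : Tab} {p r : V} {x : ℕ → (V ≃ₗ[ZMod 2] V)} {M0 M1 M2 v : ℕ}
    (L : Lab q b H a X T p r x) (h : Three q b H a X T (fun k => x k r) M0 M1 M2 v) {f w G : ℕ}
    (hG : (allN 8 fun k => Nat.beq (T.evw3 M0 M1 M2 f w (Nat.shiftLeft 1 k)) (col G k)) = true) :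
    Has H (fun k => x k r) G := by
  obtain ⟨U, hU, hw⟩ := evw3_spec L h f w
  refine ⟨U, hU, fun t => ?_⟩
  rw [map_vec, vec_lin]
  refine vec_congr (fun k hk => ?_) t
  have h1 : Nat.shiftLeft 1 k < 256 := by
    have : ∀ k, k < 8 → Nat.shiftLeft 1 k < 256 := by decide
    exact this k hk
  have h2 := (hw _ h1).1
  rw [vec_two_pow _ hk, Nat.eq_of_beq_eq_true (allN_apply hG hk)] at h2
  exact h2

/-- a word moves the point `P` of the orbit -/
theorem Three.move {T : Tab} {p r : V} {x : ℕ → (V ≃ₗ[ZMod 2] V)} {M0 M1 M2 v : ℕ}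
    (L : Lab q b H a X T p r x) (h : Three q b H a X T (fun k => x k r) M0 M1 M2 v) (f w : ℕ) {P : ℕ}
    (hw : Nat.beq (T.evw3 M0 M1 M2 f w 255) P = true) : vec (fun k => x k r) P ∈ Orb H a := by
  obtain ⟨U, hU, hU2⟩ := evw3_spec L h f w
  have h1 := (hU2 255 (by norm_num)).1
  rw [Nat.eq_of_beq_eq_true hw] at h1
  rw [← h1]
  exact Orb_map (by
    have := h.g0.ex
    obtain ⟨s, g, L1, -⟩ := this
    exact L1.hp) hU

end Cfsg.Agent.LargeExtra.Enum9
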