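import Cfsg.Agent.LargeExtra.Enum9.LastData
import Cfsg.Agent.LargeExtra.Enum9.Closed
import Cfsg.Agent.LargeExtra.KillNine.Codes

/-!
# S1763, case II, type (B): from codes to `IsConf` (helper73)
-/

set_option autoImplicit false
set_option maxRecDepth 100000

namespace Cfsg.Agent.LargeExtra.Enum9.Final

open Cfsg.Agent.Co2Type.Quad Cfsg.Agent.LargeExtra.Base Cfsg.Agent.LargeExtra.Enum9.Last
open Cfsg.Agent.LargeExtra.Nine (F8 Coord Acts Conf IsConf)
open Cfsg.Agent.LargeExtra.KillNine.Codes (ap mulL idL)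

/-- data of the coordinate change -/
structure CDat where
  phi : ℕ
  psi : ℕ
  jX : List ℕ
  jN : List ℕ
  inv : List (List ℕ)

/-- the standard quadratic form on codes -/
def qn (m : ℕ) : ℕ :=
  Nat.land (Nat.add (Nat.mul (bt m 0) (bt m 4)) (Nat.add (Nat.mul (bt m 1) (bt m 5))
    (Nat.add (Nat.mul (bt m 2) (bt m 6)) (Nat.mul (bt m 3) (bt m 7))))) 1

/-- `15, 51, 85, 255` -/
def gD : ℕ := 0xff55330f

/-- the form vanishes on `n` and all of `15, 51, 85, 255` -/
def perp (T : Tab) (n : ℕ) : Bool :=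
  Nat.beq (T.B n 15) 0 && (Nat.beq (T.B n 51) 0 && (Nat.beq (T.B n 85) 0 && Nat.beq (T.B n 255) 0))

/-- check of the coordinate change -/
def k1 (T : Tab) (C : CDat) : Bool :=
  (allN 256 fun n => fc (lin C.phi n) fun m => Nat.beq (lin C.psi m) n &&
    (Nat.beq (lin C.phi (lin C.psi n)) n && (Nat.beq (qn m) (bt T.q n) &&
    (!(perp T n) || Nat.blt m 16)))) &&
  ((allN 16 fun m => !(allN 16 fun c => !(Nat.beq (lin gD c) (lin C.psi m)))) &&
  Nat.beq (lin C.phi 255) 1)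

/-- the packed matrix `g` and the list `L` correspond -/
def mchk (phi g : ℕ) (L : List ℕ) : Bool :=
  allN 8 fun k => Nat.beq (lin phi (col g k)) (ap L (lin phi (Nat.shiftLeft 1 k)))

/-- check of the letters -/
def k2 (D : Dat) (C : CDat) (c : Conf) : Bool :=
  Nat.beq c.X.length 3 && (Nat.beq (c.X ++ c.N).length D.nx &&
  (Nat.beq ((c.X ++ c.N) ++ c.M).length D.gs.length && (Nat.ble 6 D.nx &&
  ((allN D.gs.length fun i => mchk C.phi (D.gs.getD i 0) (((c.X ++ c.N) ++ c.M).getD i [])) &&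
  ((allN 3 fun i => Nat.blt (C.jX.getD i 0) 8 &&
    allN 8 fun k => Nat.beq (col (D.gs.getD i 0) k) (px (C.jX.getD i 0) (Nat.shiftLeft 1 k))) &&
  ((allN 3 fun i => Nat.blt (C.jN.getD i 0) 8 &&
    allN 8 fun k => Nat.beq (col (D.gs.getD (Nat.add 3 i) 0) k)
      (D.T.act D.M (C.jN.getD i 0) (Nat.shiftLeft 1 k))) &&
  c.M.zipIdx.all fun L => decide (mulL L.1 (C.inv.getD L.2 []) = idL) &&
    decide (mulL (C.inv.getD L.2 []) L.1 = idL)))))))

theorem nvec_apply (m : ℕ) (i : Fin 8) : Nine.vec m i = ((bt m i : ℕ) : ZMod 2) := by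
  rw [bt_eq]
  show (if m.testBit i then (1 : ZMod 2) else 0) = _
  cases m.testBit i <;> rfl

theorem qs_vec (m : ℕ) : Nine.qs (Nine.vec m) = ((qn m : ℕ) : ZMod 2) := by
  have h : ∀ x, Nat.land x 1 = x % 2 := fun x => Nat.and_one_is_mod x
  rw [qn, h, ZMod.natCast_mod]
  simp only [Nine.qs, nvec_apply]
  show _ = ((bt m 0 * bt m 4 + (bt m 1 * bt m 5 + (bt m 2 * bt m 6 + bt m 3 * bt m 7)) : ℕ) : ZMod 2)
  push_cast
  show (bt m 0 : ZMod 2) * (bt m 4 : ZMod 2) + (bt m 1 : ZMod 2) * (bt m 5 : ZMod 2) +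
    (bt m 2 : ZMod 2) * (bt m 6 : ZMod 2) + (bt m 3 : ZMod 2) * (bt m 7 : ZMod 2) = _
  ring

section coord

variable {G : Type*} [Group G] {Q : Subgroup G} {z : G} {h : Large Q z} {e : ℕ → h.V}

/-- the inverse map -/
noncomputable def psiL (e : ℕ → h.V) (psi : ℕ) : F8 →ₗ[ZMod 2] h.V where
  toFun w := ∑ i : Fin 8, w i • vec e (col psi i)
  map_add' v w := by
    simp only [Pi.add_apply, add_smul, Finset.sum_add_distrib]
  map_smul' c v := by
    simp only [Pi.smul_apply, smul_eq_mul, mul_smul, Finset.smul_sum, RingHom.id_apply]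

theorem psiL_vec (e : ℕ → h.V) (psi m : ℕ) : psiL e psi (Nine.vec m) = vec e (lin psi m) := by
  rw [vec_lin]
  show ∑ i : Fin 8, Nine.vec m i • vec e (col psi i) = _
  simp only [nvec_apply, Nat.cast_smul_eq_nsmul]
  rw [Fin.sum_univ_eight]
  generalize hf : (fun k => vec e (col psi k)) = f
  have hf' : ∀ k, vec e (col psi k) = f k := fun k => congrFun hf k
  simp only [hf']
  show bt m 0 • f 0 + bt m 1 • f 1 + bt m 2 • f 2 + bt m 3 • f 3 + bt m 4 • f 4 + bt m 5 • f 5 +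
    bt m 6 • f 6 + bt m 7 • f 7 = vec f m
  rw [vec]
  abel

theorem exists_coord (hinj : ∀ n, n < 256 → ∀ m, m < 256 → vec e n = vec e m → n = m)
    (hsurj : ∀ v, ∃ n, n < 256 ∧ vec e n = v) {T : Tab}
    (hq : ∀ n, n < 256 → h.q (vec e n) = (bt T.q n : ℕ)) {phi psi : ℕ}
    (hk : ∀ n, n < 256 → lin psi (lin phi n) = n ∧ lin phi (lin psi n) = n ∧
      qn (lin phi n) = bt T.q n) :
    ∃ φ : Coord h, ∀ n, n < 256 → φ.e (vec e n) = Nine.vec (lin phi n) := by
  have hb : Function.Bijective (psiL e psi) := by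
    constructor
    · intro w1 w2 h12
      obtain ⟨m1, hm1, rfl⟩ := KillNine.Codes.exists_code w1
      obtain ⟨m2, hm2, rfl⟩ := KillNine.Codes.exists_code w2
      rw [psiL_vec, psiL_vec] at h12
      have h1 := hinj _ (lin_lt _ _) _ (lin_lt _ _) h12
      rw [← (hk m1 hm1).2.1, ← (hk m2 hm2).2.1, h1]
    · intro v
      obtain ⟨n, hn, rfl⟩ := hsurj v
      exact ⟨Nine.vec (lin phi n), by rw [psiL_vec, (hk n hn).1]⟩
  have hv : ∀ n, n < 256 → (LinearEquiv.ofBijective (psiL e psi) hb).symm (vec e n) =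
      Nine.vec (lin phi n) := by
    intro n hn
    rw [LinearEquiv.symm_apply_eq]
    show vec e n = psiL e psi (Nine.vec (lin phi n))
    rw [psiL_vec, (hk n hn).1]
  refine ⟨⟨(LinearEquiv.ofBijective (psiL e psi) hb).symm, fun v => ?_⟩, hv⟩
  obtain ⟨n, hn, rfl⟩ := hsurj v
  rw [hv n hn, qs_vec, (hk n hn).2.2, hq n hn]

/-- a packed matrix and a list -/
theorem acts_of_mat {φ : Coord h} {phi : ℕ} (hφ : ∀ n, n < 256 → φ.e (vec e n) = Nine.vec (lin phi n))
    (hsurj : ∀ v, ∃ n, n < 256 ∧ vec e n = v) {g : ℕ} {L : List ℕ} (hg : mchk phi g L = true)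
    {f : h.V ≃ₗ[ZMod 2] h.V} (hf : Mat e g f) : Acts φ L f := by
  intro v
  obtain ⟨n, hn, rfl⟩ := hsurj v
  have h1 : ∀ k, k < 8 → φ.e (f (e k)) = Nine.lin L (φ.e (e k)) := by
    intro k hk
    rw [hf k hk, hφ _ (col_lt _ _), Nat.eq_of_beq_eq_true (allN_apply hg hk),
      ← KillNine.Codes.lin_vec, ← hφ _ (shl_lt k hk), vec_two_pow _ hk]
  have e1 : φ.e (f (vec e n)) = vec (fun k => φ.e (f (e k))) n := by rw [map_vec, map_vec]
  have e2 : Nine.lin L (φ.e (vec e n)) = vec (fun k => Nine.lin L (φ.e (e k))) n := by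
    rw [map_vec, map_vec]
  rw [e1, e2]
  exact vec_congr h1 n

/-- an invertible matrix is realised by a linear map -/
theorem exists_map {φ : Coord h} {phi : ℕ} (hφ : ∀ n, n < 256 → φ.e (vec e n) = Nine.vec (lin phi n))
    {g : ℕ} {L L' : List ℕ} (hg : mchk phi g L = true) (h1 : mulL L L' = idL) (h2 : mulL L' L = idL) :
    ∃ f : h.V ≃ₗ[ZMod 2] h.V, Mat e g f := by
  have k1 : ∀ v, Nine.lin L' (Nine.lin L v) = v := fun v => by
    rw [← KillNine.Codes.lin_mulL, h1, KillNine.Codes.lin_id]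
  have k2 : ∀ v, Nine.lin L (Nine.lin L' v) = v := fun v => by
    rw [← KillNine.Codes.lin_mulL, h2, KillNine.Codes.lin_id]
  let E : F8 ≃ₗ[ZMod 2] F8 := LinearEquiv.ofLinearMap (Nine.lin L) (Nine.lin L')
    (LinearMap.ext k2) (LinearMap.ext k1)
  refine ⟨(φ.e.trans E).trans φ.e.symm, fun k hk => ?_⟩
  show φ.e.symm (Nine.lin L (φ.e (e k))) = vec e (col g k)
  rw [LinearEquiv.symm_apply_eq, hφ _ (col_lt _ _), Nat.eq_of_beq_eq_true (allN_apply hg hk),
      ← KillNine.Codes.lin_vec, ← hφ _ (shl_lt k hk), vec_two_pow _ hk]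

end coord

theorem high_bits : ∀ m, m < 256 → bt m 4 = 0 → bt m 5 = 0 → bt m 6 = 0 → bt m 7 = 0 → m < 16 := by
  have h : (allN 256 fun m => Nat.blt m 16 || (Nat.beq (bt m 4) 1 || (Nat.beq (bt m 5) 1 ||
    (Nat.beq (bt m 6) 1 || Nat.beq (bt m 7) 1)))) = true := by decide +kernel
  intro m hm h4 h5 h6 h7
  have h1 := allN_apply h hm
  rw [h4, h5, h6, h7, show Nat.beq 0 1 = false from rfl] at h1
  simpa using h1

theorem low_bits : ∀ m, m < 16 → bt m 4 = 0 ∧ bt m 5 = 0 ∧ bt m 6 = 0 ∧ bt m 7 = 0 := by decide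

theorem getD_append_left {α : Type*} (l l' : List α) (d : α) {i : ℕ} (hi : i < l.length) :
    (l ++ l').getD i d = l.getD i d := by
  rw [List.getD_eq_getElem?_getD, List.getD_eq_getElem?_getD, List.getElem?_append_left hi]

theorem mem_getD {α : Type*} {l : List α} (l' : List α) (d : α) {x : α} (hx : x ∈ l) :
    ∃ i, i < l.length ∧ (l ++ l').getD i d = x := by
  obtain ⟨i, hi, rfl⟩ := List.getElem_of_mem hx
  exact ⟨i, hi, by rw [getD_append_left _ _ _ hi, List.getD_eq_getElem _ _ hi]⟩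

theorem getD_mem {α : Type*} {l : List α} (d : α) {i : ℕ} (hi : i < l.length) : l.getD i d ∈ l := by
  rw [List.getD_eq_getElem _ _ hi]; exact List.getElem_mem hi

variable {G : Type*} [Group G] {Q A : Subgroup G} {z a : G}

theorem code_aux : (Nat.xor (px 2 3) 3 = 15 ∧ Nat.xor (px 4 3) 3 = 51 ∧ Nat.xor (px 2 17) 17 = 85) ∧
    (par 3 = 0 ∧ par 17 = 0) ∧
    (col gD 0 = 15 ∧ col gD 1 = 51 ∧ col gD 2 = 85 ∧ col gD 3 = 255 ∧ col gD 4 = 0 ∧ col gD 5 = 0 ∧
    col gD 6 = 0 ∧ col gD 7 = 0) := by decide +kernel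

section main

variable {p : Pair Q z A a} {D : Dat} {r : p.lz.V} {x y : ℕ → (p.lz.V ≃ₗ[ZMod 2] p.lz.V)}

theorem gens_mem {T : Tab} (L : Lab p.lz.q p.lz.b p.H p.va p.X T p.va r x) :
    vec (fun k => x k r) 15 ∈ p.D ∧ vec (fun k => x k r) 51 ∈ p.D ∧ vec (fun k => x k r) 85 ∈ p.D ∧
    vec (fun k => x k r) 255 ∈ p.D := by
  obtain ⟨⟨h15, h51, h85⟩, ⟨h3, h17⟩, -⟩ := code_aux
  have key : ∀ j, j < 8 → ∀ n, n < 256 → par n = 0 →
      vec (fun k => x k r) (Nat.xor (px j n) n) ∈ p.D := by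
    intro j hj n hn h0
    rw [vec_xor, ← L.f_vec hj hn r]
    refine p.X_perp ((mem_XX_a L.fam).1 (L.mem j hj)) ?_
    rw [L.b_p_vec hn, h0]; rfl
  refine ⟨?_, ?_, ?_, ?_⟩
  · rw [← h15]; exact key 2 (by norm_num) 3 (by norm_num) h3
  · rw [← h51]; exact key 4 (by norm_num) 3 (by norm_num) h3
  · rw [← h85]; exact key 2 (by norm_num) 17 (by norm_num) h17
  · rw [L.vec_full]; exact p.va_mem_D

theorem vec_mem {W : Submodule (ZMod 2) p.lz.V} {f : ℕ → p.lz.V} (hf : ∀ k, k < 8 → f k ∈ W) (n : ℕ) :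
    vec f n ∈ W := by
  have h : ∀ k, k < 8 → bt n k • f k ∈ W := fun k hk => W.nsmul_mem (hf k hk) _
  exact W.add_mem (h 0 (by norm_num)) (W.add_mem (h 1 (by norm_num)) (W.add_mem (h 2 (by norm_num))
    (W.add_mem (h 3 (by norm_num)) (W.add_mem (h 4 (by norm_num)) (W.add_mem (h 5 (by norm_num))
    (W.add_mem (h 6 (by norm_num)) (h 7 (by norm_num))))))))

/-- **the last step** -/
theorem isConf (hok : D.ok = true) {C : CDat} {c : Conf} (hk1 : k1 D.T C = true)
    (hk2 : k2 D C c = true) {LM : List ℕ} (hLM : LM = D.LM.map fun e => e.1)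
    (R : Res p.lz.q p.lz.b p.H p.va p.X D.T D.M LM r x y)
    (hg : ∀ i, 6 ≤ i → i < D.nx → Has p.H (fun k => x k r) (D.gs.getD i 0)) :
    ∃ φ : Coord p.lz, IsConf p φ c := by
  have L := R.L
  have L' := R.L'
  have hM := R.hM
  rw [k1] at hk1
  simp only [Bool.and_eq_true, fc_eq] at hk1
  obtain ⟨hA, hB, hC⟩ := hk1
  have hA' : ∀ n, n < 256 → lin C.psi (lin C.phi n) = n ∧ lin C.phi (lin C.psi n) = n ∧
      qn (lin C.phi n) = bt D.T.q n ∧ (perp D.T n = true → lin C.phi n < 16) := by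
    intro n hn
    have h1 := allN_apply hA hn
    simp only [Bool.and_eq_true] at h1
    refine ⟨Nat.eq_of_beq_eq_true h1.1, Nat.eq_of_beq_eq_true h1.2.1,
      Nat.eq_of_beq_eq_true h1.2.2.1, fun h2 => ?_⟩
    have h3 := h1.2.2.2
    rw [h2, Bool.not_true, Bool.false_or, Nat.blt_eq] at h3
    exact h3
  have hinj : ∀ n, n < 256 → ∀ m, m < 256 → vec (fun k => x k r) n = vec (fun k => x k r) m → n = m :=
    fun n hn m hm h => L.vec_inj hn hm h
  obtain ⟨φ, hφ⟩ := exists_coord hinj L.vec_surj L.q_vec fun n hn =>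
    ⟨(hA' n hn).1, (hA' n hn).2.1, (hA' n hn).2.2.1⟩
  rw [k2] at hk2
  simp only [Bool.and_eq_true] at hk2
  obtain ⟨l1, l2, l3, l4, l5, l6, l7, l8⟩ := hk2
  have l1 := Nat.eq_of_beq_eq_true l1
  have l2 := Nat.eq_of_beq_eq_true l2
  have l3 := Nat.eq_of_beq_eq_true l3
  have l4 : 6 ≤ D.nx := Nat.le_of_ble_eq_true l4
  have hnx : D.nx ≤ D.gs.length := by
    rw [← l2, ← l3, List.length_append (as := c.X ++ c.N)]
    exact Nat.le_add_right _ _
  -- the letters
  have hlet : ∀ i, ∃ f : p.lz.V ≃ₗ[ZMod 2] p.lz.V, i < D.gs.length →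
      Mat (fun k => x k r) (D.gs.getD i 0) f ∧ (i < D.nx → f ∈ p.H) ∧ (i < 3 → f ∈ p.X) := by
    intro i
    by_cases hi : i < D.gs.length
    swap
    · exact ⟨1, fun h => absurd h hi⟩
    by_cases h3 : i < 3
    · have h1 := allN_apply l6 h3
      rw [Bool.and_eq_true, Nat.blt_eq] at h1
      have hX : x (C.jX.getD i 0) ∈ p.X := (mem_XX_a L.fam).1 (L.mem _ h1.1)
      refine ⟨x (C.jX.getD i 0), fun _ => ⟨fun k hk => ?_, fun _ => p.X_le_H hX, fun _ => hX⟩⟩
      rw [Nat.eq_of_beq_eq_true (allN_apply h1.2 hk), ← L.f_vec h1.1 (shl_lt k hk) r, vec_two_pow _ hk]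
    by_cases h6 : i < 6
    · obtain ⟨i', hi'⟩ : ∃ i', i = Nat.add 3 i' := ⟨i - 3, by show i = 3 + (i - 3); omega⟩
      have hi3 : i' < 3 := by
        have : i = 3 + i' := hi'
        omega
      have h1 := allN_apply l7 hi3
      rw [Bool.and_eq_true, Nat.blt_eq] at h1
      refine ⟨y (C.jN.getD i' 0), fun _ => ⟨fun k hk => ?_, fun _ => L'.mem_H h1.1, fun h => absurd h h3⟩⟩
      rw [hi', Nat.eq_of_beq_eq_true (allN_apply h1.2 hk), ← L.act_spec L' hM h1.1 (shl_lt k hk),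
        vec_two_pow _ hk]
    by_cases hn : i < D.nx
    · obtain ⟨U, hU, hUv⟩ := hg i (not_lt.1 h6) hn
      exact ⟨U, fun _ => ⟨Mat.of_apply fun n _ => hUv n, fun _ => hU, fun h => absurd h h3⟩⟩
    · -- the matrices of `c.M`
      have hmc := allN_apply l5 hi
      have hle : (c.X ++ c.N).length ≤ i := by rw [l2]; exact not_lt.1 hn
      have hlt : i - (c.X ++ c.N).length < c.M.length := by
        have := hi
        rw [← l3, List.length_append (as := c.X ++ c.N)] at this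
        omega
      have he : ((c.X ++ c.N) ++ c.M).getD i [] = c.M[i - (c.X ++ c.N).length] := by
        rw [List.getD_eq_getElem?_getD, List.getElem?_append_right hle,
          List.getElem?_eq_getElem hlt]; rfl
      rw [he] at hmc
      have h2 := (List.all_eq_true.1 l8) (c.M[i - (c.X ++ c.N).length], i - (c.X ++ c.N).length)
        (List.mem_zipIdx_iff_getElem?.2 (List.getElem?_eq_getElem hlt))
      rw [Bool.and_eq_true, decide_eq_true_eq, decide_eq_true_eq] at h2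
      obtain ⟨f, hf⟩ := exists_map hφ hmc h2.1 h2.2
      exact ⟨f, fun _ => ⟨hf, fun h => absurd h hn, fun h => absurd h h3⟩⟩
  choose mm hmm using hlet
  have hacts : ∀ i, i < D.gs.length → Acts φ (((c.X ++ c.N) ++ c.M).getD i []) (mm i) := fun i hi =>
    acts_of_mat hφ L.vec_surj (allN_apply l5 hi) (hmm i hi).1
  refine ⟨φ, ?_, ?_, ?_, ?_, ?_⟩
  · rw [← L.vec_full, hφ 255 (by norm_num), Nat.eq_of_beq_eq_true hC]
  · intro v
    obtain ⟨n, hn, rfl⟩ := L.vec_surj v
    have e4 : Nine.vec (lin C.phi n) 4 = ((bt (lin C.phi n) 4 : ℕ) : ZMod 2) := nvec_apply _ 4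
    have e5 : Nine.vec (lin C.phi n) 5 = ((bt (lin C.phi n) 5 : ℕ) : ZMod 2) := nvec_apply _ 5
    have e6 : Nine.vec (lin C.phi n) 6 = ((bt (lin C.phi n) 6 : ℕ) : ZMod 2) := nvec_apply _ 6
    have e7 : Nine.vec (lin C.phi n) 7 = ((bt (lin C.phi n) 7 : ℕ) : ZMod 2) := nvec_apply _ 7
    rw [hφ n hn, e4, e5, e6, e7]
    obtain ⟨g15, g51, g85, g255⟩ := gens_mem L
    constructor
    · intro hv
      have hz : ∀ m, m < 256 → vec (fun k => x k r) m ∈ p.D → Nat.beq (D.T.B n m) 0 = true := by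
        intro m hm hmD
        have h1 := p.b_D hv hmD
        rw [L.b_vec hn hm] at h1
        have h2 : D.T.B n m = 0 := Lab.nat_of_zmod (par_cases _) (Or.inl rfl) (by rw [h1]; rfl)
        rw [h2]; rfl
      have h1 : perp D.T n = true := by
        rw [perp, hz 15 (by norm_num) g15, hz 51 (by norm_num) g51, hz 85 (by norm_num) g85,
          hz 255 (by norm_num) g255]
        rfl
      obtain ⟨k4, k5, k6, k7⟩ := low_bits _ ((hA' n hn).2.2.2 h1)
      rw [k4, k5, k6, k7]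
      exact ⟨rfl, rfl, rfl, rfl⟩
    · rintro ⟨h4, h5, h6, h7⟩
      have hb : ∀ i, ((bt (lin C.phi n) i : ℕ) : ZMod 2) = 0 → bt (lin C.phi n) i = 0 := fun i hi =>
        Lab.nat_of_zmod (bt_cases _ _) (Or.inl rfl) (by rw [hi]; rfl)
      have h16 := high_bits _ (lin_lt C.phi n) (hb _ h4) (hb _ h5) (hb _ h6) (hb _ h7)
      have h1 := allN_apply hB h16
      obtain ⟨c', hc', he⟩ : ∃ c', c' < 16 ∧ lin gD c' = lin C.psi (lin C.phi n) := by
        by_contra hcon
        push Not at hcon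
        have h2 : (allN 16 fun c => !(Nat.beq (lin gD c) (lin C.psi (lin C.phi n)))) = true := by
          rw [allN_iff]
          intro j hj
          rw [Bool.not_eq_true', Bool.eq_false_iff]
          intro h3
          exact hcon j hj (Nat.eq_of_beq_eq_true h3)
        rw [h2] at h1
        exact absurd h1 (by decide)
      rw [(hA' n hn).1] at he
      rw [← he, vec_lin]
      obtain ⟨-, -, c0, c1, c2, c3, c4, c5, c6, c7⟩ := code_aux
      refine vec_mem (p := p) (fun k hk => ?_) c'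
      have hz : vec (fun k => x k r) 0 ∈ p.D := by rw [vec_zero]; exact p.D.zero_mem
      interval_cases k
      · rw [c0]; exact g15
      · rw [c1]; exact g51
      · rw [c2]; exact g85
      · rw [c3]; exact g255
      · rw [c4]; exact hz
      · rw [c5]; exact hz
      · rw [c6]; exact hz
      · rw [c7]; exact hz
  · intro M hM'
    obtain ⟨i, hi, he⟩ := mem_getD (c.N ++ c.M) [] hM'
    rw [← List.append_assoc] at he
    have hi' : i < D.gs.length := by omega
    refine ⟨mm i, (hmm i hi').2.2 (by omega), ?_⟩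
    rw [← he]
    exact hacts i hi'
  · intro M hM'
    obtain ⟨i, hi, he⟩ := mem_getD c.M [] (List.mem_append_right c.X hM')
    have hi' : i < D.gs.length := by omega
    refine ⟨mm i, (hmm i hi').2.1 (by omega), ?_⟩
    rw [← he]
    exact hacts i hi'
  · refine le_of_ok hok L L' hM (fun v hv hp ho => ?_) (fun i hi => (hmm i hi).1)
      (fun i hi => (hmm i (lt_of_lt_of_le hi hnx)).2.1 hi) (fun i hi => ?_)
    · rw [← hLM]; exact R.mem v hv hp ho
    · exact Subgroup.subset_closure ⟨_, getD_mem [] (by rw [l3]; exact hi), hacts i hi⟩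

end main

end Cfsg.Agent.LargeExtra.Enum9.Final
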