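import Cfsg.Agent.LargeExtra.Enum9.Vec

/-!
# S1763, case II, type (B): frames (helper268)

`BFam q b H a X`: `X` is normal in the stabiliser of `a` in `H`, elementary abelian of order 8, and
`∑ x v = a` over `x ∈ X` for `b(a, v) = 1`.  `Lab F T p r f`: a numbering `f` of `X_p` and a reference
vector `r` of the orbit with `b(p, r) = 1`, with Gram matrix `b(f_i r, f_j r) = g(i xor j)`.
-/

set_option autoImplicit false

namespace Cfsg.Agent.LargeExtra.Enum9

variable {V : Type*} [AddCommGroup V] [Module (ZMod 2) V]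

/-- the abstract situation of type (B) -/
structure BFam (q : V → ZMod 2) (b : LinearMap.BilinForm (ZMod 2) V)
    (H : Subgroup (V ≃ₗ[ZMod 2] V)) (a : V) (X : Subgroup (V ≃ₗ[ZMod 2] V)) : Prop where
  card : Nat.card V = 256
  q_add : ∀ v w, q (v + w) = q v + q w + b v w
  q_H : ∀ h ∈ H, ∀ v, q (h v) = q v
  q_a : q a = 0
  a_ne : a ≠ 0
  X_le : X ≤ H
  X_norm : ∀ h ∈ H, h a = a → ∀ x ∈ X, h * x * h⁻¹ ∈ X
  lab : ∃ x : ℕ → (V ≃ₗ[ZMod 2] V), (∀ k, k < 8 → x k ∈ X) ∧ (∀ f ∈ X, ∃ k, k < 8 ∧ f = x k) ∧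
    (∀ j, j < 8 → ∀ k, k < 8 → x (Nat.xor j k) = x j * x k) ∧
    ∀ v, b a v = 1 → vec (fun k => x k v) 255 = a
  opp : ∃ h ∈ H, b a (h a) = 1

theorem zm (c : ZMod 2) : c = 0 ∨ c = 1 := by revert c; decide

theorem zadd (c : ZMod 2) : c + c = 0 := by revert c; decide

namespace BFam

variable {q : V → ZMod 2} {b : LinearMap.BilinForm (ZMod 2) V}
  {H : Subgroup (V ≃ₗ[ZMod 2] V)} {a : V} {X : Subgroup (V ≃ₗ[ZMod 2] V)}

theorem b_eq (F : BFam q b H a X) (v w : V) : b v w = q (v + w) + q v + q w := by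
  rw [F.q_add]
  generalize q v = x, q w = y, b v w = z
  revert x y z; decide

theorem q_zero (F : BFam q b H a X) : q 0 = 0 := by
  have h := F.q_add 0 0
  rw [add_zero, map_zero, add_zero, zadd] at h
  exact h

theorem b_comm (F : BFam q b H a X) (v w : V) : b v w = b w v := by
  rw [F.b_eq, F.b_eq, add_comm w v]; ring

theorem b_self (F : BFam q b H a X) (v : V) : b v v = 0 := by
  rw [F.b_eq, add_self, F.q_zero, zero_add, zadd]

theorem b_H (F : BFam q b H a X) {h : V ≃ₗ[ZMod 2] V} (hh : h ∈ H) (v w : V) :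
    b (h v) (h w) = b v w := by
  rw [F.b_eq, F.b_eq, ← map_add, F.q_H h hh, F.q_H h hh, F.q_H h hh]

end BFam

theorem inv_apply (f : V ≃ₗ[ZMod 2] V) (v : V) : f⁻¹ (f v) = v := f.symm_apply_apply v

theorem apply_inv (f : V ≃ₗ[ZMod 2] V) (v : V) : f (f⁻¹ v) = v := f.apply_symm_apply v

/-- the conjugate of `X` at the point `p` -/
def XX (H : Subgroup (V ≃ₗ[ZMod 2] V)) (a : V) (X : Subgroup (V ≃ₗ[ZMod 2] V)) (p : V) :
    Set (V ≃ₗ[ZMod 2] V) := {f | ∃ h ∈ H, h a = p ∧ h⁻¹ * f * h ∈ X}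

/-- the orbit of `a` -/
def Orb (H : Subgroup (V ≃ₗ[ZMod 2] V)) (a : V) : Set V := {p | ∃ h ∈ H, h a = p}

section

variable {q : V → ZMod 2} {b : LinearMap.BilinForm (ZMod 2) V}
  {H : Subgroup (V ≃ₗ[ZMod 2] V)} {a : V} {X : Subgroup (V ≃ₗ[ZMod 2] V)}

theorem XX_conj {p : V} {f h : V ≃ₗ[ZMod 2] V} (hh : h ∈ H) (hf : f ∈ XX H a X p) :
    h * f * h⁻¹ ∈ XX H a X (h p) := by
  obtain ⟨k, hk, rfl, hx⟩ := hf
  refine ⟨h * k, H.mul_mem hh hk, rfl, ?_⟩
  have : (h * k)⁻¹ * (h * f * h⁻¹) * (h * k) = k⁻¹ * f * k := by group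
  rw [this]; exact hx

theorem XX_le_H (F : BFam q b H a X) {p : V} {f : V ≃ₗ[ZMod 2] V} (hf : f ∈ XX H a X p) : f ∈ H := by
  obtain ⟨k, hk, rfl, hx⟩ := hf
  have h1 := H.mul_mem (H.mul_mem hk (F.X_le hx)) (H.inv_mem hk)
  have : k * (k⁻¹ * f * k) * k⁻¹ = f := by group
  rwa [this] at h1

theorem mem_XX_a (F : BFam q b H a X) {f : V ≃ₗ[ZMod 2] V} : f ∈ XX H a X a ↔ f ∈ X := by
  constructor
  · rintro ⟨h, hh, ha, hx⟩
    have h1 := F.X_norm h hh ha _ hx
    have : h * (h⁻¹ * f * h) * h⁻¹ = f := by group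
    rwa [this] at h1
  · intro hf
    exact ⟨1, H.one_mem, rfl, by simpa using hf⟩

theorem Orb_map {p : V} (hp : p ∈ Orb H a) {h : V ≃ₗ[ZMod 2] V} (hh : h ∈ H) : h p ∈ Orb H a := by
  obtain ⟨k, hk, rfl⟩ := hp
  exact ⟨h * k, H.mul_mem hh hk, rfl⟩

theorem Orb_trans {p r : V} (hp : p ∈ Orb H a) (hr : r ∈ Orb H a) : ∃ h ∈ H, h p = r := by
  obtain ⟨k, hk, rfl⟩ := hp
  obtain ⟨l, hl, rfl⟩ := hr
  refine ⟨l * k⁻¹, H.mul_mem hl (H.inv_mem hk), ?_⟩
  show l (k⁻¹ (k a)) = l a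
  rw [inv_apply]

theorem q_Orb (F : BFam q b H a X) {p : V} (hp : p ∈ Orb H a) : q p = 0 := by
  obtain ⟨k, hk, rfl⟩ := hp
  rw [F.q_H k hk]; exact F.q_a

/-- a numbering of `X_p` -/
structure PLab (q : V → ZMod 2) (b : LinearMap.BilinForm (ZMod 2) V)
    (H : Subgroup (V ≃ₗ[ZMod 2] V)) (a : V) (X : Subgroup (V ≃ₗ[ZMod 2] V))
    (p r : V) (f : ℕ → (V ≃ₗ[ZMod 2] V)) : Prop where
  fam : BFam q b H a X
  hp : p ∈ Orb H a
  hr : r ∈ Orb H a
  bpr : b p r = 1
  mem : ∀ k, k < 8 → f k ∈ XX H a X p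
  surj : ∀ x ∈ XX H a X p, ∃ k, k < 8 ∧ x = f k
  mul : ∀ j, j < 8 → ∀ k, k < 8 → f (Nat.xor j k) = f j * f k
  norm : ∀ v, b p v = 1 → vec (fun k => f k v) 255 = p

/-- a numbering of `X_p` with the Gram matrix of type `T` -/
structure Lab (q : V → ZMod 2) (b : LinearMap.BilinForm (ZMod 2) V)
    (H : Subgroup (V ≃ₗ[ZMod 2] V)) (a : V) (X : Subgroup (V ≃ₗ[ZMod 2] V)) (T : Tab)
    (p r : V) (f : ℕ → (V ≃ₗ[ZMod 2] V)) : Prop extends PLab q b H a X p r f where
  ok : T.okb = true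
  gram : ∀ k, k < 8 → b r (f k r) = (bt T.gm k : ℕ)

theorem allN_apply {n : ℕ} {f : ℕ → Bool} (h : allN n f = true) {i : ℕ} (hi : i < n) : f i = true :=
  (allN_iff n f).1 h i hi

namespace Tab

theorem ok_gm {T : Tab} (h : T.okb = true) : bt T.gm 0 = 0 := by
  simp only [okb, Bool.and_eq_true] at h
  exact Nat.eq_of_beq_eq_true h.1

theorem ok_full {T : Tab} (h : T.okb = true) : T.mg 255 = 255 := by
  simp only [okb, Bool.and_eq_true] at h
  exact Nat.eq_of_beq_eq_true h.2.1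

theorem ok_mg0 {T : Tab} (h : T.okb = true) : T.mg 0 = 0 := by
  simp only [okb, Bool.and_eq_true] at h
  exact Nat.eq_of_beq_eq_true h.2.2.1

theorem ok_q0 {T : Tab} (h : T.okb = true) : bt T.q 0 = 0 := by
  simp only [okb, Bool.and_eq_true] at h
  exact Nat.eq_of_beq_eq_true h.2.2.2.1

theorem ok_basis {T : Tab} (h : T.okb = true) {i j : ℕ} (hi : i < 8) (hj : j < 8) :
    bt (T.mg (Nat.shiftLeft 1 i)) j = bt T.gm (Nat.xor i j) := by
  simp only [okb, Bool.and_eq_true] at h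
  exact Nat.eq_of_beq_eq_true (allN_apply (allN_apply h.2.2.2.2.2 hi) hj)

theorem okn_of {T : Tab} (h : T.okb = true) {n : ℕ} (hn : n < 256) : T.okn n = true := by
  simp only [okb, Bool.and_eq_true] at h
  exact allN_apply h.2.2.2.2.1 hn

theorem mg_lt {T : Tab} (n : ℕ) : T.mg n < 256 := col_lt _ _

theorem mg_mg {T : Tab} (h : T.okb = true) {n : ℕ} (hn : n < 256) : T.mg (T.mg n) = n := by
  have h1 := okn_of h hn
  simp only [okn, Bool.and_eq_true] at h1
  exact Nat.eq_of_beq_eq_true h1.2.1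

theorem B_px {T : Tab} (h : T.okb = true) {n : ℕ} (hn : n < 256) {k : ℕ} (hk : k < 8) :
    T.B n (px k n) = bt T.gm k * par n := by
  have h1 := okn_of h hn
  simp only [okn, Bool.and_eq_true] at h1
  exact Nat.eq_of_beq_eq_true (allN_apply h1.2.2.1 hk)

theorem word_rp {T : Tab} (h : T.okb = true) {n : ℕ} (hn : n < 256) {k : ℕ} (hk : k < 8) :
    bt (word T.rp k) n = bt (T.mg n) k := by
  have h1 := okn_of h hn
  simp only [okn, Bool.and_eq_true] at h1
  exact Nat.eq_of_beq_eq_true (allN_apply h1.2.2.2.1 hk)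

theorem q_step {T : Tab} (h : T.okb = true) {n : ℕ} (hn : n < 256) {k : ℕ} (hk : k < 8) :
    bt T.q (Nat.xor n (Nat.shiftLeft 1 k)) = Nat.land (Nat.add (bt T.q n) (bt (T.mg n) k)) 1 := by
  have h1 := okn_of h hn
  simp only [okn, Bool.and_eq_true] at h1
  exact Nat.eq_of_beq_eq_true (allN_apply h1.2.2.2.2.1 hk)

theorem par_mg {T : Tab} (h : T.okb = true) {n : ℕ} (hn : n < 256) {k : ℕ} (hk : k < 8) :
    par (Nat.land n (T.mg (Nat.shiftLeft 1 k))) = bt (T.mg n) k := by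
  have h1 := okn_of h hn
  simp only [okn, Bool.and_eq_true] at h1
  exact Nat.eq_of_beq_eq_true (allN_apply h1.2.2.2.2.2.1 hk)

theorem l0_spec {T : Tab} (h : T.okb = true) {n : ℕ} (hn : n < 256) :
    bt T.l0 n = Nat.mul (Nat.land (Nat.add (bt T.q n) 1) 1) (Nat.mul (T.B n 1)
      (Nat.land (Nat.add (par n) 1) 1)) := by
  have h1 := okn_of h hn
  simp only [okn, Bool.and_eq_true] at h1
  exact Nat.eq_of_beq_eq_true h1.2.2.2.2.2.2.1

theorem l1_spec {T : Tab} (h : T.okb = true) {n : ℕ} (hn : n < 256) :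
    bt T.l1 n = Nat.mul (Nat.land (Nat.add (bt T.q n) 1) 1) (Nat.mul (T.B n 1) (par n)) := by
  have h1 := okn_of h hn
  simp only [okn, Bool.and_eq_true] at h1
  exact Nat.eq_of_beq_eq_true h1.2.2.2.2.2.2.2

end Tab

namespace PLab

variable {p r : V} {f : ℕ → (V ≃ₗ[ZMod 2] V)}

/-- `f_j` on vectors of codes -/
theorem f_vec (L : PLab q b H a X p r f) {j : ℕ} (hj : j < 8) {n : ℕ} (hn : n < 256) (w : V) :
    f j (vec (fun k => f k w) n) = vec (fun k => f k w) (px j n) := by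
  rw [map_vec, ← vec_px _ hj hn]
  refine vec_congr (fun k hk => ?_) n
  show f j (f k w) = f (Nat.xor j k) w
  rw [L.mul j hj k hk]; rfl

theorem mem_H (L : PLab q b H a X p r f) {k : ℕ} (hk : k < 8) : f k ∈ H := XX_le_H L.fam (L.mem k hk)

theorem vec_full (L : PLab q b H a X p r f) : vec (fun k => f k r) 255 = p := L.norm r L.bpr

theorem f_zero (L : PLab q b H a X p r f) : f 0 = 1 := by
  have h := L.mul 0 (by norm_num) 0 (by norm_num)
  have e : f 0 = f 0 * f 0 := h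
  exact (mul_eq_left.1 e.symm)

theorem e_zero (L : PLab q b H a X p r f) : f 0 r = r := by rw [L.f_zero]; rfl

theorem conv_vec (L : PLab q b H a X p r f) (s : ℕ) {n : ℕ} (hn : n < 256) (w : V) :
    vec (fun j => f j (vec (fun k => f k w) n)) s = vec (fun k => f k w) (conv s n) := by
  have h1 : ∀ j, j < 8 → f j (vec (fun k => f k w) n) = vec (fun k => f k w) (px j n) :=
    fun j hj => L.f_vec hj hn w
  rw [vec_congr h1, conv]
  simp only [vec_xor, vec_mul]
  rfl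

theorem vec_ne (L : PLab q b H a X p r f) (hp0 : p ≠ 0) {n : ℕ} (hn : n < 256) (h0 : n ≠ 0) :
    vec (fun k => f k r) n ≠ 0 := by
  intro h
  apply hp0
  have h1 := L.conv_vec (col convT n) hn r
  rw [conv_spec n hn h0, L.vec_full, h] at h1
  rw [← h1]
  have : ∀ k, k < 8 → (fun j => f j (0 : V)) k = (fun _ => (0 : V)) k := fun k _ => map_zero _
  rw [vec_congr this]
  simp [vec]

theorem p_ne (L : PLab q b H a X p r f) : p ≠ 0 := by
  intro h
  have := L.bpr
  rw [h, map_zero, LinearMap.zero_apply] at this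
  exact absurd this (by decide)

theorem vec_inj (L : PLab q b H a X p r f) {n m : ℕ} (hn : n < 256) (hm : m < 256)
    (h : vec (fun k => f k r) n = vec (fun k => f k r) m) : n = m := by
  by_contra hne
  have h1 : Nat.xor n m ≠ 0 := by
    intro h2
    exact hne (Nat.xor_eq_zero_iff.1 h2)
  apply L.vec_ne L.p_ne (xor_lt hn hm) h1
  rw [vec_xor, h, add_self]

theorem vec_surj (L : PLab q b H a X p r f) (v : V) :
    ∃ n, n < 256 ∧ vec (fun k => f k r) n = v := by
  classical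
  have hfin : Finite V := Nat.finite_of_card_ne_zero (by rw [L.fam.card]; norm_num)
  have : Fintype V := Fintype.ofFinite V
  let g : Fin 256 → V := fun n => vec (fun k => f k r) n
  have hg : Function.Injective g := fun n m h => Fin.ext (L.vec_inj n.2 m.2 h)
  have hb : Function.Bijective g := by
    rw [Fintype.bijective_iff_injective_and_card]
    refine ⟨hg, ?_⟩
    rw [Fintype.card_fin, ← Nat.card_eq_fintype_card, L.fam.card]
  obtain ⟨n, hn⟩ := hb.2 v
  exact ⟨n, n.2, hn⟩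

end PLab

namespace Lab

variable {T : Tab} {p r : V} {f : ℕ → (V ≃ₗ[ZMod 2] V)}

theorem b_basis (L : Lab q b H a X T p r f) {i j : ℕ} (hi : i < 8) (hj : j < 8) :
    b (f i r) (f j r) = (bt T.gm (Nat.xor i j) : ℕ) := by
  have h1 : Nat.xor i j < 8 := Nat.xor_lt_two_pow (n := 3) hi hj
  rw [← L.gram _ h1, L.mul i hi j hj]
  show _ = b r (f i (f j r))
  have h2 : f i (f i r) = r := by
    have h3 := L.mul i hi i hi
    have h4 : Nat.xor i i = 0 := Nat.xor_self i
    rw [h4, L.f_zero] at h3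
    show (f i * f i) r = r
    rw [← h3]; rfl
  rw [← L.fam.b_H (L.mem_H hi) (f i r), h2]

theorem b_e_vec (L : Lab q b H a X T p r f) {i : ℕ} (hi : i < 8) {n : ℕ} (hn : n < 256) :
    b (f i r) (vec (fun k => f k r) n) = (bt (T.mg n) i : ℕ) := by
  rw [map_vec, ← Tab.par_mg L.ok hn hi, par_land hn]
  refine vec_congr (fun k hk => ?_) n
  show b (f i r) (f k r) = _
  rw [L.b_basis hi hk, Tab.ok_basis L.ok hi hk]

theorem b_vec (L : Lab q b H a X T p r f) {n m : ℕ} (hn : n < 256) (hm : m < 256) :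
    b (vec (fun k => f k r) n) (vec (fun k => f k r) m) = (T.B n m : ℕ) := by
  rw [L.fam.b_comm, map_vec, Tab.B, par_land hn]
  refine vec_congr (fun k hk => ?_) n
  show b (vec (fun k => f k r) m) (f k r) = _
  rw [L.fam.b_comm, L.b_e_vec hk hm]

theorem q_vec (L : Lab q b H a X T p r f) : ∀ n, n < 256 →
    q (vec (fun k => f k r) n) = (bt T.q n : ℕ) := by
  apply code_induction
  · rw [vec_zero, L.fam.q_zero, Tab.ok_q0 L.ok]; rfl
  · intro n hn i hi ih
    rw [vec_xor, vec_two_pow _ hi, L.fam.q_add, ih, L.fam.b_comm, L.b_e_vec hi hn,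
      Tab.q_step L.ok hn hi, q_Orb L.fam (Orb_map L.hr (L.mem_H hi)), add_zero]
    rcases bt_cases T.q n with h | h <;> rcases bt_cases (T.mg n) i with h' | h' <;> rw [h, h'] <;> rfl

theorem b_p_vec (L : Lab q b H a X T p r f) {n : ℕ} (hn : n < 256) :
    b p (vec (fun k => f k r) n) = (par n : ℕ) := by
  have h := L.b_vec hn (m := 255) (by norm_num)
  rw [L.vec_full, Tab.B, Tab.ok_full L.ok] at h
  rw [L.fam.b_comm, h]
  have : Nat.land n 255 = n := by
    have h1 : n &&& 255 = n % 2 ^ 8 := Nat.and_two_pow_sub_one_eq_mod n 8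
    show n &&& 255 = n
    rw [h1]; exact Nat.mod_eq_of_lt hn
  rw [this]

/-- `vec 1 = r` -/
theorem vec_one (L : Lab q b H a X T p r f) : vec (fun k => f k r) 1 = r := by
  have h := vec_two_pow (fun k => f k r) (i := 0) (by norm_num)
  exact h.trans L.e_zero

/-- the numbering transported by an element of `H` -/
theorem conj (L : Lab q b H a X T p r f) {p' : V} (hp' : p' ∈ Orb H a) {r' : V} (hr' : r' ∈ Orb H a)
    (hb : b p' r' = 1) : ∃ f', Lab q b H a X T p' r' f' := by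
  obtain ⟨h, hh, rfl⟩ := Orb_trans L.hp hp'
  refine ⟨fun k => h * f k * h⁻¹, ?_⟩
  have hinv : ∀ v w, b (h v) w = b v (h⁻¹ w) := by
    intro v w
    rw [← L.fam.b_H hh v (h⁻¹ w), apply_inv]
  have hb1 : b p (h⁻¹ r') = 1 := by rw [← hinv]; exact hb
  refine { fam := L.fam, hp := hp', hr := hr', bpr := hb, mem := ?_, surj := ?_, mul := ?_,
           norm := ?_, ok := L.ok, gram := ?_ }
  · intro k hk
    exact XX_conj hh (L.mem k hk)
  · intro x hx
    have h1 := XX_conj (H.inv_mem hh) hx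
    rw [inv_apply] at h1
    obtain ⟨k, hk, he⟩ := L.surj _ h1
    refine ⟨k, hk, ?_⟩
    show x = h * f k * h⁻¹
    rw [← he]; group
  · intro j hj k hk
    show h * f (Nat.xor j k) * h⁻¹ = h * f j * h⁻¹ * (h * f k * h⁻¹)
    rw [L.mul j hj k hk]; group
  · intro v hv
    rw [hinv] at hv
    have h1 := L.norm _ hv
    have h2 : vec (fun k => (h * f k * h⁻¹) v) 255 = h (vec (fun k => f k (h⁻¹ v)) 255) := by
      rw [map_vec]; rfl
    rw [h2, h1]
  · intro k hk
    obtain ⟨n, hn, hv⟩ := L.vec_surj (h⁻¹ r')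
    have h1 : b r' ((h * f k * h⁻¹) r') = b (h⁻¹ r') (f k (h⁻¹ r')) := by
      rw [← L.fam.b_H hh (h⁻¹ r'), apply_inv]; rfl
    have h2 : (par n : ZMod 2) = 1 := by
      rw [← L.b_p_vec hn, hv]; exact hb1
    have h3 : par n = 1 := by
      rcases par_cases n with h4 | h4
      · rw [h4] at h2; exact absurd h2 (by decide)
      · exact h4
    rw [h1, ← hv, L.f_vec hk hn, L.b_vec hn (px_lt hk hn), Tab.B_px L.ok hn hk, h3, mul_one]

/-! ### change of frames -/

variable {p' r' : V} {f' : ℕ → (V ≃ₗ[ZMod 2] V)} {M : ℕ}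

theorem nat_of_zmod {x y : ℕ} (hx : x = 0 ∨ x = 1) (hy : y = 0 ∨ y = 1) (h : (x : ZMod 2) = y) :
    x = y := by
  rcases hx with rfl | rfl <;> rcases hy with rfl | rfl
  · rfl
  · exact absurd h (by decide)
  · exact absurd h (by decide)
  · rfl

theorem bits_sum : ∀ n, n < 256 → Nat.add (bt n 0) (Nat.add (Nat.mul 2 (bt n 1))
    (Nat.add (Nat.mul 4 (bt n 2)) (Nat.add (Nat.mul 8 (bt n 3)) (Nat.add (Nat.mul 16 (bt n 4))
    (Nat.add (Nat.mul 32 (bt n 5)) (Nat.add (Nat.mul 64 (bt n 6)) (Nat.mul 128 (bt n 7)))))))) = n := by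
  have h : (allN 256 fun n => Nat.beq (Nat.add (bt n 0) (Nat.add (Nat.mul 2 (bt n 1))
    (Nat.add (Nat.mul 4 (bt n 2)) (Nat.add (Nat.mul 8 (bt n 3)) (Nat.add (Nat.mul 16 (bt n 4))
    (Nat.add (Nat.mul 32 (bt n 5)) (Nat.add (Nat.mul 64 (bt n 6)) (Nat.mul 128 (bt n 7))))))))) n)
      = true := by decide +kernel
  intro n hn
  exact Nat.eq_of_beq_eq_true (allN_apply h hn)

/-- coordinates in the second frame -/
theorem crd_spec (L : Lab q b H a X T p r f) (L' : Lab q b H a X T p' r' f')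
    (hM : ∀ k, k < 8 → f' k r' = vec (fun k => f k r) (col M k)) {t : ℕ} (ht : t < 256) :
    vec (fun k => f' k r') (T.crd M t) = vec (fun k => f k r) t := by
  obtain ⟨s, hs, hv⟩ := L'.vec_surj (vec (fun k => f k r) t)
  have key : ∀ k, k < 8 → T.B t (col M k) = bt (T.mg s) k := by
    intro k hk
    have h1 : (T.B t (col M k) : ZMod 2) = (bt (T.mg s) k : ℕ) := by
      rw [← L.b_vec ht (col_lt _ _), ← hM k hk, ← hv, L.fam.b_comm, L'.b_e_vec hk hs]
    exact nat_of_zmod (par_cases _) (bt_cases _ _) h1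
  have h2 : T.crd M t = s := by
    rw [Tab.crd, key 0 (by norm_num), key 1 (by norm_num), key 2 (by norm_num), key 3 (by norm_num),
      key 4 (by norm_num), key 5 (by norm_num), key 6 (by norm_num), key 7 (by norm_num),
      bits_sum _ (Tab.mg_lt _), Tab.mg_mg L.ok hs]
  rw [h2, hv]

theorem crd_lt (T : Tab) (M t : ℕ) : T.crd M t < 256 := Tab.mg_lt _

theorem lin_spec (hM : ∀ k, k < 8 → f' k r' = vec (fun k => f k r) (col M k)) (n : ℕ) :
    vec (fun k => f' k r') n = vec (fun k => f k r) (lin M n) := by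
  rw [vec_lin]
  exact vec_congr hM n

theorem act_spec (L : Lab q b H a X T p r f) (L' : Lab q b H a X T p' r' f')
    (hM : ∀ k, k < 8 → f' k r' = vec (fun k => f k r) (col M k)) {j : ℕ} (hj : j < 8) {t : ℕ}
    (ht : t < 256) : f' j (vec (fun k => f k r) t) = vec (fun k => f k r) (T.act M j t) := by
  rw [← L.crd_spec L' hM ht, L'.f_vec hj (crd_lt _ _ _), lin_spec hM, Tab.act]

theorem act_lt (T : Tab) (M j t : ℕ) : T.act M j t < 256 := lin_lt _ _

theorem exists_code (L : Lab q b H a X T p r f) (v : V) :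
    ∃ n, n < 256 ∧ vec (fun k => f k r) n = v := L.vec_surj v

end Lab

end

end Cfsg.Agent.LargeExtra.Enum9
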