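import Cfsg.Agent.LargeExtra.Enum9.Relabel

/-!
# S1763, case II, type (B): `H` is contained in the group generated by the printed matrices (helper73)

Abstract part: `L : Lab .. T a r x`, `L' : Lab .. T r a y`, `y_k a = vec (x r) (col M k)`, the orbit of `a` outside
`a^⊥` has codes in the list of `D.LM`; the certificate `D : Dat` then shows `H ≤ S` for every subgroup `S` containing
elements acting as the matrices `D.gs`.
-/

set_option autoImplicit false

namespace Cfsg.Agent.LargeExtra.Enum9.Last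

/-- the value of a word at a code -/
def ev (gs : List ℕ) : List ℕ → ℕ → ℕ
  | [], n => n
  | i :: w, n => fc (ev gs w n) fun m => fc (gs.getD i 0) fun g => lin g m

/-- a witness: a word (`k = true`), or a word and a clash -/
structure Wit where
  k : Bool
  w : List ℕ
  t : ℕ
  j : ℕ

/-- certificate for one configuration -/
structure Dat where
  T : Tab
  M : ℕ
  gs : List ℕ
  nx : ℕ
  wx : List (List ℕ)
  LM : List (ℕ × List ℕ × List ℕ × ℕ)
  good : List (ℕ × ℕ × ℕ)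
  cert : List (ℕ × List Wit)

/-- all letters are less than `n` -/
def ltW (n : ℕ) (w : List ℕ) : Bool := w.all fun i => Nat.blt i n

/-- `f` for corresponding elements of two lists -/
def chk2 {α β : Type} (f : α → β → Bool) : List α → List β → Bool
  | [], _ => true
  | _ :: _, [] => false
  | a :: as, b :: bs => f a b && chk2 f as bs

theorem chk2_spec {α β : Type} {f : α → β → Bool} : ∀ {as : List α} {bs : List β},
    chk2 f as bs = true → ∀ a ∈ as, ∃ b ∈ bs, f a b = true := by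
  intro as
  induction as with
  | nil => intro bs _ a ha; simp at ha
  | cons a as ih =>
    intro bs h a' ha'
    cases bs with
    | nil => exact absurd h (by simp [chk2])
    | cons b bs =>
      have h' : (f a b && chk2 f as bs) = true := h
      rw [Bool.and_eq_true] at h'
      rcases List.mem_cons.1 ha' with rfl | ha'
      · exact ⟨b, List.mem_cons_self, h'.1⟩
      · obtain ⟨b', hb', h''⟩ := ih h'.2 a' ha'
        exact ⟨b', List.mem_cons_of_mem _ hb', h''⟩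

namespace Dat

/-- check of the words for the points outside `a^⊥` -/
def c1 (D : Dat) : Bool := D.LM.all fun e =>
  ltW D.nx e.2.1 && (Nat.beq (ev D.gs e.2.1 255) e.1 && (ltW D.nx e.2.2.1 &&
  (Nat.beq (ev D.gs e.2.2.1 255) 255 && (Nat.beq (ev D.gs e.2.2.1 e.1) e.2.2.2 &&
  D.cert.any fun c => Nat.beq c.1 e.2.2.2))))

/-- every automorphism preserving the form is in the list -/
def c2 (D : Dat) : Bool := allN 8 fun i => allN 8 fun j => allN 8 fun k =>
  (!((allN 8 fun l => Nat.beq (bt D.T.gm (bl (i, j, k) l)) (bt D.T.gm l)) &&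
    (allN 8 fun l => Nat.beq l 0 || !(Nat.beq (bl (i, j, k) l) 0)))) ||
  D.good.any fun β => Nat.beq β.1 i && (Nat.beq β.2.1 j && Nat.beq β.2.2 k)

/-- the matrix of the element belonging to `β`, `s` -/
def mat (β : ℕ × ℕ × ℕ) (s : ℕ) : ℕ :=
  fc (px (bl β 0) s) fun a0 => fc (px (bl β 1) s) fun a1 => fc (px (bl β 2) s) fun a2 =>
  fc (px (bl β 3) s) fun a3 => fc (px (bl β 4) s) fun a4 => fc (px (bl β 5) s) fun a5 =>
  fc (px (bl β 6) s) fun a6 => fc (px (bl β 7) s) fun a7 =>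
  Nat.add a0 (Nat.shiftLeft (Nat.add a1 (Nat.shiftLeft (Nat.add a2 (Nat.shiftLeft (Nat.add a3
    (Nat.shiftLeft (Nat.add a4 (Nat.shiftLeft (Nat.add a5 (Nat.shiftLeft
      (Nat.add a6 (Nat.shiftLeft a7 8)) 8)) 8)) 8)) 8)) 8)) 8)

/-- check of one witness -/
def wit (D : Dat) (s : ℕ) (β : ℕ × ℕ × ℕ) (W : Wit) : Bool :=
  fc (mat β s) fun F => (allN 8 fun k => Nat.beq (col F k) (px (bl β k) s)) &&
  (bif W.k then ltW D.gs.length W.w &&
      allN 8 fun k => Nat.beq (ev D.gs W.w (Nat.shiftLeft 1 k)) (col F k)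
    else ltW D.nx W.w && (Nat.beq (ev D.gs W.w s) 1 && (Nat.blt W.t 256 && (Nat.blt W.j 8 &&
      fc (ev D.gs W.w (lin F W.t)) fun s1 => fc (D.T.act D.M W.j W.t) fun t' =>
      fc (ev D.gs W.w (lin F t')) fun s2 =>
      !(Nat.beq (orb (D.T.crd D.M s1)) (orb (D.T.crd D.M s2)))))))

/-- check of all witnesses -/
def c3 (D : Dat) : Bool := D.cert.all fun c => chk2 (fun β W => D.wit c.1 β W) D.good c.2

/-- the `x_k` are words -/
def c4 (D : Dat) : Bool := allN 8 fun k => ltW D.nx (D.wx.getD k []) &&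
  allN 8 fun l => Nat.beq (ev D.gs (D.wx.getD k []) (Nat.shiftLeft 1 l)) (px k (Nat.shiftLeft 1 l))

/-- the whole check -/
def ok (D : Dat) : Bool := Nat.ble D.nx D.gs.length && (D.c1 && (D.c2 && (D.c3 && D.c4)))

end Dat

variable {V : Type*} [AddCommGroup V] [Module (ZMod 2) V]
variable {q : V → ZMod 2} {b : LinearMap.BilinForm (ZMod 2) V}
  {H : Subgroup (V ≃ₗ[ZMod 2] V)} {a : V} {X : Subgroup (V ≃ₗ[ZMod 2] V)}

/-- `f` acts on the codes as the matrix `g` -/
def Mat (e : ℕ → V) (g : ℕ) (f : V ≃ₗ[ZMod 2] V) : Prop := ∀ k, k < 8 → f (e k) = vec e (col g k)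

theorem Mat.apply {e : ℕ → V} {g : ℕ} {f : V ≃ₗ[ZMod 2] V} (h : Mat e g f) (n : ℕ) :
    f (vec e n) = vec e (lin g n) := by
  rw [map_vec, vec_lin]
  exact vec_congr h n

theorem shl_lt : ∀ k, k < 8 → Nat.shiftLeft 1 k < 256 := by decide

theorem shl_inj : ∀ j, j < 8 → ∀ k, k < 8 → Nat.shiftLeft 1 j = Nat.shiftLeft 1 k → j = k := by decide

theorem Mat.of_apply {e : ℕ → V} {g : ℕ} {f : V ≃ₗ[ZMod 2] V}
    (h : ∀ n, n < 256 → f (vec e n) = vec e (lin g n)) : Mat e g f := by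
  intro k hk
  have h1 : Nat.shiftLeft 1 k < 256 := shl_lt k hk
  have h2 := h _ h1
  rw [vec_two_pow e hk] at h2
  rw [h2, vec_lin, vec_two_pow _ hk]

/-- the product of a word -/
def wd (mm : ℕ → (V ≃ₗ[ZMod 2] V)) : List ℕ → (V ≃ₗ[ZMod 2] V)
  | [] => 1
  | i :: w => mm i * wd mm w

theorem ltW_spec {n : ℕ} {w : List ℕ} (h : ltW n w = true) : ∀ i ∈ w, i < n := by
  intro i hi
  have := (List.all_eq_true.1 h) i hi
  rwa [Nat.blt_eq] at this

theorem wd_mem {mm : ℕ → (V ≃ₗ[ZMod 2] V)} {S : Subgroup (V ≃ₗ[ZMod 2] V)} {n : ℕ}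
    (hm : ∀ i, i < n → mm i ∈ S) : ∀ {w : List ℕ}, (∀ i ∈ w, i < n) → wd mm w ∈ S := by
  intro w
  induction w with
  | nil => intro _; exact S.one_mem
  | cons i w ih =>
    intro hw
    exact S.mul_mem (hm i (hw i List.mem_cons_self)) (ih fun j hj => hw j (List.mem_cons_of_mem _ hj))

theorem ev_lt (gs : List ℕ) : ∀ (w : List ℕ) (n : ℕ), n < 256 → ev gs w n < 256 := by
  intro w
  induction w with
  | nil => intro n hn; exact hn
  | cons i w ih =>
    intro n hn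
    show fc (ev gs w n) (fun m => fc (gs.getD i 0) fun g => lin g m) < 256
    rw [fc_eq, fc_eq]
    exact lin_lt _ _

theorem wd_apply {mm : ℕ → (V ≃ₗ[ZMod 2] V)} {e : ℕ → V} {gs : List ℕ}
    (hm : ∀ i, i < gs.length → Mat e (gs.getD i 0) (mm i)) : ∀ {w : List ℕ},
    (∀ i ∈ w, i < gs.length) → ∀ n, wd mm w (vec e n) = vec e (ev gs w n) := by
  intro w
  induction w with
  | nil => intro _ n; rfl
  | cons i w ih =>
    intro hw n
    show mm i (wd mm w (vec e n)) = vec e (fc (ev gs w n) fun m => fc (gs.getD i 0) fun g => lin g m)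
    rw [fc_eq, fc_eq, ih (fun j hj => hw j (List.mem_cons_of_mem _ hj)),
      (hm i (hw i List.mem_cons_self)).apply]

theorem bl_of_hom {α : ℕ → ℕ} (h0 : α 0 = 0)
    (h : ∀ j, j < 8 → ∀ k, k < 8 → α (Nat.xor j k) = Nat.xor (α j) (α k)) :
    ∀ k, k < 8 → bl (α 1, α 2, α 4) k = α k := by
  have h3 := h 1 (by norm_num) 2 (by norm_num)
  have h5 := h 1 (by norm_num) 4 (by norm_num)
  have h6 := h 2 (by norm_num) 4 (by norm_num)
  have h7 := h 1 (by norm_num) 6 (by norm_num)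
  rw [show Nat.xor 1 2 = 3 from rfl] at h3
  rw [show Nat.xor 1 4 = 5 from rfl] at h5
  rw [show Nat.xor 2 4 = 6 from rfl] at h6
  rw [show Nat.xor 1 6 = 7 from rfl, h6] at h7
  have e0 : ∀ m, Nat.mul 0 m = 0 := fun m => Nat.zero_mul m
  have e1 : ∀ m, Nat.mul 1 m = m := fun m => Nat.one_mul m
  have x0 : ∀ m, Nat.xor 0 m = m := fun m => Nat.zero_xor m
  have x1 : ∀ m, Nat.xor m 0 = m := fun m => Nat.xor_zero m
  intro k hk
  interval_cases k
  · show Nat.xor (Nat.mul 0 _) (Nat.xor (Nat.mul 0 _) (Nat.mul 0 _)) = _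
    rw [e0, e0, e0, x0, x0, h0]
  · show Nat.xor (Nat.mul 1 _) (Nat.xor (Nat.mul 0 _) (Nat.mul 0 _)) = _
    rw [e1, e0, e0, x0, x1]
  · show Nat.xor (Nat.mul 0 _) (Nat.xor (Nat.mul 1 _) (Nat.mul 0 _)) = _
    rw [e1, e0, e0, x0, x1]
  · show Nat.xor (Nat.mul 1 _) (Nat.xor (Nat.mul 1 _) (Nat.mul 0 _)) = _
    rw [e1, e1, e0, x1, h3]
  · show Nat.xor (Nat.mul 0 _) (Nat.xor (Nat.mul 0 _) (Nat.mul 1 _)) = _
    rw [e1, e0, e0, x0, x0]
  · show Nat.xor (Nat.mul 1 _) (Nat.xor (Nat.mul 0 _) (Nat.mul 1 _)) = _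
    rw [e1, e0, e1, x0, h5]
  · show Nat.xor (Nat.mul 0 _) (Nat.xor (Nat.mul 1 _) (Nat.mul 1 _)) = _
    rw [e1, e0, e1, x0, h6]
  · show Nat.xor (Nat.mul 1 _) (Nat.xor (Nat.mul 1 _) (Nat.mul 1 _)) = _
    rw [e1, e1, e1, h7]

theorem mg_ne_zero {T : Tab} (h : T.okb = true) {n : ℕ} (hn : n < 256) (h0 : n ≠ 0) :
    ∃ k, k < 8 ∧ bt (T.mg n) k = 1 := by
  by_contra hcon
  push Not at hcon
  have h1 : T.mg n = 0 := by
    apply Nat.eq_of_testBit_eq
    intro i
    rw [Nat.zero_testBit]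
    by_cases hi : i < 8
    · have h2 := hcon i hi
      rw [bt_eq] at h2
      cases h3 : (T.mg n).testBit i
      · rfl
      · rw [h3] at h2; exact absurd rfl h2
    · apply Nat.testBit_lt_two_pow
      exact lt_of_lt_of_le (Tab.mg_lt n) (Nat.pow_le_pow_right (n := 2) (by norm_num) (not_lt.1 hi))
  have h2 := Tab.mg_mg h hn
  rw [h1, Tab.ok_mg0 h] at h2
  exact h0 h2.symm

section main

variable {r : V} {x y : ℕ → (V ≃ₗ[ZMod 2] V)} {D : Dat}

/-- **`H ≤ S`** -/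
theorem le_of_ok (hok : D.ok = true) (L : Lab q b H a X D.T a r x) (L' : Lab q b H a X D.T r a y)
    (hM : ∀ k, k < 8 → y k a = vec (fun k => x k r) (col D.M k))
    (hO : ∀ v, v < 256 → par v = 1 → vec (fun k => x k r) v ∈ Orb H a → v ∈ D.LM.map fun e => e.1)
    {mm : ℕ → (V ≃ₗ[ZMod 2] V)} (hm : ∀ i, i < D.gs.length → Mat (fun k => x k r) (D.gs.getD i 0) (mm i))
    (hmH : ∀ i, i < D.nx → mm i ∈ H) {S : Subgroup (V ≃ₗ[ZMod 2] V)}
    (hS : ∀ i, i < D.gs.length → mm i ∈ S) : H ≤ S := by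
  rw [Dat.ok] at hok
  simp only [Bool.and_eq_true] at hok
  obtain ⟨hnx, hc1, hc2, hc3, hc4⟩ := hok
  have hnx : D.nx ≤ D.gs.length := Nat.le_of_ble_eq_true hnx
  have F := L.fam
  have hSx : ∀ i, i < D.nx → mm i ∈ S := fun i hi => hS i (lt_of_lt_of_le hi hnx)
  -- evaluation
  have hw : ∀ {w : List ℕ}, ltW D.nx w = true → wd mm w ∈ H ∧ wd mm w ∈ S ∧
      ∀ n, wd mm w (vec (fun k => x k r) n) = vec (fun k => x k r) (ev D.gs w n) := by
    intro w hw
    exact ⟨wd_mem hmH (ltW_spec hw), wd_mem hSx (ltW_spec hw),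
      wd_apply hm fun i hi => lt_of_lt_of_le (ltW_spec hw i hi) hnx⟩
  have hfull : vec (fun k => x k r) 255 = a := L.vec_full
  have hone : vec (fun k => x k r) 1 = r := L.vec_one
  -- the entries of `LM`
  have hLM : ∀ v, v < 256 → par v = 1 → vec (fun k => x k r) v ∈ Orb H a →
      ∃ w u s, ltW D.nx w = true ∧ ev D.gs w 255 = v ∧ ltW D.nx u = true ∧ ev D.gs u 255 = 255 ∧
        ev D.gs u v = s ∧ ∃ c ∈ D.cert, c.1 = s := by
    intro v hv hp ho
    obtain ⟨e, he, rfl⟩ := List.mem_map.1 (hO v hv hp ho)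
    have h1 := (List.all_eq_true.1 hc1) e he
    simp only [Bool.and_eq_true] at h1
    obtain ⟨h2, h3, h4, h5, h6, h7⟩ := h1
    obtain ⟨c, hc, hcs⟩ := List.any_eq_true.1 h7
    exact ⟨_, _, _, h2, Nat.eq_of_beq_eq_true h3, h4, Nat.eq_of_beq_eq_true h5,
      Nat.eq_of_beq_eq_true h6, c, hc, Nat.eq_of_beq_eq_true hcs⟩
  have hpar : ∀ v, v < 256 → b a (vec (fun k => x k r) v) = 1 → par v = 1 := by
    intro v hv h1
    rw [L.b_p_vec hv] at h1
    rcases par_cases v with h2 | h2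
    · rw [h2] at h1; exact absurd h1 (by decide)
    · exact h2
  -- the `x_k`
  have hxS : ∀ k, k < 8 → x k ∈ S := by
    intro k hk
    have h1 := allN_apply hc4 hk
    rw [Bool.and_eq_true] at h1
    obtain ⟨-, h2, h3⟩ := hw h1.1
    have h4 : x k = wd mm (D.wx.getD k []) := by
      ext v
      obtain ⟨n, hn, rfl⟩ := L.vec_surj v
      show x k _ = wd mm _ _
      rw [map_vec, map_vec]
      refine vec_congr (fun l hl => ?_) n
      have h5 := Nat.eq_of_beq_eq_true (allN_apply h1.2 hl)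
      have h6 := h3 (Nat.shiftLeft 1 l)
      rw [vec_two_pow _ hl] at h6
      have h7 := L.f_vec hk (n := Nat.shiftLeft 1 l) (shl_lt l hl) r
      rw [vec_two_pow _ hl] at h7
      show x k (x l r) = wd mm (D.wx.getD k []) (x l r)
      rw [h6, h7, h5]
    rw [h4]; exact h2
  intro f hf
  -- step 1
  obtain ⟨n, hn, hnv⟩ := L.vec_surj (f a)
  have hn0 : n ≠ 0 := by
    rintro rfl
    rw [vec_zero] at hnv
    exact F.a_ne (f.map_eq_zero_iff.1 hnv.symm)
  obtain ⟨k, hk, hbk⟩ := mg_ne_zero L.ok hn hn0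
  have hbk' : b (x k r) (f a) = 1 := by
    rw [← hnv, L.b_e_vec hk hn, hbk]; rfl
  -- step 2
  obtain ⟨w0, -, -, hw0, hw0v, -⟩ := hLM 1 (by norm_num) (by decide) (by rw [hone]; exact L.hr)
  obtain ⟨hW0H, hW0S, hW0⟩ := hw hw0
  have hW0a : wd mm w0 a = r := by
    rw [← hfull, hW0, hw0v, hone]
  -- step 3
  have hgH : x k * wd mm w0 ∈ H := H.mul_mem (L.mem_H hk) hW0H
  have hgS : x k * wd mm w0 ∈ S := S.mul_mem (hxS k hk) hW0S
  obtain ⟨v, hv, hvv⟩ := L.vec_surj ((x k * wd mm w0)⁻¹ (f a))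
  have hbv : b a ((x k * wd mm w0)⁻¹ (f a)) = 1 := by
    rw [← F.b_H hgH a, apply_inv]
    show b (x k (wd mm w0 a)) (f a) = 1
    rw [hW0a]; exact hbk'
  have hov : (x k * wd mm w0)⁻¹ (f a) ∈ Orb H a :=
    Orb_map ⟨f, hf, rfl⟩ (H.inv_mem hgH)
  obtain ⟨wv, -, -, hwv, hwvv, -⟩ := hLM v hv (hpar v hv (by rw [hvv]; exact hbv)) (by rw [hvv]; exact hov)
  obtain ⟨hWvH, hWvS, hWv⟩ := hw hwv
  have hWva : wd mm wv a = (x k * wd mm w0)⁻¹ (f a) := by
    rw [← hvv, ← hwvv, ← hWv, hfull]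
  -- `f1` fixes `a`
  obtain ⟨f1, hf1⟩ : ∃ f1, f1 = (wd mm wv)⁻¹ * (x k * wd mm w0)⁻¹ * f := ⟨_, rfl⟩
  have hf1H : f1 ∈ H := by
    rw [hf1]
    exact H.mul_mem (H.mul_mem (H.inv_mem hWvH) (H.inv_mem hgH)) hf
  have hf1a : f1 a = a := by
    rw [hf1]
    show (wd mm wv)⁻¹ ((x k * wd mm w0)⁻¹ (f a)) = a
    rw [← hWva, inv_apply]
  suffices h1S : f1 ∈ S by
    have e : f = (x k * wd mm w0) * (wd mm wv) * f1 := by rw [hf1]; group
    rw [e]
    exact S.mul_mem (S.mul_mem hgS hWvS) h1S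
  -- step 4
  obtain ⟨v', hv', hvv'⟩ := L.vec_surj (f1 r)
  have hbv' : b a (f1 r) = 1 := by
    nth_rewrite 1 [← hf1a]
    rw [F.b_H hf1H]; exact L.bpr
  have hov' : f1 r ∈ Orb H a := Orb_map L.hr hf1H
  obtain ⟨-, u, s, -, -, hu, hu255, hus, c, hc, hcs⟩ :=
    hLM v' hv' (hpar v' hv' (by rw [hvv']; exact hbv')) (by rw [hvv']; exact hov')
  obtain ⟨hUH, hUS, hU⟩ := hw hu
  obtain ⟨f2, hf2⟩ : ∃ f2, f2 = wd mm u * f1 := ⟨_, rfl⟩
  have hf2H : f2 ∈ H := by rw [hf2]; exact H.mul_mem hUH hf1H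
  suffices h2S : f2 ∈ S by
    have e : f1 = (wd mm u)⁻¹ * f2 := by rw [hf2]; group
    rw [e]
    exact S.mul_mem (S.inv_mem hUS) h2S
  have hUa : wd mm u a = a := by
    have := hU 255
    rw [hu255, hfull] at this
    exact this
  have hf2a : f2 a = a := by
    rw [hf2]
    show wd mm u (f1 a) = a
    rw [hf1a, hUa]
  have hs : s < 256 := by rw [← hus]; exact ev_lt _ _ _ hv'
  have hf2r : f2 r = vec (fun k => x k r) s := by
    rw [hf2]
    show wd mm u (f1 r) = _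
    rw [← hvv', hU, hus]
  have hpars : par s = 1 := by
    apply hpar s hs
    rw [← hf2r]
    nth_rewrite 1 [← hf2a]
    rw [F.b_H hf2H]; exact L.bpr
  -- step 5
  have hα : ∀ j, ∃ k, j < 8 → k < 8 ∧ f2 * x j * f2⁻¹ = x k := by
    intro j
    by_cases hj : j < 8
    · have h1 : f2 * x j * f2⁻¹ ∈ XX H a X a := by
        have := XX_conj hf2H (L.mem j hj)
        rwa [hf2a] at this
      obtain ⟨k, hk, he⟩ := L.surj _ h1
      exact ⟨k, fun _ => ⟨hk, he⟩⟩
    · exact ⟨0, fun h => absurd h hj⟩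
  choose α hα using hα
  have hxinj : ∀ j, j < 8 → ∀ k, k < 8 → x j = x k → j = k := by
    intro j hj k hk h
    have h1 : vec (fun k => x k r) (Nat.shiftLeft 1 j) = vec (fun k => x k r) (Nat.shiftLeft 1 k) := by
      rw [vec_two_pow _ hj, vec_two_pow _ hk]
      show x j r = x k r
      rw [h]
    exact shl_inj j hj k hk (L.vec_inj (shl_lt j hj) (shl_lt k hk) h1)
  have hαhom : ∀ j, j < 8 → ∀ k, k < 8 → α (Nat.xor j k) = Nat.xor (α j) (α k) := by
    intro j hj k hk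
    have hjk : Nat.xor j k < 8 := Nat.xor_lt_two_pow (n := 3) hj hk
    apply hxinj _ (hα _ hjk).1 _ (Nat.xor_lt_two_pow (n := 3) (hα j hj).1 (hα k hk).1)
    have e1 : x (Nat.xor (α j) (α k)) = x (α j) * x (α k) := L.mul _ (hα j hj).1 _ (hα k hk).1
    refine Eq.trans ?_ e1.symm
    rw [← (hα _ hjk).2, ← (hα j hj).2, ← (hα k hk).2, L.mul j hj k hk]
    group
  have hα0 : ∀ k, k < 8 → α k = 0 → k = 0 := by
    intro k hk h0
    have h1 := (hα k hk).2
    rw [h0, L.f_zero] at h1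
    apply hxinj k hk 0 (by norm_num)
    rw [L.f_zero]
    have : x k = f2⁻¹ * (f2 * x k * f2⁻¹) * f2 := by group
    rw [this, h1]; group
  have hα00 : α 0 = 0 := by
    have h1 := hαhom 0 (by norm_num) 0 (by norm_num)
    rw [show Nat.xor 0 0 = 0 from rfl] at h1
    have h2 : Nat.xor (α 0) (α 0) = 0 := Nat.xor_self _
    rw [h1, h2]
  have hbl := bl_of_hom hα00 hαhom
  obtain ⟨β, hβ⟩ : ∃ β, β = (α 1, α 2, α 4) := ⟨_, rfl⟩
  rw [← hβ] at hbl
  have hF : ∀ k, k < 8 → f2 (x k r) = vec (fun k => x k r) (px (bl β k) s) := by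
    intro k hk
    have h1 : f2 (x k r) = (f2 * x k * f2⁻¹) (f2 r) := by
      show f2 (x k r) = f2 (x k (f2⁻¹ (f2 r)))
      rw [inv_apply]
    rw [h1, (hα k hk).2, hf2r, hbl k hk, L.f_vec (hα k hk).1 hs]
  have hgood : ∀ l, l < 8 → bt D.T.gm (bl β l) = bt D.T.gm l := by
    intro l hl
    have h1 : b (f2 r) (f2 (x l r)) = (bt D.T.gm l : ℕ) := by
      rw [F.b_H hf2H]; exact L.gram l hl
    rw [hF l hl, hf2r, hbl l hl, L.b_vec hs (px_lt (hα l hl).1 hs), Tab.B_px L.ok hs (hα l hl).1, hpars,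
      mul_one] at h1
    rw [hbl l hl]
    exact Lab.nat_of_zmod (bt_cases _ _) (bt_cases _ _) h1
  have hβmem : β ∈ D.good := by
    have h1 := allN_apply (allN_apply (allN_apply hc2 (hα 1 (by norm_num)).1)
      (hα 2 (by norm_num)).1) (hα 4 (by norm_num)).1
    rw [← hβ] at h1
    have h2 : (allN 8 fun l => Nat.beq (bt D.T.gm (bl β l)) (bt D.T.gm l)) = true := by
      rw [allN_iff]
      intro l hl
      rw [hgood l hl]
      exact Nat.beq_refl _
    have h3 : (allN 8 fun l => Nat.beq l 0 || !(Nat.beq (bl β l) 0)) = true := by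
      rw [allN_iff]
      intro l hl
      by_cases hl0 : l = 0
      · rw [hl0]; rfl
      · have : Nat.beq (bl β l) 0 = false := by
          rw [Bool.eq_false_iff]
          intro h
          have h' := Nat.eq_of_beq_eq_true h
          rw [hbl l hl] at h'
          exact hl0 (hα0 l hl h')
        rw [this, Bool.not_false, Bool.or_true]
    rw [h2, h3, Bool.and_self, Bool.not_true, Bool.false_or, List.any_eq_true] at h1
    obtain ⟨γ, hγ, h4⟩ := h1
    simp only [Bool.and_eq_true] at h4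
    have : γ = β := by
      rw [hβ]
      exact Prod.ext (Nat.eq_of_beq_eq_true h4.1)
        (Prod.ext (Nat.eq_of_beq_eq_true h4.2.1) (Nat.eq_of_beq_eq_true h4.2.2))
    rw [← this]; exact hγ
  -- step 6
  obtain ⟨W, -, hW⟩ := chk2_spec ((List.all_eq_true.1 hc3) c hc) β hβmem
  rw [hcs, Dat.wit, fc_eq, Bool.and_eq_true] at hW
  obtain ⟨hWF, hW⟩ := hW
  have hMF : Mat (fun k => x k r) (Dat.mat β s) f2 := by
    intro k hk
    show f2 (x k r) = _
    rw [hF k hk, Nat.eq_of_beq_eq_true (allN_apply hWF hk)]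
  cases hk : W.k
  · exfalso
    rw [hk, cond_false] at hW
    simp only [Bool.and_eq_true, fc_eq] at hW
    obtain ⟨h1, h2, h3, h4, h5⟩ := hW
    rw [Nat.blt_eq] at h3 h4
    obtain ⟨hwH, -, hwa⟩ := hw h1
    have hUr : (wd mm W.w * f2) r = r := by
      show wd mm W.w (f2 r) = r
      rw [hf2r, hwa, Nat.eq_of_beq_eq_true h2, hone]
    have hact : y W.j (vec (fun k => x k r) W.t) = vec (fun k => x k r) (D.T.act D.M W.j W.t) :=
      L.act_spec L' hM h4 h3
    have e1 : (wd mm W.w * f2) (vec (fun k => x k r) W.t) =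
        vec (fun k => y k a) (D.T.crd D.M (ev D.gs W.w (lin (Dat.mat β s) W.t))) := by
      show wd mm W.w (f2 _) = _
      rw [hMF.apply, hwa]
      exact (L.crd_spec L' hM (ev_lt _ _ _ (lin_lt _ _))).symm
    have e2 : (wd mm W.w * f2) (y W.j (vec (fun k => x k r) W.t)) =
        vec (fun k => y k a) (D.T.crd D.M (ev D.gs W.w (lin (Dat.mat β s) (D.T.act D.M W.j W.t)))) := by
      show wd mm W.w (f2 _) = _
      rw [hact, hMF.apply, hwa]
      exact (L.crd_spec L' hM (ev_lt _ _ _ (lin_lt _ _))).symm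
    have h6 := clash L'.toPLab L'.toPLab (H.mul_mem hwH hf2H) hUr h4 (Lab.crd_lt _ _ _)
      (Lab.crd_lt _ _ _) e1 e2
    rw [h6] at h5
    revert h5
    generalize orb _ = s
    intro h5
    rw [Nat.beq_refl] at h5
    exact absurd h5 (by decide)
  · rw [hk, cond_true, Bool.and_eq_true] at hW
    obtain ⟨h1, h2⟩ := hW
    have h3 : f2 = wd mm W.w := by
      ext v
      obtain ⟨n, hn, rfl⟩ := L.vec_surj v
      show f2 _ = wd mm _ _
      rw [map_vec, map_vec]
      refine vec_congr (fun l hl => ?_) n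
      have h4 := wd_apply hm (ltW_spec h1) (Nat.shiftLeft 1 l)
      rw [vec_two_pow _ hl] at h4
      show f2 (x l r) = wd mm W.w (x l r)
      rw [h4, Nat.eq_of_beq_eq_true (allN_apply h2 hl)]
      exact hMF l hl
    rw [h3]
    exact wd_mem hS (ltW_spec h1)

end main

end Cfsg.Agent.LargeExtra.Enum9.Last
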