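import Cfsg.Agent.LargeExtra.Enum9.Last
import Cfsg.Agent.LargeExtra.Enum9.Data2

/-!
# S1763, case II, type (B): certificates for `H ≤ S` (helper73)
-/

set_option autoImplicit false
set_option maxRecDepth 100000

namespace Cfsg.Agent.LargeExtra.Enum9.LastData

open Cfsg.Agent.LargeExtra.Enum9.Last

/-- certificate, configuration PO83 -/
def datPO83 : Dat where
  T := T0
  M := matPO83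
  gs := [0x2010804002010804, 0x804020180402010, 0x102040810204080, 0x1519ed105191de01, 0x807d8985a191be01,
    0x292520dda161ee01, 0x4080102008040201, 0x4080201004080201, 0x4080102002010804, 0x804201080400201]
  nx := 6
  wx := [[], [0, 1, 2], [0], [1, 2], [1], [0, 2], [0, 1], [2]]
  LM := [(1, [1, 5, 2, 0, 3], [], 1), (2, [5, 3], [0, 1, 2], 1), (4, [2, 1, 5, 3], [0], 1), (8, [0, 5, 3], [1,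
    2], 1), (16, [5, 2, 0, 3], [1], 1), (21, [5, 1, 0, 4], [], 21), (22, [4, 3, 2, 3], [], 22), (25, [3, 2, 5,
    3], [], 25), (26, [5, 4, 0, 3], [], 26), (32, [1, 5, 3], [0, 2], 1), (37, [5, 2, 5, 3], [0, 1, 2], 26),
    (38, [5, 1, 4, 3], [0, 1, 2], 25), (41, [1, 4, 0, 3], [0, 1, 2], 22), (42, [1, 5, 1, 4], [0, 1, 2], 21),
    (64, [2, 5, 3], [0, 1], 1), (69, [4, 1, 5], [0], 21), (70, [5, 3, 2, 3], [0], 25), (73, [4, 2, 0, 3], [0],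
    22), (74, [5, 3, 0, 5], [0], 26), (81, [3, 0, 5, 3], [1], 21), (82, [5, 4, 3, 2, 3], [0, 2], 26), (84, [1,
    4, 1, 5], [0, 1], 21), (88, [2, 5, 4, 0, 3], [2], 26), (97, [1, 4, 3, 2, 3], [1], 22), (98, [2, 5, 3, 2,
    3], [0, 2], 25), (100, [1, 5, 3, 2, 3], [0, 1], 25), (104, [0, 4, 0, 3], [2], 22), (128, [1, 0, 5, 3],
    [2], 1), (133, [5, 4, 2, 0, 3], [1, 2], 26), (134, [4, 1, 4, 3], [1, 2], 22), (137, [4, 1, 5, 3], [1, 2],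
    25), (138, [5, 3, 0, 3], [1, 2], 21), (145, [5, 1, 4, 2, 3], [1], 25), (146, [4, 0, 3], [0, 2], 22), (148,
    [1, 4, 2, 0, 3], [0, 1], 22), (152, [5, 2, 3, 2, 3], [2], 25), (161, [4, 0, 5, 3], [1], 26), (162, [5, 1,
    4], [0, 2], 21), (164, [5, 0, 4, 0, 3], [0, 1], 26), (168, [0, 5, 1, 4], [2], 21)]
  good := [(1, 2, 4), (1, 2, 5), (1, 2, 6), (1, 2, 7), (1, 3, 4), (1, 3, 5), (1, 3, 6), (1, 3, 7), (1, 4, 2),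
    (1, 4, 3), (1, 4, 6), (1, 4, 7), (1, 5, 2), (1, 5, 3), (1, 5, 6), (1, 5, 7), (1, 6, 2), (1, 6, 3), (1, 6,
    4), (1, 6, 5), (1, 7, 2), (1, 7, 3), (1, 7, 4), (1, 7, 5)]
  cert := [(1, [⟨true, [], 0, 0⟩, ⟨true, [6], 0, 0⟩, ⟨true, [8, 6, 0], 0, 0⟩, ⟨true, [8, 0], 0, 0⟩, ⟨true,
    [7], 0, 0⟩, ⟨true, [7, 6], 0, 0⟩, ⟨true, [7, 8, 0], 0, 0⟩, ⟨true, [8, 0, 7], 0, 0⟩, ⟨true, [9, 8, 6, 0,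
    9], 0, 0⟩, ⟨true, [9, 8, 9, 7, 2], 0, 0⟩, ⟨true, [8, 6, 0, 9], 0, 0⟩, ⟨true, [8, 9, 7, 2], 0, 0⟩, ⟨true,
    [9, 8, 9, 6, 2], 0, 0⟩, ⟨true, [8, 9, 8, 2], 0, 0⟩, ⟨true, [8, 9, 6, 2], 0, 0⟩, ⟨true, [8, 0, 9], 0, 0⟩,
    ⟨true, [9, 8, 6, 0], 0, 0⟩, ⟨true, [9, 8, 0], 0, 0⟩, ⟨true, [9], 0, 0⟩, ⟨true, [9, 6], 0, 0⟩, ⟨true, [9,
    7, 8, 0], 0, 0⟩, ⟨true, [6, 9, 8, 0], 0, 0⟩, ⟨true, [9, 7], 0, 0⟩, ⟨true, [6, 9], 0, 0⟩]), (21, [⟨false,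
    [2, 3], 4, 1⟩, ⟨false, [2, 3], 4, 1⟩, ⟨false, [2, 3], 4, 1⟩, ⟨false, [2, 3], 4, 1⟩, ⟨false, [2, 3], 4, 1⟩,
    ⟨false, [2, 3], 4, 1⟩, ⟨false, [2, 3], 4, 1⟩, ⟨false, [2, 3], 4, 1⟩, ⟨false, [2, 3], 4, 1⟩, ⟨false, [2,
    3], 4, 1⟩, ⟨false, [2, 3], 4, 1⟩, ⟨false, [2, 3], 4, 1⟩, ⟨false, [2, 3], 4, 1⟩, ⟨false, [2, 3], 4, 1⟩,
    ⟨false, [2, 3], 4, 1⟩, ⟨false, [2, 3], 4, 1⟩, ⟨false, [2, 3], 4, 1⟩, ⟨false, [2, 3], 4, 1⟩, ⟨false, [2,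
    3], 4, 1⟩, ⟨false, [2, 3], 4, 1⟩, ⟨false, [2, 3], 4, 1⟩, ⟨false, [2, 3], 4, 1⟩, ⟨false, [2, 3], 4, 1⟩,
    ⟨false, [2, 3], 4, 1⟩]), (22, [⟨false, [0, 5, 1], 4, 1⟩, ⟨false, [0, 5, 1], 4, 1⟩, ⟨false, [0, 5, 1], 4,
    1⟩, ⟨false, [0, 5, 1], 4, 1⟩, ⟨false, [0, 5, 1], 4, 1⟩, ⟨false, [0, 5, 1], 4, 1⟩, ⟨false, [0, 5, 1], 4,
    1⟩, ⟨false, [0, 5, 1], 4, 1⟩, ⟨false, [0, 5, 1], 4, 1⟩, ⟨false, [0, 5, 1], 4, 1⟩, ⟨false, [0, 5, 1], 4,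
    1⟩, ⟨false, [0, 5, 1], 4, 1⟩, ⟨false, [0, 5, 1], 4, 1⟩, ⟨false, [0, 5, 1], 4, 1⟩, ⟨false, [0, 5, 1], 4,
    1⟩, ⟨false, [0, 5, 1], 4, 1⟩, ⟨false, [0, 5, 1], 4, 1⟩, ⟨false, [0, 5, 1], 4, 1⟩, ⟨false, [0, 5, 1], 4,
    1⟩, ⟨false, [0, 5, 1], 4, 1⟩, ⟨false, [0, 5, 1], 4, 1⟩, ⟨false, [0, 5, 1], 4, 1⟩, ⟨false, [0, 5, 1], 4,
    1⟩, ⟨false, [0, 5, 1], 4, 1⟩]), (25, [⟨false, [0, 3, 1], 4, 1⟩, ⟨false, [0, 3, 1], 4, 1⟩, ⟨false, [0, 3,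
    1], 4, 1⟩, ⟨false, [0, 3, 1], 4, 1⟩, ⟨false, [0, 3, 1], 4, 1⟩, ⟨false, [0, 3, 1], 4, 1⟩, ⟨false, [0, 3,
    1], 4, 1⟩, ⟨false, [0, 3, 1], 4, 1⟩, ⟨false, [0, 3, 1], 4, 1⟩, ⟨false, [0, 3, 1], 4, 1⟩, ⟨false, [0, 3,
    1], 4, 1⟩, ⟨false, [0, 3, 1], 4, 1⟩, ⟨false, [0, 3, 1], 4, 1⟩, ⟨false, [0, 3, 1], 4, 1⟩, ⟨false, [0, 3,
    1], 4, 1⟩, ⟨false, [0, 3, 1], 4, 1⟩, ⟨false, [0, 3, 1], 4, 1⟩, ⟨false, [0, 3, 1], 4, 1⟩, ⟨false, [0, 3,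
    1], 4, 1⟩, ⟨false, [0, 3, 1], 4, 1⟩, ⟨false, [0, 3, 1], 4, 1⟩, ⟨false, [0, 3, 1], 4, 1⟩, ⟨false, [0, 3,
    1], 4, 1⟩, ⟨false, [0, 3, 1], 4, 1⟩]), (26, [⟨false, [1, 4, 2, 1], 4, 1⟩, ⟨false, [1, 4, 2, 1], 4, 1⟩,
    ⟨false, [1, 4, 2, 1], 4, 1⟩, ⟨false, [1, 4, 2, 1], 4, 1⟩, ⟨false, [1, 4, 2, 1], 4, 1⟩, ⟨false, [1, 4, 2,
    1], 4, 1⟩, ⟨false, [1, 4, 2, 1], 4, 1⟩, ⟨false, [1, 4, 2, 1], 4, 1⟩, ⟨false, [1, 4, 2, 1], 4, 1⟩, ⟨false,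
    [1, 4, 2, 1], 4, 1⟩, ⟨false, [1, 4, 2, 1], 4, 1⟩, ⟨false, [1, 4, 2, 1], 4, 1⟩, ⟨false, [1, 4, 2, 1], 4,
    1⟩, ⟨false, [1, 4, 2, 1], 4, 1⟩, ⟨false, [1, 4, 2, 1], 4, 1⟩, ⟨false, [1, 4, 2, 1], 4, 1⟩, ⟨false, [1, 4,
    2, 1], 4, 1⟩, ⟨false, [1, 4, 2, 1], 4, 1⟩, ⟨false, [1, 4, 2, 1], 4, 1⟩, ⟨false, [1, 4, 2, 1], 4, 1⟩,
    ⟨false, [1, 4, 2, 1], 4, 1⟩, ⟨false, [1, 4, 2, 1], 4, 1⟩, ⟨false, [1, 4, 2, 1], 4, 1⟩, ⟨false, [1, 4, 2,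
    1], 4, 1⟩])]

theorem okPO83 : datPO83.ok = true := by decide +kernel

/-- certificate, configuration Oplus -/
def datOplus : Dat where
  T := T0
  M := matOplus
  gs := [0x2010804002010804, 0x201080420108040, 0x408010240801020, 0x8440211048041201, 0x8041201428048201,
    0xa040205008050a01, 0x4080102002010804, 0x804201080400201]
  nx := 6
  wx := [[], [0, 1, 2], [0], [1, 2], [0, 1], [2], [1], [0, 2]]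
  LM := [(1, [0, 5, 1, 4, 2, 3], [], 1), (2, [5, 4, 3], [0, 1, 2], 1), (4, [5, 1, 4, 2, 3], [0], 1), (8, [0,
    5, 4, 3], [1, 2], 1), (16, [5, 4, 2, 3], [0, 1], 1), (32, [0, 5, 1, 4, 3], [2], 1), (64, [0, 5, 4, 2, 3],
    [1], 1), (128, [5, 1, 4, 3], [0, 2], 1)]
  good := [(1, 2, 4), (1, 2, 5), (1, 2, 6), (1, 2, 7), (1, 3, 4), (1, 3, 5), (1, 3, 6), (1, 3, 7), (1, 4, 2),
    (1, 4, 3), (1, 4, 6), (1, 4, 7), (1, 5, 2), (1, 5, 3), (1, 5, 6), (1, 5, 7), (1, 6, 2), (1, 6, 3), (1, 6,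
    4), (1, 6, 5), (1, 7, 2), (1, 7, 3), (1, 7, 4), (1, 7, 5)]
  cert := [(1, [⟨true, [], 0, 0⟩, ⟨false, [], 8, 1⟩, ⟨false, [], 8, 1⟩, ⟨true, [6, 0], 0, 0⟩, ⟨false, [], 4,
    1⟩, ⟨false, [], 4, 1⟩, ⟨false, [], 4, 1⟩, ⟨false, [], 4, 1⟩, ⟨false, [], 4, 1⟩, ⟨false, [], 4, 1⟩, ⟨false,
    [], 4, 1⟩, ⟨false, [], 4, 1⟩, ⟨false, [], 8, 1⟩, ⟨true, [7, 6, 7, 1], 0, 0⟩, ⟨false, [], 8, 1⟩, ⟨true, [6,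
    7, 1], 0, 0⟩, ⟨false, [], 8, 1⟩, ⟨true, [7, 6, 0], 0, 0⟩, ⟨true, [7], 0, 0⟩, ⟨false, [], 8, 1⟩, ⟨false,
    [], 4, 1⟩, ⟨false, [], 4, 1⟩, ⟨false, [], 4, 1⟩, ⟨false, [], 4, 1⟩])]

theorem okOplus : datOplus.ok = true := by decide +kernel

/-- certificate, configuration K2 -/
def datK2 : Dat where
  T := T0
  M := matK2
  gs := [0x102040810204080, 0x2010804002010804, 0x804020180402010, 0x3c11cc415954a601, 0x3c056554f0419a01,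
    0x2810884008550a01, 0x102102004084080]
  nx := 6
  wx := [[], [0, 1, 2], [1], [0, 2], [2], [0, 1], [1, 2], [0]]
  LM := [(1, [2, 1, 0, 5, 3], [], 1), (2, [5, 3], [0, 1, 2], 1), (4, [2, 0, 5, 3], [1], 1), (8, [1, 5, 3], [0,
    2], 1), (16, [1, 0, 5, 3], [2], 1), (21, [2, 4, 0, 3], [1, 4, 2, 4], 1), (32, [2, 5, 3], [0, 1], 1), (42,
    [0, 5, 2, 0, 3], [3, 1, 3, 0], 1), (64, [0, 5, 3], [1, 2], 1), (69, [3, 0, 4], [2, 4, 2, 4], 1), (81, [4,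
    0, 3], [1, 3, 1, 3], 1), (84, [5, 2, 0, 3], [3, 1, 3], 1), (128, [2, 1, 5, 3], [0], 1), (138, [0, 4, 0,
    3], [0, 3, 1, 3], 1), (162, [3, 0, 4, 3], [0, 4, 2, 4], 1), (168, [3, 1, 5], [0, 3, 1, 3, 2], 1)]
  good := [(1, 2, 4), (1, 2, 5), (1, 2, 6), (1, 2, 7), (1, 3, 4), (1, 3, 5), (1, 3, 6), (1, 3, 7), (1, 4, 2),
    (1, 4, 3), (1, 4, 6), (1, 4, 7), (1, 5, 2), (1, 5, 3), (1, 5, 6), (1, 5, 7), (1, 6, 2), (1, 6, 3), (1, 6,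
    4), (1, 6, 5), (1, 7, 2), (1, 7, 3), (1, 7, 4), (1, 7, 5)]
  cert := [(1, [⟨true, [], 0, 0⟩, ⟨false, [], 8, 1⟩, ⟨true, [6, 4, 3, 2, 5, 2, 0], 0, 0⟩, ⟨false, [], 8, 1⟩,
    ⟨false, [], 4, 1⟩, ⟨false, [], 4, 1⟩, ⟨false, [], 4, 1⟩, ⟨false, [], 4, 1⟩, ⟨true, [6, 0], 0, 0⟩, ⟨false,
    [], 8, 1⟩, ⟨true, [1, 4, 3, 2, 5], 0, 0⟩, ⟨false, [], 8, 1⟩, ⟨false, [], 4, 1⟩, ⟨false, [], 4, 1⟩, ⟨false,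
    [], 4, 1⟩, ⟨false, [], 4, 1⟩, ⟨true, [5, 2, 4, 3, 1], 0, 0⟩, ⟨false, [], 8, 1⟩, ⟨true, [6, 2, 5, 2, 4, 3,
    0], 0, 0⟩, ⟨false, [], 8, 1⟩, ⟨false, [], 4, 1⟩, ⟨false, [], 4, 1⟩, ⟨false, [], 4, 1⟩, ⟨false, [], 4,
    1⟩])]

theorem okK2 : datK2.ok = true := by decide +kernel

/-- certificate, configuration K4 -/
def datK4 : Dat where
  T := T0
  M := matK4
  gs := [0x804020180402010, 0x201080420108040, 0x1020408001020408, 0x8140241018044201, 0x8051a01009058f01,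
    0x8154a51199057e01]
  nx := 6
  wx := [[], [0, 1, 2], [0, 1], [2], [0], [1, 2], [1], [0, 2]]
  LM := [(1, [1, 5, 0, 4, 2, 3], [], 1), (2, [5, 3, 2, 4, 2, 3], [0, 1, 2], 1), (4, [0, 5, 0, 4, 2, 3], [0,
    1], 1), (8, [2, 1, 5, 0, 4, 2, 3], [2], 1), (16, [5, 1, 4, 0, 4, 2, 3], [0], 1), (21, [4, 2, 5], [1, 5, 1,
    5], 1), (22, [5, 0, 4, 3], [0, 1, 5, 1, 4, 2, 4, 1, 5], 1), (25, [2, 1, 4, 3, 2, 4, 2, 3], [0, 4, 2, 5, 2,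
    4], 1), (31, [4, 3, 2, 1, 0, 4], [3, 4, 2, 4, 1, 4, 0], 1), (32, [2, 5, 0, 4, 2, 3], [1, 2], 1), (38, [4,
    2, 4, 2, 3], [4, 2, 5, 2, 4, 1], 1), (41, [3, 2, 1, 4], [2, 5, 1, 4, 2, 4, 1, 5], 1), (42, [2, 4, 2, 3],
    [0, 2, 5, 1, 5], 1), (47, [1, 4, 3, 2, 4], [2, 3, 4, 2, 4, 1, 4], 1), (61, [2, 1, 4], [4, 1, 4, 2, 3, 4],
    1), (62, [0, 4], [0, 4, 1, 4, 2, 3, 4, 2], 1), (64, [5, 0, 4, 2, 3], [1], 1), (69, [4, 2, 3], [5, 1, 5,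
    0], 1), (70, [2, 4, 2, 4, 2, 3], [1, 4, 2, 5, 2, 4], 1), (73, [5, 1, 4, 0, 4], [1, 2, 5, 1, 4, 2, 4, 1,
    5], 1), (79, [4, 2, 1, 0, 4], [3, 4, 2, 4, 1, 4, 1], 1), (81, [1, 4, 2, 3], [0, 5, 1, 5], 1), (84, [0, 4,
    2, 3], [5, 1, 5], 1), (97, [2, 3, 2, 4], [1, 5, 1, 4, 2, 4, 1, 5], 1), (98, [4, 3, 2, 4, 2, 3], [0, 1, 4,
    2, 5, 2, 4], 1), (100, [2, 4, 3, 2, 4, 2, 3], [0, 4, 2, 5, 2, 4, 1], 1), (104, [3, 2, 4], [5, 1, 4, 2, 4,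
    1, 5], 1), (124, [2, 4], [2, 4, 1, 4, 2, 3, 4], 1), (128, [1, 5, 3, 2, 4, 2, 3], [0, 2], 1), (134, [3, 2,
    0, 4], [0, 5, 1, 4, 2, 4, 1, 5], 1), (137, [1, 4, 3, 2, 4, 2, 3], [4, 2, 5, 2, 4, 0], 1), (138, [2, 4, 2,
    5], [2, 5, 1, 5], 1), (143, [0, 4, 3, 2, 4], [0, 3, 4, 2, 4, 1, 4], 1), (145, [2, 1, 4, 2, 4, 2, 3], [2,
    4, 2, 5, 2, 4], 1), (146, [3, 2, 1, 0, 4], [0, 2, 5, 1, 4, 2, 4, 1, 5], 1), (148, [1, 5, 0, 4, 3], [0, 1,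
    2, 5, 1, 4, 2, 4, 1, 5], 1), (152, [1, 4, 2, 4, 2, 3], [4, 2, 5, 2, 4], 1), (162, [2, 0, 4, 2, 3], [5, 1,
    5, 2], 1), (168, [2, 1, 4, 2, 3], [0, 5, 1, 5, 2], 1), (188, [1, 0, 4], [0, 1, 4, 1, 4, 2, 3, 4], 1),
    (199, [2, 0, 4], [0, 4, 1, 4, 2, 3, 4], 1), (203, [1, 4], [4, 1, 4, 2, 3, 4, 2], 1), (211, [2, 1, 0, 4],
    [4, 1, 4, 2, 3, 4, 0], 1), (227, [4], [1, 4, 1, 4, 2, 3, 4], 1), (241, [2, 4, 3, 2, 4], [3, 4, 2, 4, 1,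
    4], 1), (242, [4, 2, 4, 0, 4, 3], [0, 3, 4, 2, 4, 1, 4, 1], 1), (244, [0, 4, 2, 1, 0, 4], [0, 2, 3, 4, 2,
    4, 1, 4], 1), (248, [4, 3, 2, 4], [1, 3, 4, 2, 4, 1, 4], 1)]
  good := [(1, 2, 4), (1, 2, 5), (1, 2, 6), (1, 2, 7), (1, 3, 4), (1, 3, 5), (1, 3, 6), (1, 3, 7), (1, 4, 2),
    (1, 4, 3), (1, 4, 6), (1, 4, 7), (1, 5, 2), (1, 5, 3), (1, 5, 6), (1, 5, 7), (1, 6, 2), (1, 6, 3), (1, 6,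
    4), (1, 6, 5), (1, 7, 2), (1, 7, 3), (1, 7, 4), (1, 7, 5)]
  cert := [(1, [⟨true, [], 0, 0⟩, ⟨false, [], 2, 1⟩, ⟨false, [], 2, 1⟩, ⟨false, [], 2, 1⟩, ⟨false, [], 2, 1⟩,
    ⟨false, [], 18, 1⟩, ⟨false, [], 2, 1⟩, ⟨false, [], 2, 1⟩, ⟨false, [], 2, 1⟩, ⟨false, [], 2, 1⟩, ⟨false,
    [], 2, 1⟩, ⟨false, [], 2, 1⟩, ⟨false, [], 2, 1⟩, ⟨false, [], 2, 1⟩, ⟨false, [], 2, 1⟩, ⟨false, [], 2, 1⟩,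
    ⟨false, [], 2, 1⟩, ⟨false, [], 2, 1⟩, ⟨false, [], 2, 1⟩, ⟨false, [], 2, 1⟩, ⟨false, [], 2, 1⟩, ⟨false, [],
    2, 1⟩, ⟨false, [], 2, 1⟩, ⟨false, [], 2, 1⟩])]

theorem okK4 : datK4.ok = true := by decide +kernel

/-- certificate, configuration K5 -/
def datK5 : Dat where
  T := T0
  M := matK5
  gs := [0x2010804002010804, 0x804020180402010, 0x102040810204080, 0x8140241018044201, 0x8044201188042201,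
    0x8051a01008058a01]
  nx := 6
  wx := [[], [0, 1, 2], [0], [1, 2], [1], [0, 2], [0, 1], [2]]
  LM := [(1, [0, 5, 1, 4, 2, 3], [], 1), (2, [1, 5, 1, 4, 3], [0, 1, 2], 1), (4, [5, 1, 4, 2, 3], [0], 1), (8,
    [1, 0, 5, 1, 4, 3], [1, 2], 1), (16, [1, 0, 5, 1, 4, 2, 3], [1], 1), (21, [0, 5, 2, 3], [0, 4, 5, 1, 5, 0,
    5], 1), (32, [5, 1, 4, 3], [0, 2], 1), (42, [1, 5, 3], [2, 4, 5, 0, 1, 4, 5], 1), (64, [1, 5, 1, 4, 2, 3],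
    [0, 1], 1), (69, [5, 2, 3], [5, 0, 5, 1, 4, 5], 1), (81, [1, 0, 5, 2, 3], [4, 5, 1, 5, 0, 5], 1), (84, [1,
    5, 2, 3], [4, 5, 0, 1, 4, 5], 1), (128, [0, 5, 1, 4, 3], [2], 1), (138, [1, 0, 5, 3], [2, 4, 5, 1, 5, 0,
    5], 1), (162, [5, 3], [2, 5, 0, 5, 1, 4, 5], 1), (168, [0, 5, 3], [0, 2, 4, 5, 1, 5, 0, 5], 1)]
  good := [(1, 2, 4), (1, 2, 5), (1, 2, 6), (1, 2, 7), (1, 3, 4), (1, 3, 5), (1, 3, 6), (1, 3, 7), (1, 4, 2),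
    (1, 4, 3), (1, 4, 6), (1, 4, 7), (1, 5, 2), (1, 5, 3), (1, 5, 6), (1, 5, 7), (1, 6, 2), (1, 6, 3), (1, 6,
    4), (1, 6, 5), (1, 7, 2), (1, 7, 3), (1, 7, 4), (1, 7, 5)]
  cert := [(1, [⟨true, [], 0, 0⟩, ⟨false, [], 2, 1⟩, ⟨false, [], 2, 1⟩, ⟨false, [], 2, 1⟩, ⟨false, [], 2, 1⟩,
    ⟨false, [], 2, 1⟩, ⟨false, [], 2, 1⟩, ⟨false, [], 2, 1⟩, ⟨false, [], 2, 1⟩, ⟨false, [], 2, 1⟩, ⟨false, [],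
    2, 1⟩, ⟨false, [], 2, 1⟩, ⟨false, [], 2, 1⟩, ⟨false, [], 4, 1⟩, ⟨false, [], 2, 1⟩, ⟨false, [], 2, 1⟩,
    ⟨false, [], 2, 1⟩, ⟨false, [], 2, 1⟩, ⟨false, [], 2, 1⟩, ⟨false, [], 2, 1⟩, ⟨false, [], 2, 1⟩, ⟨false, [],
    2, 1⟩, ⟨false, [], 2, 1⟩, ⟨false, [], 2, 1⟩])]

theorem okK5 : datK5.ok = true := by decide +kernel

/-- certificate, configuration HN -/
def datHN : Dat where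
  T := T1
  M := matHN
  gs := [0x201080420108040, 0x102040810204080, 0x804020180402010, 0x5c40561195443501, 0xe7ebed119e5e3e01,
    0x809c9a1188593901, 0x8020401008020401]
  nx := 6
  wx := [[], [0, 1], [0, 2], [1, 2], [2], [0, 1, 2], [0], [1]]
  LM := [(1, [0, 4, 2, 3], [], 1), (2, [1, 4, 2, 3], [0, 1], 1), (4, [2, 4, 2, 3], [0, 2], 1), (8, [4, 2, 5,
    4], [1, 2], 1), (16, [2, 0, 4, 2, 3], [2], 1), (32, [2, 1, 4, 2, 3], [0, 1, 2], 1), (61, [5, 0, 4, 3], [0,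
    1, 4, 0, 1, 4], 1), (62, [2, 5, 3], [4, 0, 1, 4], 1), (64, [4, 2, 3], [0], 1), (91, [0, 4, 3], [0, 2, 4,
    0, 2, 4], 1), (94, [2, 4, 3], [4, 0, 2, 4], 1), (107, [0, 5, 4], [0, 2, 4, 1, 2, 4], 1), (109, [2, 4, 1,
    3], [0, 1, 4, 1, 2, 4], 1), (121, [2, 5, 0, 4], [2, 4, 1, 2, 4], 1), (122, [2, 1, 4, 3], [4, 0, 2, 4, 1],
    1), (124, [4, 2, 1, 3], [0, 4, 0, 1, 4], 1), (128, [4, 2, 5], [1], 1), (151, [5, 0, 4], [0, 4, 1, 2, 4,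
    0], 1), (158, [2, 5, 4], [4, 1, 2, 4], 1), (167, [1, 4, 3], [0, 4, 0, 2, 4, 1], 1), (173, [4, 0, 5, 3],
    [0, 1, 4, 0, 2, 4], 1), (181, [2, 0, 4, 3], [2, 4, 0, 2, 4], 1), (182, [2, 0, 5, 4], [4, 1, 2, 4, 0], 1),
    (188, [2, 0, 5, 3], [1, 4, 0, 1, 4], 1), (199, [5, 1, 3], [0, 4, 0, 1, 4, 2], 1), (203, [0, 5, 3], [0, 2,
    4, 0, 1, 4], 1), (211, [0, 5, 1, 3], [2, 4, 0, 1, 4], 1), (214, [4, 1, 3], [0, 4, 1, 2, 4], 1), (218, [4,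
    0, 5], [1, 4, 0, 2, 4], 1), (227, [5, 3], [4, 0, 1, 4, 2], 1), (229, [4, 3], [0, 4, 0, 2, 4], 1), (233,
    [5, 4], [1, 4, 1, 2, 4], 1)]
  good := [(1, 2, 4), (1, 2, 5), (1, 2, 6), (1, 2, 7), (1, 3, 4), (1, 3, 5), (1, 3, 6), (1, 3, 7), (2, 1, 4),
    (2, 1, 5), (2, 1, 6), (2, 1, 7), (2, 3, 4), (2, 3, 5), (2, 3, 6), (2, 3, 7), (3, 1, 4), (3, 1, 5), (3, 1,
    6), (3, 1, 7), (3, 2, 4), (3, 2, 5), (3, 2, 6), (3, 2, 7)]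
  cert := [(1, [⟨true, [], 0, 0⟩, ⟨false, [], 2, 1⟩, ⟨false, [], 2, 1⟩, ⟨false, [], 2, 1⟩, ⟨true, [5, 0, 4, 1,
    3, 6, 0, 4, 2, 1, 0], 0, 0⟩, ⟨false, [], 2, 1⟩, ⟨false, [], 2, 1⟩, ⟨false, [], 2, 1⟩, ⟨true, [6], 0, 0⟩,
    ⟨false, [], 2, 1⟩, ⟨false, [], 2, 1⟩, ⟨false, [], 2, 1⟩, ⟨true, [5, 4, 0, 5, 2, 0, 5, 4, 1, 0], 0, 0⟩,
    ⟨false, [], 2, 1⟩, ⟨false, [], 2, 1⟩, ⟨false, [], 2, 1⟩, ⟨true, [3, 2, 5, 0, 5, 4, 2, 3, 1, 0], 0, 0⟩,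
    ⟨false, [], 2, 1⟩, ⟨false, [], 2, 1⟩, ⟨false, [], 2, 1⟩, ⟨true, [5, 2, 3, 6, 1, 3, 2, 5, 0], 0, 0⟩,
    ⟨false, [], 2, 1⟩, ⟨false, [], 2, 1⟩, ⟨false, [], 2, 1⟩])]

theorem okHN : datHN.ok = true := by decide +kernel

/-- certificate, configuration Ominus -/
def datOminus : Dat where
  T := T2
  M := matOminus
  gs := [0x1020408001020408, 0x408010240801020, 0x4080102004080102, 0x812040ff69422401, 0x8020409669020401,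
    0x8069080420109601, 0x8040080420100201]
  nx := 6
  wx := [[], [2], [0, 2], [0], [1, 2], [1], [0, 1], [0, 1, 2]]
  LM := [(1, [2, 1, 3], [], 1), (2, [1, 3], [2], 1), (4, [5, 3], [0, 2], 1), (8, [5, 2, 3], [0], 1), (16, [3],
    [1, 2], 1), (32, [2, 3], [1], 1), (64, [2, 0, 3], [0, 1], 1), (128, [0, 3], [0, 1, 2], 1)]
  good := [(1, 2, 4), (1, 4, 2), (2, 1, 4), (2, 4, 1), (4, 1, 2), (4, 2, 1)]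
  cert := [(1, [⟨true, [], 0, 0⟩, ⟨true, [6], 0, 0⟩, ⟨true, [4, 6, 0, 5, 1], 0, 0⟩, ⟨true, [4, 1, 5, 0], 0,
    0⟩, ⟨true, [0, 5, 1, 4], 0, 0⟩, ⟨true, [6, 4, 1, 5, 0], 0, 0⟩])]

theorem okOminus : datOminus.ok = true := by decide +kernel

/-- certificate, configuration K3 -/
def datK3 : Dat where
  T := T2
  M := matK3
  gs := [0x1020408001020408, 0x408010240801020, 0x4080102004080102, 0x812040ff69422401, 0x8020409669020401,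
    0x8069080420109601, 0x8041211668848201, 0x1629498661929468]
  nx := 7
  wx := [[], [2], [0, 2], [0], [1, 2], [1], [0, 1], [0, 1, 2]]
  LM := [(1, [2, 1, 3], [], 1), (2, [1, 3], [2], 1), (4, [5, 3], [0, 2], 1), (8, [5, 2, 3], [0], 1), (16, [3],
    [1, 2], 1), (22, [6, 3], [6, 1, 2, 6], 1), (32, [2, 3], [1], 1), (41, [2, 6, 3], [1, 6, 0, 6], 1), (64,
    [2, 0, 3], [0, 1], 1), (73, [2, 0, 6, 3], [6, 0, 6, 1], 1), (97, [2, 1, 6, 3], [0, 6, 0, 6], 1), (104, [6,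
    5, 2, 3], [6, 0, 6], 1), (128, [0, 3], [0, 1, 2], 1), (134, [0, 6, 3], [0, 6, 1, 2, 6], 1), (146, [1, 6,
    3], [2, 6, 0, 6], 1), (148, [1, 0, 6, 3], [6, 0, 6, 2], 1)]
  good := [(1, 2, 4), (1, 4, 2), (2, 1, 4), (2, 4, 1), (4, 1, 2), (4, 2, 1)]
  cert := [(1, [⟨true, [], 0, 0⟩, ⟨true, [6, 1, 5, 6, 7, 4], 0, 0⟩, ⟨true, [6, 7, 6, 0], 0, 0⟩, ⟨true, [4, 1,
    5, 0], 0, 0⟩, ⟨true, [0, 5, 1, 4], 0, 0⟩, ⟨true, [5, 6, 7, 6, 5, 1], 0, 0⟩])]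

theorem okK3 : datK3.ok = true := by decide +kernel

/-- certificate, configuration D4 -/
def datD4 : Dat where
  T := T4
  M := matD4
  gs := [0x4080102004080102, 0x2010804002010804, 0x804020180402010, 0x220400810ff8001, 0x1004ff8002400801,
    0xff08102040020401, 0x208401020800401]
  nx := 6
  wx := [[], [0], [1], [0, 1], [2], [0, 2], [1, 2], [0, 1, 2]]
  LM := [(1, [1, 3], [], 1), (2, [5, 3], [0], 1), (4, [3], [1], 1), (8, [0, 3], [0, 1], 1), (16, [0, 4], [2],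
    1), (32, [4], [0, 2], 1), (64, [2, 3], [1, 2], 1), (128, [5], [0, 1, 2], 1)]
  good := [(1, 2, 4), (1, 2, 5), (1, 2, 6), (1, 2, 7), (1, 3, 4), (1, 3, 5), (1, 3, 6), (1, 3, 7), (1, 4, 2),
    (1, 4, 3), (1, 4, 6), (1, 4, 7), (1, 5, 2), (1, 5, 3), (1, 5, 6), (1, 5, 7), (1, 6, 2), (1, 6, 3), (1, 6,
    4), (1, 6, 5), (1, 7, 2), (1, 7, 3), (1, 7, 4), (1, 7, 5), (2, 1, 4), (2, 1, 5), (2, 1, 6), (2, 1, 7), (2,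
    3, 4), (2, 3, 5), (2, 3, 6), (2, 3, 7), (2, 4, 1), (2, 4, 3), (2, 4, 5), (2, 4, 7), (2, 5, 1), (2, 5, 3),
    (2, 5, 4), (2, 5, 6), (2, 6, 1), (2, 6, 3), (2, 6, 5), (2, 6, 7), (2, 7, 1), (2, 7, 3), (2, 7, 4), (2, 7,
    6), (3, 1, 4), (3, 1, 5), (3, 1, 6), (3, 1, 7), (3, 2, 4), (3, 2, 5), (3, 2, 6), (3, 2, 7), (3, 4, 1), (3,
    4, 2), (3, 4, 5), (3, 4, 6), (3, 5, 1), (3, 5, 2), (3, 5, 4), (3, 5, 7), (3, 6, 1), (3, 6, 2), (3, 6, 4),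
    (3, 6, 7), (3, 7, 1), (3, 7, 2), (3, 7, 5), (3, 7, 6), (4, 1, 2), (4, 1, 3), (4, 1, 6), (4, 1, 7), (4, 2,
    1), (4, 2, 3), (4, 2, 5), (4, 2, 7), (4, 3, 1), (4, 3, 2), (4, 3, 5), (4, 3, 6), (4, 5, 2), (4, 5, 3), (4,
    5, 6), (4, 5, 7), (4, 6, 1), (4, 6, 3), (4, 6, 5), (4, 6, 7), (4, 7, 1), (4, 7, 2), (4, 7, 5), (4, 7, 6),
    (5, 1, 2), (5, 1, 3), (5, 1, 6), (5, 1, 7), (5, 2, 1), (5, 2, 3), (5, 2, 4), (5, 2, 6), (5, 3, 1), (5, 3,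
    2), (5, 3, 4), (5, 3, 7), (5, 4, 2), (5, 4, 3), (5, 4, 6), (5, 4, 7), (5, 6, 1), (5, 6, 2), (5, 6, 4), (5,
    6, 7), (5, 7, 1), (5, 7, 3), (5, 7, 4), (5, 7, 6), (6, 1, 2), (6, 1, 3), (6, 1, 4), (6, 1, 5), (6, 2, 1),
    (6, 2, 3), (6, 2, 5), (6, 2, 7), (6, 3, 1), (6, 3, 2), (6, 3, 4), (6, 3, 7), (6, 4, 1), (6, 4, 3), (6, 4,
    5), (6, 4, 7), (6, 5, 1), (6, 5, 2), (6, 5, 4), (6, 5, 7), (6, 7, 2), (6, 7, 3), (6, 7, 4), (6, 7, 5), (7,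
    1, 2), (7, 1, 3), (7, 1, 4), (7, 1, 5), (7, 2, 1), (7, 2, 3), (7, 2, 4), (7, 2, 6), (7, 3, 1), (7, 3, 2),
    (7, 3, 5), (7, 3, 6), (7, 4, 1), (7, 4, 2), (7, 4, 5), (7, 4, 6), (7, 5, 1), (7, 5, 3), (7, 5, 4), (7, 5,
    6), (7, 6, 2), (7, 6, 3), (7, 6, 4), (7, 6, 5)]
  cert := [(1, [⟨true, [], 0, 0⟩, ⟨false, [], 6, 1⟩, ⟨false, [], 6, 1⟩, ⟨false, [], 6, 1⟩, ⟨false, [], 6, 1⟩,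
    ⟨false, [], 6, 1⟩, ⟨false, [], 6, 1⟩, ⟨false, [], 10, 1⟩, ⟨false, [], 6, 1⟩, ⟨false, [], 10, 1⟩, ⟨false,
    [], 6, 1⟩, ⟨false, [], 6, 1⟩, ⟨false, [], 6, 1⟩, ⟨false, [], 6, 1⟩, ⟨false, [], 6, 1⟩, ⟨true, [6, 5, 0, 6,
    4, 2], 0, 0⟩, ⟨false, [], 6, 1⟩, ⟨true, [5, 3, 2, 4, 6, 1], 0, 0⟩, ⟨false, [], 6, 1⟩, ⟨false, [], 6, 1⟩,
    ⟨false, [], 6, 1⟩, ⟨false, [], 6, 1⟩, ⟨false, [], 10, 1⟩, ⟨false, [], 6, 1⟩, ⟨false, [], 10, 1⟩, ⟨false,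
    [], 6, 1⟩, ⟨false, [], 6, 1⟩, ⟨false, [], 6, 1⟩, ⟨false, [], 6, 1⟩, ⟨true, [3, 6, 2, 4, 6, 1], 0, 0⟩,
    ⟨false, [], 6, 1⟩, ⟨false, [], 6, 1⟩, ⟨false, [], 6, 1⟩, ⟨false, [], 6, 1⟩, ⟨false, [], 10, 1⟩, ⟨false,
    [], 6, 1⟩, ⟨false, [], 10, 1⟩, ⟨false, [], 6, 1⟩, ⟨false, [], 6, 1⟩, ⟨false, [], 6, 1⟩, ⟨true, [4, 2, 5,
    3, 2, 1], 0, 0⟩, ⟨false, [], 6, 1⟩, ⟨false, [], 6, 1⟩, ⟨false, [], 6, 1⟩, ⟨false, [], 6, 1⟩, ⟨false, [],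
    6, 1⟩, ⟨true, [6], 0, 0⟩, ⟨false, [], 6, 1⟩, ⟨false, [], 6, 1⟩, ⟨false, [], 6, 1⟩, ⟨false, [], 6, 1⟩,
    ⟨true, [6, 4, 1, 5, 0], 0, 0⟩, ⟨false, [], 6, 1⟩, ⟨false, [], 10, 1⟩, ⟨false, [], 6, 1⟩, ⟨false, [], 6,
    1⟩, ⟨false, [], 6, 1⟩, ⟨false, [], 6, 1⟩, ⟨true, [0, 5, 1, 4], 0, 0⟩, ⟨false, [], 6, 1⟩, ⟨false, [], 6,
    1⟩, ⟨false, [], 6, 1⟩, ⟨false, [], 6, 1⟩, ⟨false, [], 10, 1⟩, ⟨false, [], 6, 1⟩, ⟨true, [4, 6, 0, 3, 6,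
    1], 0, 0⟩, ⟨false, [], 6, 1⟩, ⟨false, [], 6, 1⟩, ⟨false, [], 6, 1⟩, ⟨false, [], 10, 1⟩, ⟨false, [], 6, 1⟩,
    ⟨false, [], 6, 1⟩, ⟨false, [], 6, 1⟩, ⟨true, [4, 2, 1, 0, 3, 0], 0, 0⟩, ⟨false, [], 6, 1⟩, ⟨false, [], 6,
    1⟩, ⟨false, [], 6, 1⟩, ⟨false, [], 6, 1⟩, ⟨true, [0, 5, 1, 4, 6], 0, 0⟩, ⟨false, [], 6, 1⟩, ⟨false, [], 6,
    1⟩, ⟨false, [], 6, 1⟩, ⟨false, [], 10, 1⟩, ⟨false, [], 6, 1⟩, ⟨false, [], 6, 1⟩, ⟨false, [], 6, 1⟩,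
    ⟨false, [], 10, 1⟩, ⟨false, [], 6, 1⟩, ⟨false, [], 6, 1⟩, ⟨false, [], 10, 1⟩, ⟨false, [], 6, 1⟩, ⟨false,
    [], 6, 1⟩, ⟨false, [], 6, 1⟩, ⟨false, [], 6, 1⟩, ⟨false, [], 6, 1⟩, ⟨true, [6, 0, 5, 1, 4, 6], 0, 0⟩,
    ⟨false, [], 6, 1⟩, ⟨false, [], 6, 1⟩, ⟨false, [], 6, 1⟩, ⟨false, [], 10, 1⟩, ⟨true, [6, 6, 4, 1, 5, 0], 0,
    0⟩, ⟨false, [], 6, 1⟩, ⟨false, [], 6, 1⟩, ⟨false, [], 6, 1⟩, ⟨false, [], 6, 1⟩, ⟨false, [], 6, 1⟩, ⟨false,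
    [], 6, 1⟩, ⟨true, [2, 5, 2, 0, 3], 0, 0⟩, ⟨false, [], 6, 1⟩, ⟨false, [], 6, 1⟩, ⟨true, [6, 0, 5, 1, 4], 0,
    0⟩, ⟨false, [], 6, 1⟩, ⟨false, [], 10, 1⟩, ⟨false, [], 6, 1⟩, ⟨false, [], 6, 1⟩, ⟨false, [], 6, 1⟩,
    ⟨false, [], 6, 1⟩, ⟨false, [], 6, 1⟩, ⟨false, [], 6, 1⟩, ⟨false, [], 10, 1⟩, ⟨false, [], 6, 1⟩, ⟨false,
    [], 10, 1⟩, ⟨false, [], 6, 1⟩, ⟨false, [], 6, 1⟩, ⟨false, [], 10, 1⟩, ⟨false, [], 6, 1⟩, ⟨false, [], 6,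
    1⟩, ⟨false, [], 6, 1⟩, ⟨false, [], 6, 1⟩, ⟨false, [], 10, 1⟩, ⟨false, [], 6, 1⟩, ⟨false, [], 6, 1⟩,
    ⟨false, [], 6, 1⟩, ⟨true, [4, 6, 6, 0, 5, 1], 0, 0⟩, ⟨false, [], 6, 1⟩, ⟨false, [], 6, 1⟩, ⟨true, [4, 6,
    2, 5, 2, 0], 0, 0⟩, ⟨false, [], 6, 1⟩, ⟨false, [], 6, 1⟩, ⟨false, [], 6, 1⟩, ⟨true, [4, 1, 5, 0], 0, 0⟩,
    ⟨false, [], 6, 1⟩, ⟨false, [], 6, 1⟩, ⟨false, [], 6, 1⟩, ⟨false, [], 6, 1⟩, ⟨false, [], 6, 1⟩, ⟨true, [6,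
    6], 0, 0⟩, ⟨false, [], 6, 1⟩, ⟨false, [], 6, 1⟩, ⟨false, [], 6, 1⟩, ⟨false, [], 10, 1⟩, ⟨false, [], 6, 1⟩,
    ⟨false, [], 6, 1⟩, ⟨true, [5, 0, 6, 4, 2], 0, 0⟩, ⟨false, [], 6, 1⟩, ⟨false, [], 6, 1⟩, ⟨false, [], 6, 1⟩,
    ⟨false, [], 6, 1⟩, ⟨false, [], 6, 1⟩, ⟨false, [], 10, 1⟩, ⟨false, [], 6, 1⟩, ⟨false, [], 6, 1⟩, ⟨false,
    [], 6, 1⟩, ⟨true, [3, 2, 0, 5, 2], 0, 0⟩, ⟨false, [], 10, 1⟩, ⟨false, [], 6, 1⟩, ⟨false, [], 6, 1⟩,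
    ⟨false, [], 6, 1⟩])]

theorem okD4 : datD4.ok = true := by decide +kernel

/-- certificate, configuration Th -/
def datTh : Dat where
  T := T4
  M := matTh
  gs := [0x4080102004080102, 0x2010804002010804, 0x804020180402010, 0x220400810ff8001, 0x1004ff8002400801,
    0xff08102040020401, 0x76b9d9e66e9d9b67]
  nx := 7
  wx := [[], [0], [1], [0, 1], [2], [0, 2], [1, 2], [0, 1, 2]]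
  LM := [(1, [1, 3], [], 1), (2, [5, 3], [0], 1), (4, [3], [1], 1), (8, [0, 3], [0, 1], 1), (16, [0, 4], [2],
    1), (31, [5, 6, 1, 3], [6, 2, 5, 1, 4], 1), (32, [4], [0, 2], 1), (47, [0, 5, 6, 1, 3], [2, 6, 5, 1, 4],
    1), (55, [0, 3, 6, 4], [0, 6, 4, 1, 5, 6], 1), (59, [3, 6, 4], [2, 6, 4, 1, 5, 6], 1), (61, [2, 4, 6, 3],
    [6, 3, 0, 2, 5, 2], 1), (62, [5, 6, 5], [0, 6, 3, 0, 2, 5], 1), (64, [2, 3], [1, 2], 1), (79, [1, 5, 6, 1,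
    3], [6, 5, 1, 4], 1), (87, [6, 5, 6, 5], [0, 6, 5, 0, 2, 3], 1), (91, [3, 6, 2, 3], [6, 4, 1, 5, 0], 1),
    (93, [2, 6, 4, 6, 3], [6, 4, 5, 0, 4], 1), (94, [5, 6, 0, 3], [0, 6, 4, 1, 5], 1), (103, [6, 1, 3], [6],
    1), (107, [0, 4, 6, 4], [1, 6, 5, 1, 4, 6], 1), (109, [1, 4, 6, 4], [0, 6, 4, 2, 3, 5], 1), (110, [6, 0,
    3], [0, 1, 6], 1), (115, [5, 2, 4, 6, 3], [1, 6, 4, 1, 5, 6], 1), (117, [5, 3, 6, 4], [6, 2, 4, 5, 0, 4],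
    1), (118, [6, 5], [6, 2], 1), (121, [2, 4, 6, 4], [6, 3, 0, 1, 2, 4], 1), (122, [5, 1, 4, 6, 3], [1, 6, 4,
    1, 5], 1), (124, [1, 4, 6, 3], [6, 4, 0, 4, 5], 1), (128, [5], [0, 1, 2], 1), (143, [4, 3, 6, 2, 3], [6,
    5, 1, 4, 0], 1), (151, [4, 6, 4], [0, 6, 5, 1, 4, 6], 1), (155, [6, 5, 3], [0, 6], 1), (157, [6, 3], [1,
    6], 1), (158, [1, 0, 4, 6, 4], [6, 3, 5, 1, 2, 5], 1), (167, [0, 3, 6, 2, 3], [6, 4, 1, 5], 1), (171, [4,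
    3, 6, 3], [6, 2, 5, 0, 2, 3], 1), (173, [6, 3, 6, 4], [2, 6, 4, 1, 5], 1), (174, [1, 4, 3, 6, 3], [2, 6,
    5, 0, 2, 3], 1), (179, [2, 3, 6, 4], [6, 3, 5, 2, 4], 1), (181, [2, 3, 6, 2, 3], [6, 2, 4, 1, 5], 1),
    (182, [5, 2, 5, 6, 3], [6, 5, 1, 4, 6], 1), (185, [6, 2, 3], [0, 6, 2], 1), (186, [2, 4, 3, 6, 3], [0, 6,
    4, 5, 0, 4], 1), (188, [1, 0, 4, 6, 3], [1, 6, 3, 0, 2, 5], 1), (199, [2, 1, 4, 6, 3], [6, 3, 0, 3, 0, 4],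
    1), (203, [1, 5, 6, 5], [0, 6, 4, 0, 4, 5], 1), (205, [6, 3, 6, 2, 3], [6, 4, 1, 5, 0, 6], 1), (206, [1,
    3, 6, 4], [6, 4, 1, 5, 6], 1), (211, [4, 6, 3], [6, 3, 0, 2, 5], 1), (213, [6, 4, 6, 3], [2, 6, 4, 5, 0,
    4], 1), (214, [2, 1, 4, 6, 4], [6, 4, 2, 3, 5], 1), (217, [6, 4], [0, 2, 6], 1), (218, [0, 5, 3, 6, 3],
    [0, 6, 2, 4, 1, 5], 1), (220, [2, 6, 3, 6, 2, 3], [6, 4, 1, 4, 0, 4], 1), (227, [0, 4, 6, 3], [1, 6, 4, 0,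
    4, 5], 1), (229, [5, 3, 6, 3], [0, 1, 6, 4, 1, 5], 1), (230, [6, 0, 4], [2, 6], 1), (233, [6, 5, 6, 1, 3],
    [1, 6, 4, 2, 3, 5], 1), (234, [6, 0, 4, 6, 3], [6, 5, 0, 2, 3], 1), (236, [6, 5, 3, 6, 3], [0, 6, 3, 5, 2,
    4], 1), (241, [6, 4, 6, 4], [0, 6, 5, 1, 4], 1), (242, [4, 1, 5, 6, 3], [1, 6, 5, 1, 4], 1), (244, [6, 1,
    4, 6, 4], [6, 3, 4, 0, 5], 1), (248, [4, 0, 5, 6, 4], [0, 2, 6, 5, 1, 4], 1)]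
  good := [(1, 2, 4), (1, 2, 5), (1, 2, 6), (1, 2, 7), (1, 3, 4), (1, 3, 5), (1, 3, 6), (1, 3, 7), (1, 4, 2),
    (1, 4, 3), (1, 4, 6), (1, 4, 7), (1, 5, 2), (1, 5, 3), (1, 5, 6), (1, 5, 7), (1, 6, 2), (1, 6, 3), (1, 6,
    4), (1, 6, 5), (1, 7, 2), (1, 7, 3), (1, 7, 4), (1, 7, 5), (2, 1, 4), (2, 1, 5), (2, 1, 6), (2, 1, 7), (2,
    3, 4), (2, 3, 5), (2, 3, 6), (2, 3, 7), (2, 4, 1), (2, 4, 3), (2, 4, 5), (2, 4, 7), (2, 5, 1), (2, 5, 3),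
    (2, 5, 4), (2, 5, 6), (2, 6, 1), (2, 6, 3), (2, 6, 5), (2, 6, 7), (2, 7, 1), (2, 7, 3), (2, 7, 4), (2, 7,
    6), (3, 1, 4), (3, 1, 5), (3, 1, 6), (3, 1, 7), (3, 2, 4), (3, 2, 5), (3, 2, 6), (3, 2, 7), (3, 4, 1), (3,
    4, 2), (3, 4, 5), (3, 4, 6), (3, 5, 1), (3, 5, 2), (3, 5, 4), (3, 5, 7), (3, 6, 1), (3, 6, 2), (3, 6, 4),
    (3, 6, 7), (3, 7, 1), (3, 7, 2), (3, 7, 5), (3, 7, 6), (4, 1, 2), (4, 1, 3), (4, 1, 6), (4, 1, 7), (4, 2,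
    1), (4, 2, 3), (4, 2, 5), (4, 2, 7), (4, 3, 1), (4, 3, 2), (4, 3, 5), (4, 3, 6), (4, 5, 2), (4, 5, 3), (4,
    5, 6), (4, 5, 7), (4, 6, 1), (4, 6, 3), (4, 6, 5), (4, 6, 7), (4, 7, 1), (4, 7, 2), (4, 7, 5), (4, 7, 6),
    (5, 1, 2), (5, 1, 3), (5, 1, 6), (5, 1, 7), (5, 2, 1), (5, 2, 3), (5, 2, 4), (5, 2, 6), (5, 3, 1), (5, 3,
    2), (5, 3, 4), (5, 3, 7), (5, 4, 2), (5, 4, 3), (5, 4, 6), (5, 4, 7), (5, 6, 1), (5, 6, 2), (5, 6, 4), (5,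
    6, 7), (5, 7, 1), (5, 7, 3), (5, 7, 4), (5, 7, 6), (6, 1, 2), (6, 1, 3), (6, 1, 4), (6, 1, 5), (6, 2, 1),
    (6, 2, 3), (6, 2, 5), (6, 2, 7), (6, 3, 1), (6, 3, 2), (6, 3, 4), (6, 3, 7), (6, 4, 1), (6, 4, 3), (6, 4,
    5), (6, 4, 7), (6, 5, 1), (6, 5, 2), (6, 5, 4), (6, 5, 7), (6, 7, 2), (6, 7, 3), (6, 7, 4), (6, 7, 5), (7,
    1, 2), (7, 1, 3), (7, 1, 4), (7, 1, 5), (7, 2, 1), (7, 2, 3), (7, 2, 4), (7, 2, 6), (7, 3, 1), (7, 3, 2),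
    (7, 3, 5), (7, 3, 6), (7, 4, 1), (7, 4, 2), (7, 4, 5), (7, 4, 6), (7, 5, 1), (7, 5, 3), (7, 5, 4), (7, 5,
    6), (7, 6, 2), (7, 6, 3), (7, 6, 4), (7, 6, 5)]
  cert := [(1, [⟨true, [], 0, 0⟩, ⟨false, [], 6, 1⟩, ⟨false, [], 6, 1⟩, ⟨false, [], 6, 1⟩, ⟨false, [], 6, 1⟩,
    ⟨false, [], 6, 1⟩, ⟨false, [], 6, 1⟩, ⟨false, [], 10, 1⟩, ⟨false, [], 6, 1⟩, ⟨false, [], 10, 1⟩, ⟨false,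
    [], 6, 1⟩, ⟨false, [], 6, 1⟩, ⟨false, [], 6, 1⟩, ⟨false, [], 6, 1⟩, ⟨false, [], 6, 1⟩, ⟨true, [6, 4, 2, 6,
    4, 3, 6, 2, 4, 2], 0, 0⟩, ⟨false, [], 6, 1⟩, ⟨true, [4, 2, 6, 4, 3, 6, 2, 4, 2, 6], 0, 0⟩, ⟨false, [], 6,
    1⟩, ⟨false, [], 6, 1⟩, ⟨false, [], 6, 1⟩, ⟨false, [], 6, 1⟩, ⟨false, [], 10, 1⟩, ⟨false, [], 6, 1⟩,
    ⟨false, [], 10, 1⟩, ⟨false, [], 6, 1⟩, ⟨false, [], 6, 1⟩, ⟨false, [], 6, 1⟩, ⟨false, [], 6, 1⟩, ⟨true, [6,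
    4, 6, 1, 4, 2, 4, 6, 5, 2], 0, 0⟩, ⟨false, [], 6, 1⟩, ⟨false, [], 6, 1⟩, ⟨false, [], 6, 1⟩, ⟨false, [], 6,
    1⟩, ⟨false, [], 10, 1⟩, ⟨false, [], 6, 1⟩, ⟨false, [], 10, 1⟩, ⟨false, [], 6, 1⟩, ⟨false, [], 6, 1⟩,
    ⟨false, [], 6, 1⟩, ⟨true, [4, 2, 5, 3, 2, 1], 0, 0⟩, ⟨false, [], 6, 1⟩, ⟨false, [], 6, 1⟩, ⟨false, [], 6,
    1⟩, ⟨false, [], 6, 1⟩, ⟨false, [], 6, 1⟩, ⟨true, [3, 6, 5, 0, 4, 6, 1, 0, 4, 6], 0, 0⟩, ⟨false, [], 6, 1⟩,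
    ⟨false, [], 6, 1⟩, ⟨false, [], 6, 1⟩, ⟨false, [], 6, 1⟩, ⟨true, [2, 5, 6, 4, 2, 4, 6, 1, 4, 6], 0, 0⟩,
    ⟨false, [], 6, 1⟩, ⟨false, [], 10, 1⟩, ⟨false, [], 6, 1⟩, ⟨false, [], 6, 1⟩, ⟨false, [], 6, 1⟩, ⟨false,
    [], 6, 1⟩, ⟨true, [0, 5, 1, 4], 0, 0⟩, ⟨false, [], 6, 1⟩, ⟨false, [], 6, 1⟩, ⟨false, [], 6, 1⟩, ⟨false,
    [], 6, 1⟩, ⟨false, [], 10, 1⟩, ⟨false, [], 6, 1⟩, ⟨true, [4, 1, 3, 6, 4, 2, 6, 4, 3, 6, 0], 0, 0⟩, ⟨false,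
    [], 6, 1⟩, ⟨false, [], 6, 1⟩, ⟨false, [], 6, 1⟩, ⟨false, [], 10, 1⟩, ⟨false, [], 6, 1⟩, ⟨false, [], 6, 1⟩,
    ⟨false, [], 6, 1⟩, ⟨true, [4, 2, 1, 0, 3, 0], 0, 0⟩, ⟨false, [], 6, 1⟩, ⟨false, [], 6, 1⟩, ⟨false, [], 6,
    1⟩, ⟨false, [], 6, 1⟩, ⟨true, [6, 4, 3, 6, 2, 4, 6, 2, 4], 0, 0⟩, ⟨false, [], 6, 1⟩, ⟨false, [], 6, 1⟩,
    ⟨false, [], 6, 1⟩, ⟨false, [], 10, 1⟩, ⟨false, [], 6, 1⟩, ⟨false, [], 6, 1⟩, ⟨false, [], 6, 1⟩, ⟨false,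
    [], 10, 1⟩, ⟨false, [], 6, 1⟩, ⟨false, [], 6, 1⟩, ⟨false, [], 10, 1⟩, ⟨false, [], 6, 1⟩, ⟨false, [], 6,
    1⟩, ⟨false, [], 6, 1⟩, ⟨false, [], 6, 1⟩, ⟨false, [], 6, 1⟩, ⟨true, [4, 6, 4, 2, 6, 4, 3, 6, 2, 3, 0], 0,
    0⟩, ⟨false, [], 6, 1⟩, ⟨false, [], 6, 1⟩, ⟨false, [], 6, 1⟩, ⟨false, [], 10, 1⟩, ⟨true, [4, 2, 6, 4, 2, 6,
    4, 3, 6], 0, 0⟩, ⟨false, [], 6, 1⟩, ⟨false, [], 6, 1⟩, ⟨false, [], 6, 1⟩, ⟨false, [], 6, 1⟩, ⟨false, [],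
    6, 1⟩, ⟨false, [], 6, 1⟩, ⟨true, [2, 5, 2, 0, 3], 0, 0⟩, ⟨false, [], 6, 1⟩, ⟨false, [], 6, 1⟩, ⟨true, [6,
    4, 3, 6, 2, 4, 6, 1, 0, 3, 0], 0, 0⟩, ⟨false, [], 6, 1⟩, ⟨false, [], 10, 1⟩, ⟨false, [], 6, 1⟩, ⟨false,
    [], 6, 1⟩, ⟨false, [], 6, 1⟩, ⟨false, [], 6, 1⟩, ⟨false, [], 6, 1⟩, ⟨false, [], 6, 1⟩, ⟨false, [], 10, 1⟩,
    ⟨false, [], 6, 1⟩, ⟨false, [], 10, 1⟩, ⟨false, [], 6, 1⟩, ⟨false, [], 6, 1⟩, ⟨false, [], 10, 1⟩, ⟨false,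
    [], 6, 1⟩, ⟨false, [], 6, 1⟩, ⟨false, [], 6, 1⟩, ⟨false, [], 6, 1⟩, ⟨false, [], 10, 1⟩, ⟨false, [], 6, 1⟩,
    ⟨false, [], 6, 1⟩, ⟨false, [], 6, 1⟩, ⟨true, [3, 6, 4, 2, 6, 4, 3, 6, 3, 2], 0, 0⟩, ⟨false, [], 6, 1⟩,
    ⟨false, [], 6, 1⟩, ⟨true, [5, 6, 4, 3, 6, 2, 4, 6, 4, 3, 0], 0, 0⟩, ⟨false, [], 6, 1⟩, ⟨false, [], 6, 1⟩,
    ⟨false, [], 6, 1⟩, ⟨true, [4, 1, 5, 0], 0, 0⟩, ⟨false, [], 6, 1⟩, ⟨false, [], 6, 1⟩, ⟨false, [], 6, 1⟩,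
    ⟨false, [], 6, 1⟩, ⟨false, [], 6, 1⟩, ⟨true, [6, 4, 2, 6, 4, 3, 6, 1, 0, 3], 0, 0⟩, ⟨false, [], 6, 1⟩,
    ⟨false, [], 6, 1⟩, ⟨false, [], 6, 1⟩, ⟨false, [], 10, 1⟩, ⟨false, [], 6, 1⟩, ⟨false, [], 6, 1⟩, ⟨true, [2,
    3, 6, 4, 3, 6, 2, 4, 6, 3], 0, 0⟩, ⟨false, [], 6, 1⟩, ⟨false, [], 6, 1⟩, ⟨false, [], 6, 1⟩, ⟨false, [], 6,
    1⟩, ⟨false, [], 6, 1⟩, ⟨false, [], 10, 1⟩, ⟨false, [], 6, 1⟩, ⟨false, [], 6, 1⟩, ⟨false, [], 6, 1⟩, ⟨true,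
    [3, 2, 0, 5, 2], 0, 0⟩, ⟨false, [], 10, 1⟩, ⟨false, [], 6, 1⟩, ⟨false, [], 6, 1⟩, ⟨false, [], 6, 1⟩])]

theorem okTh : datTh.ok = true := by decide +kernel

end Cfsg.Agent.LargeExtra.Enum9.LastData
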