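import Cfsg.Agent.LargeExtra.Enum9.Relabel

/-!
# S1763, case II, type (B): level 1 (helper268)
-/

set_option autoImplicit false

namespace Cfsg.Agent.LargeExtra.Enum9

variable {V : Type*} [AddCommGroup V] [Module (ZMod 2) V]
variable {q : V → ZMod 2} {b : LinearMap.BilinForm (ZMod 2) V}
  {H : Subgroup (V ≃ₗ[ZMod 2] V)} {a : V} {X : Subgroup (V ≃ₗ[ZMod 2] V)}

/-- the order conditions -/
structure Ord (lo : ℕ) (m : ℕ → ℕ) : Prop where
  o2 : Nat.beq (Nat.land (Nat.shiftRight lo 8) 15) 1 = true → m 1 ≤ m 2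
  o3 : Nat.beq (Nat.land (Nat.shiftRight lo 12) 15) 2 = true → m 2 ≤ m 3
  o4 : Nat.beq (Nat.land (Nat.shiftRight lo 16) 15) 2 = true → m 2 ≤ m 4
  o5 : Nat.beq (Nat.land (Nat.shiftRight lo 20) 15) 4 = true → m 4 ≤ m 5
  o6 : Nat.beq (Nat.land (Nat.shiftRight lo 24) 15) 4 = true → m 4 ≤ m 6
  o7 : Nat.beq (Nat.land (Nat.shiftRight lo 28) 15) 4 = true → m 4 ≤ m 7

/-- the codes of the `y_k p` -/
structure Codes (T : Tab) (m : ℕ → ℕ) : Prop where
  lt : ∀ k, k < 8 → m k < 256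
  q : ∀ k, k < 8 → bt T.q (m k) = 0
  one : ∀ k, k < 8 → T.B (m k) 1 = 1
  par : ∀ k, k < 8 → par (m k) = bt T.gm k
  B : ∀ j, j < 8 → ∀ k, k < 8 → T.B (m j) (m k) = bt T.gm (Nat.xor j k)
  m7 : m 7 = Nat.xor 254 (Nat.xor (m 1) (Nat.xor (m 2) (Nat.xor (m 3) (Nat.xor (m 4)
    (Nat.xor (m 5) (m 6))))))

/-- the packed matrix -/
def pack (m : ℕ → ℕ) : ℕ :=
  Nat.add 255 (Nat.shiftLeft (Nat.add (m 1) (Nat.shiftLeft (Nat.add (m 2) (Nat.shiftLeft (Nat.add (m 3)
        (Nat.shiftLeft (Nat.add (m 4) (Nat.shiftLeft (Nat.add (m 5) (Nat.shiftLeft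
          (Nat.add (m 6) (Nat.shiftLeft (m 7) 8)) 8)) 8)) 8)) 8)) 8)) 8)

theorem bt_and {x y n : ℕ} (hx : bt x n = 1) (hy : bt y n = 1) : bt (Nat.land x y) n = 1 := by
  rw [bt_land, hx, hy]

theorem bt_cond {x n l : ℕ} {c : Bool} (hx : bt x n = 1) (h : c = true → l ≤ n) :
    bt (fc x fun m => bif c then clr m l else m) n = 1 := by
  rw [fc_eq]
  cases c
  · exact hx
  · exact bt_clr (h rfl) hx

theorem chk1_spec {T : Tab} (hT : T.okb = true) {S : List ℕ} {lo : ℕ} {m : ℕ → ℕ} {c : C5}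
    (hc : T.chk1 S lo (m 1) c = true) (hm : Codes T m) (ho : Ord lo m) :
    ∃ W, T.leaf S (pack m) W = true := by
  have hmsk : ∀ d j k, j < 8 → k < 8 → Nat.xor j k = d → bt (T.msk d (m j)) (m k) = 1 := by
    intro d j k hj hk he
    exact bt_msk hT (hm.lt j hj) (hm.lt k hk) (by rw [hm.B j hj k hk, he])
  have hbase : ∀ k, k < 8 → bt (T.base k) (m k) = 1 := fun k hk =>
    bt_base hT (hm.lt k hk) (hm.q k hk) (hm.one k hk) (hm.par k hk)
  rw [Tab.chk1] at hc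
  obtain ⟨c2, -, hc⟩ := zipF_spec _ _ _ hc (m 2)
    (bt_cond (bt_and (hbase 2 (by norm_num)) (hmsk 3 1 2 (by norm_num) (by norm_num) rfl)) ho.o2)
  obtain ⟨c3, -, hc⟩ := zipF_spec _ _ _ hc (m 3)
    (bt_cond (bt_and (hbase 3 (by norm_num)) (bt_and (hmsk 2 1 3 (by norm_num) (by norm_num) rfl)
      (hmsk 1 2 3 (by norm_num) (by norm_num) rfl))) ho.o3)
  obtain ⟨c4, -, hc⟩ := zipF_spec _ _ _ hc (m 4)
    (bt_cond (bt_and (hbase 4 (by norm_num)) (bt_and (hmsk 5 1 4 (by norm_num) (by norm_num) rfl)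
      (bt_and (hmsk 6 2 4 (by norm_num) (by norm_num) rfl)
      (hmsk 7 3 4 (by norm_num) (by norm_num) rfl)))) ho.o4)
  obtain ⟨c5, -, hc⟩ := zipF_spec _ _ _ hc (m 5)
    (bt_cond (bt_and (hbase 5 (by norm_num)) (bt_and (hmsk 4 1 5 (by norm_num) (by norm_num) rfl)
      (bt_and (hmsk 7 2 5 (by norm_num) (by norm_num) rfl)
      (bt_and (hmsk 6 3 5 (by norm_num) (by norm_num) rfl)
      (hmsk 1 4 5 (by norm_num) (by norm_num) rfl))))) ho.o5)
  obtain ⟨c6, -, hc⟩ := zipF_spec _ _ _ hc (m 6)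
    (bt_cond (bt_and (hbase 6 (by norm_num)) (bt_and (hmsk 7 1 6 (by norm_num) (by norm_num) rfl)
      (bt_and (hmsk 4 2 6 (by norm_num) (by norm_num) rfl)
      (bt_and (hmsk 5 3 6 (by norm_num) (by norm_num) rfl)
      (bt_and (hmsk 2 4 6 (by norm_num) (by norm_num) rfl)
      (hmsk 3 5 6 (by norm_num) (by norm_num) rfl)))))) ho.o6)
  rw [fc_eq, ← hm.m7, fc_eq, Bool.or_eq_true] at hc
  rcases hc with hc | hc
  · exfalso
    have h7 := ho.o7
    revert hc h7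
    generalize Nat.beq (Nat.land (Nat.shiftRight lo 28) 15) 4 = d
    intro hc h7
    cases d
    · exact absurd hc Bool.false_ne_true
    · have h1 := h7 rfl
      have h2 : Nat.blt (m 7) (m 4) = true := hc
      rw [Nat.blt_eq] at h2
      omega
  · exact ⟨_, hc⟩

theorem col_eq (M k : ℕ) : col M k = M / 2 ^ (8 * k) % 256 := by
  have h : (M >>> (8 * k)) &&& 255 = (M >>> (8 * k)) % 2 ^ 8 :=
    Nat.and_two_pow_sub_one_eq_mod _ 8
  show (M >>> (8 * k)) &&& 255 = _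
  rw [h, Nat.shiftRight_eq_div_pow]
  norm_num

theorem pack_aux {m1 m2 m3 m4 m5 m6 m7 : ℕ} (h1 : m1 < 256) (h2 : m2 < 256) (h3 : m3 < 256)
    (h4 : m4 < 256) (h5 : m5 < 256) (h6 : m6 < 256) (h7 : m7 < 256) {M : ℕ}
    (hM : M = 255 + (m1 + (m2 + (m3 + (m4 + (m5 + (m6 + m7 * 256) * 256) * 256) * 256) * 256) * 256) *
      256) : M / 1 % 256 = 255 ∧ M / 256 % 256 = m1 ∧ M / 65536 % 256 = m2 ∧
      M / 16777216 % 256 = m3 ∧ M / 4294967296 % 256 = m4 ∧ M / 1099511627776 % 256 = m5 ∧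
      M / 281474976710656 % 256 = m6 ∧ M / 72057594037927936 % 256 = m7 := by
  omega

theorem pack_eq (m : ℕ → ℕ) : pack m = 255 + (m 1 + (m 2 + (m 3 + (m 4 + (m 5 + (m 6 + m 7 * 256) *
    256) * 256) * 256) * 256) * 256) * 256 := by
  have h : ∀ x : ℕ, Nat.shiftLeft x 8 = x * 256 := fun x => Nat.shiftLeft_eq x 8
  unfold pack
  simp only [h, Nat.add_eq]

theorem col_pack {m : ℕ → ℕ} (h0 : m 0 = 255) (h : ∀ k, k < 8 → m k < 256) {k : ℕ} (hk : k < 8) :
    col (pack m) k = m k := by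
  have hp := pack_eq m
  have h1 := h 1 (by norm_num)
  have h2 := h 2 (by norm_num)
  have h3 := h 3 (by norm_num)
  have h4 := h 4 (by norm_num)
  have h5 := h 5 (by norm_num)
  have h6 := h 6 (by norm_num)
  have h7 := h 7 (by norm_num)
  obtain ⟨k0, k1, k2, k3, k4, k5, k6, k7⟩ := pack_aux h1 h2 h3 h4 h5 h6 h7 hp
  rw [col_eq]
  interval_cases k
  · rw [h0]; exact k0
  · exact k1
  · exact k2
  · exact k3
  · exact k4
  · exact k5
  · exact k6
  · exact k7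

/-- the codes of a second frame -/
theorem Lab.codes {T : Tab} {p r : V} {x y : ℕ → (V ≃ₗ[ZMod 2] V)} (L : Lab q b H a X T p r x)
    (L' : Lab q b H a X T r p y) : ∃ m : ℕ → ℕ, m 0 = 255 ∧ Codes T m ∧
      ∀ k, k < 8 → y k p = vec (fun k => x k r) (m k) := by
  have h : ∀ k, ∃ n, n < 256 ∧ vec (fun k => x k r) n = y k p := fun k => L.vec_surj _
  choose m hm1 hm2 using h
  have h0 : m 0 = 255 := by
    refine L.vec_inj (hm1 0) (by norm_num) ?_
    rw [hm2, L'.e_zero, L.vec_full]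
  have hsum : Nat.xor (m 7) (Nat.xor 254 (Nat.xor (m 1) (Nat.xor (m 2) (Nat.xor (m 3) (Nat.xor (m 4)
    (Nat.xor (m 5) (m 6))))))) = 0 := by
    have h254 : (254 : ℕ) = Nat.xor 255 1 := by decide
    refine L.vec_inj (xor_lt (hm1 7) (xor_lt (by norm_num) (xor_lt (hm1 1) (xor_lt (hm1 2)
      (xor_lt (hm1 3) (xor_lt (hm1 4) (xor_lt (hm1 5) (hm1 6)))))))) (by norm_num) ?_
    rw [h254]
    simp only [vec_xor, hm2, vec_zero, L.vec_one, L.vec_full]
    have h1 := L'.vec_full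
    have h2 : ∀ i, i < 8 → bt 255 i = 1 := by decide
    simp only [vec, h2 0 (by norm_num), h2 1 (by norm_num), h2 2 (by norm_num), h2 3 (by norm_num),
      h2 4 (by norm_num), h2 5 (by norm_num), h2 6 (by norm_num), h2 7 (by norm_num), one_smul,
      L'.e_zero] at h1
    have e : ∀ p y1 y2 y3 y4 y5 y6 y7 : V, y7 + (p + (p + (y1 + (y2 + (y3 + (y4 + (y5 + (y6 + y7))))))) +
        (y1 + (y2 + (y3 + (y4 + (y5 + y6)))))) = (p + p) + ((y1 + y1) + ((y2 + y2) + ((y3 + y3) +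
        ((y4 + y4) + ((y5 + y5) + ((y6 + y6) + (y7 + y7))))))) := by
      intros; abel
    have e2 := e p (y 1 p) (y 2 p) (y 3 p) (y 4 p) (y 5 p) (y 6 p) (y 7 p)
    rw [h1] at e2
    rw [e2]
    simp only [add_self]
  refine ⟨m, h0, ⟨fun k _ => hm1 k, ?_, ?_, ?_, ?_, ?_⟩, fun k _ => (hm2 k).symm⟩
  · intro k hk
    have h1 := L.q_vec (m k) (hm1 k)
    rw [hm2, q_Orb L.fam (Orb_map L.hp (L'.mem_H hk))] at h1
    exact Lab.nat_of_zmod (bt_cases _ _) (Or.inl rfl) (by rw [← h1]; rfl)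
  · intro k hk
    have h1 := L.b_vec (hm1 k) (m := 1) (by norm_num)
    rw [hm2, L.vec_one] at h1
    have h2 : b (y k p) r = 1 := by
      have h3 : y k r = r := by
        have h4 := L'.f_vec hk (n := 255) (by norm_num) p
        have h5 : px k 255 = 255 := by
          have : ∀ k, k < 8 → px k 255 = 255 := by decide +kernel
          exact this k hk
        rwa [h5, L'.vec_full] at h4
      have h4 := L.fam.b_H (L'.mem_H hk) p r
      rw [h3] at h4
      rw [h4]; exact L.bpr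
    exact Lab.nat_of_zmod (par_cases _) (Or.inr rfl) (by rw [← h1, h2]; rfl)
  · intro k hk
    have h1 := L.b_p_vec (hm1 k)
    rw [hm2, L'.gram k hk] at h1
    exact (Lab.nat_of_zmod (bt_cases _ _) (par_cases _) h1).symm
  · intro j hj k hk
    have h1 := L.b_vec (hm1 j) (hm1 k)
    rw [hm2, hm2, L'.b_basis hj hk] at h1
    exact (Lab.nat_of_zmod (bt_cases _ _) (par_cases _) h1).symm
  · exact Nat.xor_eq_zero_iff.1 hsum

/-! ### order conditions -/

/-- `A` is a list of automorphisms of `g`, closed under the moves used for the order conditions -/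
def autOk (T : Tab) (lo : ℕ) (A : List (ℕ × ℕ × ℕ)) : Bool :=
  (A.contains (1, 2, 4)) && A.all fun β => blOk β && ((allN 8 fun k => Nat.beq (bt T.gm (bl β k)) (bt T.gm k)) &&
    ((!(Nat.beq (Nat.land (Nat.shiftRight lo 8) 15) 1) || A.any fun γ => Nat.beq γ.1 (bl β 2)) &&
    ((!(Nat.beq (Nat.land (Nat.shiftRight lo 12) 15) 2) || A.any fun γ => Nat.beq γ.1 (bl β 1) &&
      Nat.beq γ.2.1 (bl β 3)) &&
    ((!(Nat.beq (Nat.land (Nat.shiftRight lo 16) 15) 2) || A.any fun γ => Nat.beq γ.1 (bl β 1) &&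
      Nat.beq γ.2.1 (bl β 4)) &&
    ((!(Nat.beq (Nat.land (Nat.shiftRight lo 20) 15) 4) || A.any fun γ => Nat.beq γ.1 (bl β 1) &&
      (Nat.beq γ.2.1 (bl β 2) && Nat.beq γ.2.2 (bl β 5))) &&
    ((!(Nat.beq (Nat.land (Nat.shiftRight lo 24) 15) 4) || A.any fun γ => Nat.beq γ.1 (bl β 1) &&
      (Nat.beq γ.2.1 (bl β 2) && Nat.beq γ.2.2 (bl β 6))) &&
    (!(Nat.beq (Nat.land (Nat.shiftRight lo 28) 15) 4) || A.any fun γ => Nat.beq γ.1 (bl β 1) &&
      (Nat.beq γ.2.1 (bl β 2) && Nat.beq γ.2.2 (bl β 7)))))))))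

theorem exists_min {α : Type*} (A : List α) (hA : A ≠ []) (K : α → ℕ) :
    ∃ β ∈ A, ∀ γ ∈ A, K β ≤ K γ := by
  induction A with
  | nil => exact absurd rfl hA
  | cons x A ih =>
    by_cases h : A = []
    · subst h
      exact ⟨x, List.mem_cons_self, fun γ hγ => by
        rw [List.mem_singleton.1 hγ]⟩
    · obtain ⟨β, h1, h2⟩ := ih h
      rcases le_total (K x) (K β) with h3 | h3
      · refine ⟨x, List.mem_cons_self, fun γ hγ => ?_⟩
        rcases List.mem_cons.1 hγ with rfl | h4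
        · exact le_rfl
        · exact h3.trans (h2 γ h4)
      · refine ⟨β, List.mem_cons_of_mem _ h1, fun γ hγ => ?_⟩
        rcases List.mem_cons.1 hγ with rfl | h4
        · exact h3
        · exact h2 γ h4

theorem exists_ord {T : Tab} {lo : ℕ} {A : List (ℕ × ℕ × ℕ)} (hA : autOk T lo A = true) {m : ℕ → ℕ}
    (hm : ∀ k, k < 8 → m k < 256) : ∃ β ∈ A, Ord lo (fun k => m (bl β k)) := by
  rw [autOk, Bool.and_eq_true] at hA
  have hne : A ≠ [] := by
    rintro rfl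
    exact absurd hA.1 (by decide)
  obtain ⟨β, hβ, hmin⟩ := exists_min A hne (fun β => m β.1 * 65536 + m β.2.1 * 256 + m β.2.2)
  have hall := List.all_eq_true.1 hA.2
  have h1 := hall β hβ
  simp only [Bool.and_eq_true, Bool.or_eq_true, Bool.not_eq_true', List.any_eq_true] at h1
  obtain ⟨hbl, -, c2, c3, c4, c5, c6, c7⟩ := h1
  have e1 : bl β 1 = β.1 := by
    simp only [bl, show bt 1 0 = 1 from rfl, show bt 1 1 = 0 from rfl, show bt 1 2 = 0 from rfl,
      show ∀ x : ℕ, Nat.mul 1 x = x from Nat.one_mul, show ∀ x : ℕ, Nat.mul 0 x = 0 from Nat.zero_mul]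
    exact Nat.xor_zero _
  have e2 : bl β 2 = β.2.1 := by
    simp only [bl, show bt 2 0 = 0 from rfl, show bt 2 1 = 1 from rfl, show bt 2 2 = 0 from rfl,
      show ∀ x : ℕ, Nat.mul 1 x = x from Nat.one_mul, show ∀ x : ℕ, Nat.mul 0 x = 0 from Nat.zero_mul]
    show 0 ^^^ (β.2.1 ^^^ 0) = β.2.1
    rw [Nat.xor_zero, Nat.zero_xor]
  have e4 : bl β 4 = β.2.2 := by
    simp only [bl, show bt 4 0 = 0 from rfl, show bt 4 1 = 0 from rfl, show bt 4 2 = 1 from rfl,
      show ∀ x : ℕ, Nat.mul 1 x = x from Nat.one_mul, show ∀ x : ℕ, Nat.mul 0 x = 0 from Nat.zero_mul]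
    show 0 ^^^ (0 ^^^ β.2.2) = β.2.2
    rw [Nat.zero_xor, Nat.zero_xor]
  have hlt : ∀ γ ∈ A, m γ.1 < 256 ∧ m γ.2.1 < 256 ∧ m γ.2.2 < 256 := by
    intro γ hγ
    have h2 := hall γ hγ
    simp only [Bool.and_eq_true] at h2
    have f1 : bl γ 1 = γ.1 := by
      simp only [bl, show bt 1 0 = 1 from rfl, show bt 1 1 = 0 from rfl, show bt 1 2 = 0 from rfl,
        show ∀ x : ℕ, Nat.mul 1 x = x from Nat.one_mul, show ∀ x : ℕ, Nat.mul 0 x = 0 from Nat.zero_mul]
      exact Nat.xor_zero _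
    have f2 : bl γ 2 = γ.2.1 := by
      simp only [bl, show bt 2 0 = 0 from rfl, show bt 2 1 = 1 from rfl, show bt 2 2 = 0 from rfl,
        show ∀ x : ℕ, Nat.mul 1 x = x from Nat.one_mul, show ∀ x : ℕ, Nat.mul 0 x = 0 from Nat.zero_mul]
      show 0 ^^^ (γ.2.1 ^^^ 0) = γ.2.1
      rw [Nat.xor_zero, Nat.zero_xor]
    have f4 : bl γ 4 = γ.2.2 := by
      simp only [bl, show bt 4 0 = 0 from rfl, show bt 4 1 = 0 from rfl, show bt 4 2 = 1 from rfl,
        show ∀ x : ℕ, Nat.mul 1 x = x from Nat.one_mul, show ∀ x : ℕ, Nat.mul 0 x = 0 from Nat.zero_mul]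
      show 0 ^^^ (0 ^^^ γ.2.2) = γ.2.2
      rw [Nat.zero_xor, Nat.zero_xor]
    have g1 := blOk_lt h2.1 (k := 1) (by norm_num)
    have g2 := blOk_lt h2.1 (k := 2) (by norm_num)
    have g4 := blOk_lt h2.1 (k := 4) (by norm_num)
    rw [f1] at g1; rw [f2] at g2; rw [f4] at g4
    exact ⟨hm _ g1, hm _ g2, hm _ g4⟩
  have hb := hlt β hβ
  refine ⟨β, hβ, ?_, ?_, ?_, ?_, ?_, ?_⟩
  · intro h
    rcases c2 with c | ⟨γ, hγ, g1⟩
    · rw [h] at c; exact absurd c (by decide)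
    · have := hmin γ hγ
      have hl := hlt γ hγ
      rw [Nat.eq_of_beq_eq_true g1] at this hl
      show m (bl β 1) ≤ m (bl β 2)
      rw [e1]
      omega
  · intro h
    rcases c3 with c | ⟨γ, hγ, g1, g2⟩
    · rw [h] at c; exact absurd c (by decide)
    · have := hmin γ hγ
      have hl := hlt γ hγ
      rw [Nat.eq_of_beq_eq_true g1, Nat.eq_of_beq_eq_true g2] at this hl
      rw [e1] at this
      show m (bl β 2) ≤ m (bl β 3)
      rw [e2]
      omega
  · intro h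
    rcases c4 with c | ⟨γ, hγ, g1, g2⟩
    · rw [h] at c; exact absurd c (by decide)
    · have := hmin γ hγ
      have hl := hlt γ hγ
      rw [Nat.eq_of_beq_eq_true g1, Nat.eq_of_beq_eq_true g2] at this hl
      rw [e1] at this
      show m (bl β 2) ≤ m (bl β 4)
      rw [e2]
      omega
  · intro h
    rcases c5 with c | ⟨γ, hγ, g1, g2, g3⟩
    · rw [h] at c; exact absurd c (by decide)
    · have := hmin γ hγ
      have hl := hlt γ hγ
      rw [Nat.eq_of_beq_eq_true g1, Nat.eq_of_beq_eq_true g2, Nat.eq_of_beq_eq_true g3] at this hl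
      rw [e1, e2] at this
      show m (bl β 4) ≤ m (bl β 5)
      rw [e4]
      omega
  · intro h
    rcases c6 with c | ⟨γ, hγ, g1, g2, g3⟩
    · rw [h] at c; exact absurd c (by decide)
    · have := hmin γ hγ
      have hl := hlt γ hγ
      rw [Nat.eq_of_beq_eq_true g1, Nat.eq_of_beq_eq_true g2, Nat.eq_of_beq_eq_true g3] at this hl
      rw [e1, e2] at this
      show m (bl β 4) ≤ m (bl β 6)
      rw [e4]
      omega
  · intro h
    rcases c7 with c | ⟨γ, hγ, g1, g2, g3⟩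
    · rw [h] at c; exact absurd c (by decide)
    · have := hmin γ hγ
      have hl := hlt γ hγ
      rw [Nat.eq_of_beq_eq_true g1, Nat.eq_of_beq_eq_true g2, Nat.eq_of_beq_eq_true g3] at this hl
      rw [e1, e2] at this
      show m (bl β 4) ≤ m (bl β 7)
      rw [e4]
      omega

/-- LEVEL 1: the second numbering can be chosen with a matrix in the list of survivors. -/
theorem level1 {T : Tab} {S : List ℕ} {lo : ℕ} {A : List (ℕ × ℕ × ℕ)} (hA : autOk T lo A = true)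
    (hchk : ∀ m1, bt (T.base 1) m1 = 1 → ∃ c, T.chk1 S lo m1 c = true) {p r : V}
    {x : ℕ → (V ≃ₗ[ZMod 2] V)} (L : Lab q b H a X T p r x) :
    ∃ y M, M ∈ S ∧ Lab q b H a X T r p y ∧
      ∀ k, k < 8 → y k p = vec (fun k => x k r) (col M k) := by
  obtain ⟨y0, L0⟩ := L.conj L.hr L.hp (by rw [L.fam.b_comm]; exact L.bpr)
  obtain ⟨m0, -, hm0, hmk0⟩ := L.codes L0
  obtain ⟨β, hβ, hord⟩ := exists_ord hA hm0.lt
  have hA' := hA
  rw [autOk, Bool.and_eq_true] at hA'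
  have h1 := List.all_eq_true.1 hA'.2 β hβ
  rw [Bool.and_eq_true, Bool.and_eq_true] at h1
  have L1 : Lab q b H a X T r p (fun k => y0 (bl β k)) := L0.relabel h1.1 fun k hk =>
    Nat.eq_of_beq_eq_true (allN_apply h1.2.1 hk)
  obtain ⟨m, h0, hm, hmk⟩ := L.codes L1
  have hmm : ∀ k, k < 8 → m k = m0 (bl β k) := by
    intro k hk
    refine L.vec_inj (hm.lt k hk) (hm0.lt _ (blOk_lt h1.1 hk)) ?_
    rw [← hmk k hk, ← hmk0 _ (blOk_lt h1.1 hk)]
  have ho : Ord lo m := by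
    refine ⟨fun h => ?_, fun h => ?_, fun h => ?_, fun h => ?_, fun h => ?_, fun h => ?_⟩
    · rw [hmm 1 (by norm_num), hmm 2 (by norm_num)]; exact hord.o2 h
    · rw [hmm 2 (by norm_num), hmm 3 (by norm_num)]; exact hord.o3 h
    · rw [hmm 2 (by norm_num), hmm 4 (by norm_num)]; exact hord.o4 h
    · rw [hmm 4 (by norm_num), hmm 5 (by norm_num)]; exact hord.o5 h
    · rw [hmm 4 (by norm_num), hmm 6 (by norm_num)]; exact hord.o6 h
    · rw [hmm 4 (by norm_num), hmm 7 (by norm_num)]; exact hord.o7 h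
  obtain ⟨c, hc⟩ := hchk (m 1) (bt_base L.ok (hm.lt 1 (by norm_num)) (hm.q 1 (by norm_num))
    (hm.one 1 (by norm_num)) (hm.par 1 (by norm_num)))
  obtain ⟨W, hW⟩ := chk1_spec L.ok hc hm ho
  have hMk : ∀ k, k < 8 → y0 (bl β k) p = vec (fun k => x k r) (col (pack m) k) := by
    intro k hk
    rw [col_pack h0 hm.lt hk]
    exact hmk k hk
  refine ⟨fun k => y0 (bl β k), pack m, ?_, L1, hMk⟩
  rw [Tab.leaf] at hW
  by_cases h2 : Nat.beq W 1 = true
  · rw [h2, cond_true, List.any_eq_true] at hW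
    obtain ⟨M', h3, h4⟩ := hW
    rw [Nat.eq_of_beq_eq_true h4]
    exact h3
  · rw [Bool.eq_false_iff.2 h2, cond_false] at hW
    exact (conf_false L L1 hMk hW).elim

end Cfsg.Agent.LargeExtra.Enum9
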