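import Cfsg.Agent.LargeExtra.Enum9.Surv

/-!
# S1763, case II, type (B): level 2, the checker and its soundness (helper268)
-/

set_option autoImplicit false

namespace Cfsg.Agent.LargeExtra.Enum9

/-- choice of one of three -/
def sel3 (i a b c : ℕ) : ℕ := bif Nat.beq i 0 then a else bif Nat.beq i 1 then b else c

/-- one letter `8 i + j`: element `j` of group `i` -/
def Tab.lt3 (T : Tab) (M0 M1 M2 l t : ℕ) : ℕ :=
  T.act (sel3 (Nat.shiftRight l 3) M0 M1 M2) (Nat.land l 7) t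

/-- a word of at most `f` letters (base 32 digits, applied from the lowest) -/
def Tab.evw3 (T : Tab) (M0 M1 M2 : ℕ) : ℕ → ℕ → ℕ → ℕ
  | 0, _, t => t
  | Nat.succ f, w, t => bif Nat.beq w 0 then t else
      fc (T.lt3 M0 M1 M2 (Nat.land w 31) t) fun s => T.evw3 M0 M1 M2 f (Nat.shiftRight w 5) s

/-- `W` is a contradiction for the three groups `M0 M1 M2` at the points `255`, `1`, `v` -/
def Tab.conf3 (T : Tab) (M0 M1 M2 v W : ℕ) : Bool :=
  fc (Nat.land W 255) fun t => fc (Nat.land (Nat.shiftRight W 8) 7) fun k =>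
  fc (Nat.land (Nat.shiftRight W 11) 3) fun p => fc (Nat.land (Nat.shiftRight W 13) 3) fun p' =>
  fc (Nat.shiftRight W 15) fun w =>
  Nat.beq (T.evw3 M0 M1 M2 4 w (sel3 p 255 1 v)) (sel3 p' 255 1 v) &&
  fc (T.evw3 M0 M1 M2 4 w t) fun s1 =>
  fc (T.evw3 M0 M1 M2 4 w (T.act (sel3 p M0 M1 M2) k t)) fun s2 =>
  not (Nat.beq (orb (T.crd (sel3 p' M0 M1 M2) s1)) (orb (T.crd (sel3 p' M0 M1 M2) s2)))

/-- the identity matrix -/
def idM : ℕ := 0x8040201008040201

/-- for all `M' ∈ S` the triple `(M, v, M')` is contradictory or `M' ∈ E` -/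
def Tab.dead (T : Tab) (M v : ℕ) (E : List ℕ) : List ℕ → List (ℕ × ℕ) → Bool
  | [], _ => true
  | _ :: _, [] => false
  | M' :: S, (N, W) :: c => (E.any (Nat.beq M') ||
      ((allN 8 fun k => Nat.beq (col N k) (conv (col M' k) v)) && T.conf3 idM M N v W)) &&
      T.dead M v E S c

theorem idM_col : ∀ k, k < 8 → col idM k = Nat.shiftLeft 1 k := by decide +kernel

variable {V : Type*} [AddCommGroup V] [Module (ZMod 2) V]
variable {q : V → ZMod 2} {b : LinearMap.BilinForm (ZMod 2) V}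
  {H : Subgroup (V ≃ₗ[ZMod 2] V)} {a : V} {X : Subgroup (V ≃ₗ[ZMod 2] V)}

/-- a group `X_P` with matrix `M` in the frame `e` -/
structure Grp (q : V → ZMod 2) (b : LinearMap.BilinForm (ZMod 2) V)
    (H : Subgroup (V ≃ₗ[ZMod 2] V)) (a : V) (X : Subgroup (V ≃ₗ[ZMod 2] V)) (T : Tab)
    (e : ℕ → V) (M P : ℕ) : Prop where
  lt : P < 256
  ex : ∃ r f, Lab q b H a X T (vec e P) r f ∧ ∀ k, k < 8 → f k r = vec e (col M k)

section words

variable {T : Tab} {p r : V} {x : ℕ → (V ≃ₗ[ZMod 2] V)} {M0 M1 M2 v : ℕ}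

theorem Lab.grp (L : Lab q b H a X T p r x) : Grp q b H a X T (fun k => x k r) idM 255 := by
  refine ⟨by norm_num, r, x, ?_, fun k hk => ?_⟩
  · rw [L.vec_full]; exact L
  · rw [idM_col k hk]
    exact (vec_two_pow (fun k => x k r) hk).symm

/-- three groups -/
structure Three (q : V → ZMod 2) (b : LinearMap.BilinForm (ZMod 2) V)
    (H : Subgroup (V ≃ₗ[ZMod 2] V)) (a : V) (X : Subgroup (V ≃ₗ[ZMod 2] V)) (T : Tab)
    (e : ℕ → V) (M0 M1 M2 v : ℕ) : Prop where
  g0 : Grp q b H a X T e M0 255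
  g1 : Grp q b H a X T e M1 1
  g2 : Grp q b H a X T e M2 v

theorem Three.sel {e : ℕ → V} (h : Three q b H a X T e M0 M1 M2 v) (i : ℕ) :
    Grp q b H a X T e (sel3 i M0 M1 M2) (sel3 i 255 1 v) := by
  rw [sel3, sel3]
  cases Nat.beq i 0
  · cases Nat.beq i 1
    · exact h.g2
    · exact h.g1
  · exact h.g0

theorem land_seven_lt (n : ℕ) : Nat.land n 7 < 8 :=
  lt_of_le_of_lt (Nat.and_le_right (n := n) (m := 7)) (by norm_num)

theorem lt3_spec (L : Lab q b H a X T p r x) (h : Three q b H a X T (fun k => x k r) M0 M1 M2 v)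
    (l : ℕ) : ∃ U ∈ H, ∀ t, t < 256 →
      U (vec (fun k => x k r) t) = vec (fun k => x k r) (T.lt3 M0 M1 M2 l t) ∧
      T.lt3 M0 M1 M2 l t < 256 := by
  obtain ⟨-, s, f, L', hM⟩ := h.sel (Nat.shiftRight l 3)
  exact ⟨f (Nat.land l 7), L'.mem_H (land_seven_lt l), fun t ht =>
    ⟨L.act_spec L' hM (land_seven_lt l) ht, Lab.act_lt _ _ _ _⟩⟩

theorem evw3_spec (L : Lab q b H a X T p r x) (h : Three q b H a X T (fun k => x k r) M0 M1 M2 v)
    (f : ℕ) : ∀ w : ℕ, ∃ U ∈ H, ∀ t, t < 256 →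
      U (vec (fun k => x k r) t) = vec (fun k => x k r) (T.evw3 M0 M1 M2 f w t) ∧
      T.evw3 M0 M1 M2 f w t < 256 := by
  induction f with
  | zero => exact fun w => ⟨1, H.one_mem, fun t ht => ⟨rfl, ht⟩⟩
  | succ f ih =>
    intro w
    by_cases hw : Nat.beq w 0 = true
    · refine ⟨1, H.one_mem, fun t ht => ?_⟩
      have e : T.evw3 M0 M1 M2 (f + 1) w t = t := by
        show (bif Nat.beq w 0 then t else _) = t
        rw [hw]; rfl
      rw [e]; exact ⟨rfl, ht⟩
    · have hw' : Nat.beq w 0 = false := Bool.eq_false_iff.2 hw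
      obtain ⟨U1, hU1, h1⟩ := lt3_spec L h (Nat.land w 31)
      obtain ⟨U2, hU2, h2⟩ := ih (Nat.shiftRight w 5)
      refine ⟨U2 * U1, H.mul_mem hU2 hU1, fun t ht => ?_⟩
      have e : T.evw3 M0 M1 M2 (f + 1) w t = T.evw3 M0 M1 M2 f (Nat.shiftRight w 5)
          (T.lt3 M0 M1 M2 (Nat.land w 31) t) := by
        show (bif Nat.beq w 0 then t else fc (T.lt3 M0 M1 M2 (Nat.land w 31) t) fun s =>
          T.evw3 M0 M1 M2 f (Nat.shiftRight w 5) s) = _
        rw [hw', fc_eq]; rfl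
      obtain ⟨k1, k2⟩ := h1 t ht
      obtain ⟨k3, k4⟩ := h2 _ k2
      rw [e]
      refine ⟨?_, k4⟩
      show U2 (U1 _) = _
      rw [k1, k3]

theorem conf3_false (L : Lab q b H a X T p r x)
    (h3 : Three q b H a X T (fun k => x k r) M0 M1 M2 v) {W : ℕ}
    (h : T.conf3 M0 M1 M2 v W = true) : False := by
  rw [Tab.conf3] at h
  simp only [fc_eq] at h
  have ht : Nat.land W 255 < 256 :=
    lt_of_le_of_lt (Nat.and_le_right (n := W) (m := 255)) (by norm_num)
  have hk : Nat.land (Nat.shiftRight W 8) 7 < 8 := land_seven_lt _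
  revert h ht hk
  generalize Nat.land W 255 = t, Nat.land (Nat.shiftRight W 8) 7 = k,
    Nat.land (Nat.shiftRight W 11) 3 = p0, Nat.land (Nat.shiftRight W 13) 3 = p1,
    Nat.shiftRight W 15 = w
  intro h ht hk
  rw [Bool.and_eq_true] at h
  obtain ⟨h1, h2⟩ := h
  have h1 := Nat.eq_of_beq_eq_true h1
  obtain ⟨U, hU, hw⟩ := evw3_spec L h3 4 w
  obtain ⟨hlt, s, f1, L1, hM1⟩ := h3.sel p0
  obtain ⟨hlt', s', f2, L2, hM2⟩ := h3.sel p1
  have hUP : U (vec (fun k => x k r) (sel3 p0 255 1 v)) =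
      vec (fun k => x k r) (sel3 p1 255 1 v) := by
    rw [(hw _ hlt).1, h1]
  have a1 := L.act_spec L1 hM1 hk ht
  have a2 := Lab.act_lt T (sel3 p0 M0 M1 M2) k t
  obtain ⟨b1, b2⟩ := hw t ht
  obtain ⟨c1, c2⟩ := hw _ a2
  have d1 := L.crd_spec L2 hM2 b2
  have e1 := L.crd_spec L2 hM2 c2
  have h4 := clash L1.toPLab L2.toPLab hU hUP hk (v := vec (fun k => x k r) t)
    (Lab.crd_lt _ _ _) (Lab.crd_lt _ _ _) (by rw [b1, d1]) (by rw [a1, c1, e1])
  rw [h4] at h2
  revert h2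
  generalize orb _ = s
  intro h2
  rw [Nat.beq_refl] at h2
  exact absurd h2 (by decide)

end words

/-- the same numbering with another reference vector -/
theorem Lab.reref {T : Tab} {p r r' : V} {x : ℕ → (V ≃ₗ[ZMod 2] V)} (L : Lab q b H a X T p r x)
    (hr' : r' ∈ Orb H a) (hb : b p r' = 1) : Lab q b H a X T p r' x := by
  refine { fam := L.fam, hp := L.hp, hr := hr', bpr := hb, mem := L.mem, surj := L.surj,
           mul := L.mul, norm := L.norm, ok := L.ok, gram := ?_ }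
  intro k hk
  obtain ⟨n, hn, hv⟩ := L.vec_surj r'
  have h2 : (par n : ZMod 2) = 1 := by
    rw [← L.b_p_vec hn, hv]; exact hb
  have h3 : par n = 1 := by
    rcases par_cases n with h4 | h4
    · rw [h4] at h2; exact absurd h2 (by decide)
    · exact h4
  rw [← hv, L.f_vec hk hn, L.b_vec hn (px_lt hk hn), Tab.B_px L.ok hn hk, h3, mul_one]

/-- a pair of opposite points with the matrix `M` -/
structure PairM (q : V → ZMod 2) (b : LinearMap.BilinForm (ZMod 2) V)
    (H : Subgroup (V ≃ₗ[ZMod 2] V)) (a : V) (X : Subgroup (V ≃ₗ[ZMod 2] V)) (T : Tab) (M : ℕ)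
    (r : V) (x y : ℕ → (V ≃ₗ[ZMod 2] V)) : Prop where
  L : Lab q b H a X T a r x
  L' : Lab q b H a X T r a y
  hM : ∀ k, k < 8 → y k a = vec (fun k => x k r) (col M k)

namespace PairM

variable {T : Tab} {M : ℕ} {r : V} {x y : ℕ → (V ≃ₗ[ZMod 2] V)}

/-- level 1 applied to the third point -/
theorem third {S : List ℕ} (P : PairM q b H a X T M r x y)
    (hS : ∀ {p r : V} {x : ℕ → (V ≃ₗ[ZMod 2] V)}, Lab q b H a X T p r x →
      ∃ y M, M ∈ S ∧ Lab q b H a X T r p y ∧ ∀ k, k < 8 → y k p = vec (fun k => x k r) (col M k))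
    {v : ℕ} (hv : v < 256) (hpar : par v = 1) (hO : vec (fun k => x k r) v ∈ Orb H a) :
    ∃ M' z, M' ∈ S ∧ PairM q b H a X T M' (vec (fun k => x k r) v) x z ∧
      ∀ k, k < 8 → z k a = vec (fun k => x k r) (conv (col M' k) v) := by
  have hb : b a (vec (fun k => x k r) v) = 1 := by
    rw [P.L.b_p_vec hv, hpar]; rfl
  have L1 := P.L.reref hO hb
  obtain ⟨z, M', hM', L2, hz⟩ := hS L1
  refine ⟨M', z, hM', ⟨L1, L2, hz⟩, fun k hk => ?_⟩
  rw [hz k hk]
  exact P.L.conv_vec (col M' k) hv r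

theorem grp0 (P : PairM q b H a X T M r x y) : Grp q b H a X T (fun k => x k r) idM 255 := P.L.grp

theorem grp1 (P : PairM q b H a X T M r x y) : Grp q b H a X T (fun k => x k r) M 1 :=
  ⟨by norm_num, a, y, by rw [P.L.vec_one]; exact P.L', P.hM⟩

theorem three (P : PairM q b H a X T M r x y) {v : ℕ} (hv : v < 256) {M' N : ℕ}
    {z : ℕ → (V ≃ₗ[ZMod 2] V)} (P' : PairM q b H a X T M' (vec (fun k => x k r) v) x z)
    (hN : ∀ k, k < 8 → z k a = vec (fun k => x k r) (col N k)) :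
    Three q b H a X T (fun k => x k r) idM M N v :=
  ⟨P.grp0, P.grp1, ⟨hv, a, z, P'.L', hN⟩⟩

theorem dead_spec (P : PairM q b H a X T M r x y) {v : ℕ} (hv : v < 256) {E : List ℕ} :
    ∀ {S : List ℕ} {c : List (ℕ × ℕ)}, T.dead M v E S c = true → ∀ {M' : ℕ}, M' ∈ S →
    ∀ {z : ℕ → (V ≃ₗ[ZMod 2] V)}, PairM q b H a X T M' (vec (fun k => x k r) v) x z →
    (∀ k, k < 8 → z k a = vec (fun k => x k r) (conv (col M' k) v)) → M' ∈ E := by
  intro S
  induction S with
  | nil => intro c _ M' hM'; exact absurd hM' (List.not_mem_nil)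
  | cons M1 S ih =>
    intro c hc M' hM' z P' hz
    cases c with
    | nil => exact absurd hc (by simp [Tab.dead])
    | cons w c =>
      obtain ⟨N, W⟩ := w
      rw [Tab.dead, Bool.and_eq_true, Bool.or_eq_true, Bool.and_eq_true] at hc
      rcases List.mem_cons.1 hM' with h | h
      · subst h
        rcases hc.1 with h1 | ⟨h1, h2⟩
        · rw [List.any_eq_true] at h1
          obtain ⟨M2, h3, h4⟩ := h1
          rw [Nat.eq_of_beq_eq_true h4]; exact h3
        · exfalso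
          refine conf3_false P.L (P.three hv P' (N := N) fun k hk => ?_) h2
          rw [hz k hk, Nat.eq_of_beq_eq_true (allN_apply h1 hk)]
      · exact ih hc.2 h P' hz

end PairM

end Cfsg.Agent.LargeExtra.Enum9
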