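import Cfsg.Agent.LargeExtra.Enum9.Sound

/-!
# S1763, case II, type (B): renumbering of `X_p` (helper268)
-/

set_option autoImplicit false

namespace Cfsg.Agent.LargeExtra.Enum9

variable {V : Type*} [AddCommGroup V] [Module (ZMod 2) V]
variable {q : V → ZMod 2} {b : LinearMap.BilinForm (ZMod 2) V}
  {H : Subgroup (V ≃ₗ[ZMod 2] V)} {a : V} {X : Subgroup (V ≃ₗ[ZMod 2] V)}

/-- the linear map with images `β.1`, `β.2.1`, `β.2.2` of `1`, `2`, `4` -/
def bl (β : ℕ × ℕ × ℕ) (k : ℕ) : ℕ :=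
  Nat.xor (Nat.mul (bt k 0) β.1) (Nat.xor (Nat.mul (bt k 1) β.2.1) (Nat.mul (bt k 2) β.2.2))

/-- `bl β` is a linear bijection of the numbers below 8 -/
def blOk (β : ℕ × ℕ × ℕ) : Bool :=
  (allN 8 fun k => Nat.blt (bl β k) 8) &&
  ((allN 8 fun j => allN 8 fun k => Nat.beq (bl β (Nat.xor j k)) (Nat.xor (bl β j) (bl β k))) &&
  (allN 8 fun k => !(allN 8 fun j => !(Nat.beq (bl β j) k))))

/-- the composition `bl (comp β γ) = bl β ∘ bl γ` -/
def comp (β γ : ℕ × ℕ × ℕ) : ℕ × ℕ × ℕ := (bl β γ.1, bl β γ.2.1, bl β γ.2.2)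

theorem blOk_lt {β : ℕ × ℕ × ℕ} (h : blOk β = true) {k : ℕ} (hk : k < 8) : bl β k < 8 := by
  rw [blOk, Bool.and_eq_true] at h
  have := allN_apply h.1 hk
  rwa [Nat.blt_eq] at this

theorem blOk_add {β : ℕ × ℕ × ℕ} (h : blOk β = true) {j k : ℕ} (hj : j < 8) (hk : k < 8) :
    bl β (Nat.xor j k) = Nat.xor (bl β j) (bl β k) := by
  rw [blOk, Bool.and_eq_true, Bool.and_eq_true] at h
  exact Nat.eq_of_beq_eq_true (allN_apply (allN_apply h.2.1 hj) hk)

theorem blOk_surj {β : ℕ × ℕ × ℕ} (h : blOk β = true) {k : ℕ} (hk : k < 8) :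
    ∃ j, j < 8 ∧ bl β j = k := by
  rw [blOk, Bool.and_eq_true, Bool.and_eq_true] at h
  have h1 := allN_apply h.2.2 hk
  by_contra hcon
  push Not at hcon
  have h2 : (allN 8 fun j => !(Nat.beq (bl β j) k)) = true := by
    rw [allN_iff]
    intro j hj
    rw [Bool.not_eq_true', Bool.eq_false_iff]
    intro h3
    exact hcon j hj (Nat.eq_of_beq_eq_true h3)
  rw [h2] at h1
  exact absurd h1 (by decide)

theorem blOk_inj {β : ℕ × ℕ × ℕ} (h : blOk β = true) {j k : ℕ} (hj : j < 8) (hk : k < 8)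
    (he : bl β j = bl β k) : j = k := by
  classical
  have hs : Function.Surjective (fun i : Fin 8 => (⟨bl β i, blOk_lt h i.2⟩ : Fin 8)) := by
    intro i
    obtain ⟨l, hl, h1⟩ := blOk_surj h i.2
    exact ⟨⟨l, hl⟩, Fin.ext h1⟩
  have hi := Finite.injective_iff_surjective.2 hs
  have := @hi ⟨j, hj⟩ ⟨k, hk⟩ (Fin.ext he)
  exact congrArg Fin.val this

omit [Module (ZMod 2) V] in
theorem vec_full_sum (g : ℕ → V) : vec g 255 = ∑ k ∈ Finset.range 8, g k := by
  simp only [Finset.sum_range_succ, Finset.sum_range_zero, zero_add]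
  have h : ∀ i, i < 8 → bt 255 i = 1 := by decide
  simp only [vec, h 0 (by norm_num), h 1 (by norm_num), h 2 (by norm_num), h 3 (by norm_num),
    h 4 (by norm_num), h 5 (by norm_num), h 6 (by norm_num), h 7 (by norm_num), one_smul]
  abel

omit [Module (ZMod 2) V] in
theorem vec_full_bl {β : ℕ × ℕ × ℕ} (h : blOk β = true) (g : ℕ → V) :
    vec (fun k => g (bl β k)) 255 = vec g 255 := by
  rw [vec_full_sum, vec_full_sum]
  refine Finset.sum_nbij (bl β) ?_ ?_ ?_ ?_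
  · intro k hk
    exact Finset.mem_range.2 (blOk_lt h (Finset.mem_range.1 hk))
  · intro j hj k hk he
    exact blOk_inj h (Finset.mem_range.1 hj) (Finset.mem_range.1 hk) he
  · intro k hk
    obtain ⟨j, hj, he⟩ := blOk_surj h (Finset.mem_range.1 hk)
    exact ⟨j, Finset.mem_coe.2 (Finset.mem_range.2 hj), he⟩
  · intro k _; rfl

namespace PLab

variable {p r : V} {f : ℕ → (V ≃ₗ[ZMod 2] V)}

theorem relabel (L : PLab q b H a X p r f) {β : ℕ × ℕ × ℕ} (h : blOk β = true) :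
    PLab q b H a X p r (fun k => f (bl β k)) where
  fam := L.fam
  hp := L.hp
  hr := L.hr
  bpr := L.bpr
  mem k hk := L.mem _ (blOk_lt h hk)
  surj x hx := by
    obtain ⟨k, hk, he⟩ := L.surj x hx
    obtain ⟨j, hj, he'⟩ := blOk_surj h hk
    exact ⟨j, hj, by rw [he, he']⟩
  mul j hj k hk := by
    rw [blOk_add h hj hk, L.mul _ (blOk_lt h hj) _ (blOk_lt h hk)]
  norm v hv := by
    rw [vec_full_bl h (fun k => f k v)]
    exact L.norm v hv

/-- all linear bijections -/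
def allBl : List (ℕ × ℕ × ℕ) :=
  ((List.range 8).flatMap fun i => (List.range 8).flatMap fun j => (List.range 8).map fun k =>
    (i, j, k)).filter fun β => blOk β

/-- the type of the Gram matrix -/
theorem types : ∀ G, G < 256 → bt G 0 = 0 → par G = 1 →
    ∃ T ∈ [T0, T1, T2, T3, T4], ∃ β ∈ allBl, ∀ k, k < 8 → bt G (bl β k) = bt T.gm k := by
  have h : (allN 256 fun G => !(Nat.beq (bt G 0) 0) || (!(Nat.beq (par G) 1) ||
      [T0, T1, T2, T3, T4].any fun T => allBl.any fun β => allN 8 fun k =>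
        Nat.beq (bt G (bl β k)) (bt T.gm k))) = true := by decide +kernel
  intro G hG h0 h1
  have h2 := allN_apply h hG
  rw [h0, h1, show Nat.beq 0 0 = true from rfl, show Nat.beq 1 1 = true from rfl, Bool.not_true,
    Bool.false_or, Bool.false_or, List.any_eq_true] at h2
  obtain ⟨T, hT, h2⟩ := h2
  rw [List.any_eq_true] at h2
  obtain ⟨β, hβ, h2⟩ := h2
  exact ⟨T, hT, β, hβ, fun k hk => Nat.eq_of_beq_eq_true (allN_apply h2 hk)⟩

theorem ok_types {T : Tab} (hT : T ∈ [T0, T1, T2, T3, T4]) : T.okb = true := by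
  simp only [List.mem_cons, List.not_mem_nil, or_false] at hT
  rcases hT with rfl | rfl | rfl | rfl | rfl
  · exact ok0
  · exact ok1
  · exact ok2
  · exact ok3
  · exact ok4

theorem mask_aux {g0 g1 g2 g3 g4 g5 g6 g7 : ℕ} (h0 : g0 < 2) (h1 : g1 < 2) (h2 : g2 < 2) (h3 : g3 < 2)
    (h4 : g4 < 2) (h5 : g5 < 2) (h6 : g6 < 2) (h7 : g7 < 2) {G : ℕ}
    (hG : G = g0 + 2 * g1 + 4 * g2 + 8 * g3 + 16 * g4 + 32 * g5 + 64 * g6 + 128 * g7) :
    G < 256 ∧ G / 1 % 2 = g0 ∧ G / 2 % 2 = g1 ∧ G / 4 % 2 = g2 ∧ G / 8 % 2 = g3 ∧ G / 16 % 2 = g4 ∧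
    G / 32 % 2 = g5 ∧ G / 64 % 2 = g6 ∧ G / 128 % 2 = g7 := by
  omega

theorem exists_mask (g : ℕ → ℕ) (hg : ∀ k, g k < 2) :
    ∃ G, G < 256 ∧ ∀ k, k < 8 → bt G k = g k := by
  obtain ⟨k0, k1, k2, k3, k4, k5, k6, k7, k8⟩ :=
    mask_aux (hg 0) (hg 1) (hg 2) (hg 3) (hg 4) (hg 5) (hg 6) (hg 7) rfl
  refine ⟨_, k0, ?_⟩
  intro k hk
  rw [bt_eq, Nat.toNat_testBit]
  interval_cases k
  · exact k1
  · exact k2
  · exact k3
  · exact k4
  · exact k5
  · exact k6
  · exact k7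
  · exact k8

theorem exists_lab (L : PLab q b H a X p r f) :
    ∃ T ∈ [T0, T1, T2, T3, T4], ∃ f', Lab q b H a X T p r f' := by
  -- the mask of the Gram matrix
  obtain ⟨G, hG, hGk⟩ := exists_mask (fun k => (b r (f k r)).val) (fun k => ZMod.val_lt (b r (f k r)))
  have hgc : ∀ k, k < 8 → ((bt G k : ℕ) : ZMod 2) = b r (f k r) := fun k hk => by
    rw [hGk k hk]
    exact ZMod.natCast_zmod_val _
  have h0 : bt G 0 = 0 := by
    rw [hGk 0 (by norm_num)]
    show (b r (f 0 r)).val = 0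
    rw [L.f_zero]
    show (b r r).val = 0
    rw [L.fam.b_self]; rfl
  have h1 : par G = 1 := by
    have h2 : ((par G : ℕ) : ZMod 2) = 1 := by
      rw [par_eq hG]
      have h3 : b r (vec (fun k => f k r) 255) = 1 := by
        rw [L.vec_full, L.fam.b_comm]; exact L.bpr
      rw [map_vec] at h3
      refine Eq.trans ?_ h3
      rw [vec_zmod, vec_zmod]
      have h : ∀ i, i < 8 → bt 255 i = 1 := by decide
      simp only [hgc 0 (by norm_num), hgc 1 (by norm_num), hgc 2 (by norm_num), hgc 3 (by norm_num),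
        hgc 4 (by norm_num), hgc 5 (by norm_num), hgc 6 (by norm_num), hgc 7 (by norm_num),
        h 0 (by norm_num), h 1 (by norm_num), h 2 (by norm_num), h 3 (by norm_num),
        h 4 (by norm_num), h 5 (by norm_num), h 6 (by norm_num), h 7 (by norm_num)]
      ring
    rcases par_cases G with h4 | h4
    · rw [h4] at h2; exact absurd h2 (by decide)
    · exact h4
  obtain ⟨T, hT, β, hβ, hk⟩ := types G hG h0 h1
  have hβ' : blOk β = true := (List.mem_filter.1 hβ).2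
  refine ⟨T, hT, fun k => f (bl β k), { toPLab := L.relabel hβ', ok := ok_types hT, gram := ?_ }⟩
  intro k hk8
  rw [← hk k hk8]
  exact (hgc _ (blOk_lt hβ' hk8)).symm

end PLab

/-- the first numbering -/
theorem BFam.exists_lab (F : BFam q b H a X) : ∃ r, ∃ T ∈ [T0, T1, T2, T3, T4], ∃ f,
    Lab q b H a X T a r f := by
  obtain ⟨x, h1, h2, h3, h4⟩ := F.lab
  obtain ⟨h, hh, hb⟩ := F.opp
  refine ⟨h a, PLab.exists_lab (f := x) ?_⟩
  exact { fam := F, hp := ⟨1, H.one_mem, rfl⟩, hr := ⟨h, hh, rfl⟩, bpr := hb,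
          mem := fun k hk => (mem_XX_a F).2 (h1 k hk),
          surj := fun f hf => h2 f ((mem_XX_a F).1 hf), mul := h3, norm := h4 }

namespace Lab

variable {T : Tab} {p r : V} {f : ℕ → (V ≃ₗ[ZMod 2] V)}

theorem relabel (L : Lab q b H a X T p r f) {β : ℕ × ℕ × ℕ} (h : blOk β = true)
    (hg : ∀ k, k < 8 → bt T.gm (bl β k) = bt T.gm k) :
    Lab q b H a X T p r (fun k => f (bl β k)) where
  toPLab := L.toPLab.relabel h
  ok := L.ok
  gram k hk := by
    rw [← hg k hk]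
    exact L.gram _ (blOk_lt h hk)

end Lab

end Cfsg.Agent.LargeExtra.Enum9
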