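import Cfsg.Agent.LargeExtra.Enum9.Frame

/-!
# S1763, case II, type (B): soundness of the level 1 checker (helper268)
-/

set_option autoImplicit false

namespace Cfsg.Agent.LargeExtra.Enum9

variable {V : Type*} [AddCommGroup V] [Module (ZMod 2) V]
variable {q : V → ZMod 2} {b : LinearMap.BilinForm (ZMod 2) V}
  {H : Subgroup (V ≃ₗ[ZMod 2] V)} {a : V} {X : Subgroup (V ≃ₗ[ZMod 2] V)}

/-- the orbits of `X_{p₂}` detect a clash -/
theorem clash {p1 r1 p2 r2 : V} {f1 f2 : ℕ → (V ≃ₗ[ZMod 2] V)} (L1 : PLab q b H a X p1 r1 f1)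
    (L2 : PLab q b H a X p2 r2 f2) {U : V ≃ₗ[ZMod 2] V} (hU : U ∈ H) (hp : U p1 = p2) {k : ℕ}
    (hk : k < 8) {v : V} {n1 n2 : ℕ} (hn1 : n1 < 256) (hn2 : n2 < 256)
    (h1 : U v = vec (fun k => f2 k r2) n1) (h2 : U (f1 k v) = vec (fun k => f2 k r2) n2) :
    orb n1 = orb n2 := by
  have h3 := XX_conj hU (L1.mem k hk)
  rw [hp] at h3
  obtain ⟨l, hl, he⟩ := L2.surj _ h3
  have h4 : U (f1 k v) = f2 l (U v) := by
    rw [← he]
    show U (f1 k v) = U (f1 k (U⁻¹ (U v)))
    rw [inv_apply]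
  rw [h1, h2, L2.f_vec hl hn1] at h4
  have h5 := L2.vec_inj hn2 (px_lt hl hn1) h4
  rw [h5, orb_spec n1 hn1 l hl]

section words

variable {T : Tab} {p r : V} {x y : ℕ → (V ≃ₗ[ZMod 2] V)} {M : ℕ}

theorem lt_spec (L : Lab q b H a X T p r x) (L' : Lab q b H a X T r p y)
    (hM : ∀ k, k < 8 → y k p = vec (fun k => x k r) (col M k)) {l : ℕ} (hl : l < 16) :
    ∃ U ∈ H, ∀ t, t < 256 → U (vec (fun k => x k r) t) = vec (fun k => x k r) (T.lt M l t) ∧
      T.lt M l t < 256 := by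
  by_cases h8 : l < 8
  · refine ⟨x l, L.mem_H h8, fun t ht => ?_⟩
    have e : T.lt M l t = px l t := by
      rw [Tab.lt, show Nat.blt l 8 = true by rw [Nat.blt_eq]; exact h8]; rfl
    rw [e]
    exact ⟨L.f_vec h8 ht r, px_lt h8 ht⟩
  · have h8' : Nat.sub l 8 < 8 := by
      show l - 8 < 8
      omega
    refine ⟨y (Nat.sub l 8), L'.mem_H h8', fun t ht => ?_⟩
    have e : T.lt M l t = T.act M (Nat.sub l 8) t := by
      have : Nat.blt l 8 = false := by
        rw [Bool.eq_false_iff]; intro h; rw [Nat.blt_eq] at h; exact h8 h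
      rw [Tab.lt, this]; rfl
    rw [e]
    exact ⟨L.act_spec L' hM h8' ht, Lab.act_lt _ _ _ _⟩

theorem evw_spec (L : Lab q b H a X T p r x) (L' : Lab q b H a X T r p y)
    (hM : ∀ k, k < 8 → y k p = vec (fun k => x k r) (col M k)) (f : ℕ) : ∀ w : ℕ,
    ∃ U ∈ H, ∀ t, t < 256 → U (vec (fun k => x k r) t) = vec (fun k => x k r) (T.evw M f w t) ∧
      T.evw M f w t < 256 := by
  induction f with
  | zero => exact fun w => ⟨1, H.one_mem, fun t ht => ⟨rfl, ht⟩⟩
  | succ f ih =>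
    intro w
    by_cases hw : Nat.beq w 0 = true
    · refine ⟨1, H.one_mem, fun t ht => ?_⟩
      have e : T.evw M (f + 1) w t = t := by
        show (bif Nat.beq w 0 then t else _) = t
        rw [hw]; rfl
      rw [e]; exact ⟨rfl, ht⟩
    · have hw' : Nat.beq w 0 = false := Bool.eq_false_iff.2 hw
      obtain ⟨U1, hU1, h1⟩ := lt_spec L L' hM (l := Nat.land w 15)
        (lt_of_le_of_lt (Nat.and_le_right (n := w) (m := 15)) (by norm_num))
      obtain ⟨U2, hU2, h2⟩ := ih (Nat.shiftRight w 4)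
      refine ⟨U2 * U1, H.mul_mem hU2 hU1, fun t ht => ?_⟩
      have e : T.evw M (f + 1) w t = T.evw M f (Nat.shiftRight w 4) (T.lt M (Nat.land w 15) t) := by
        show (bif Nat.beq w 0 then t else fc (T.lt M (Nat.land w 15) t) fun s =>
          T.evw M f (Nat.shiftRight w 4) s) = _
        rw [hw', fc_eq]; rfl
      obtain ⟨k1, k2⟩ := h1 t ht
      obtain ⟨k3, k4⟩ := h2 _ k2
      rw [e]
      refine ⟨?_, k4⟩
      show U2 (U1 _) = _
      rw [k1, k3]

theorem conf_false (L : Lab q b H a X T p r x) (L' : Lab q b H a X T r p y)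
    (hM : ∀ k, k < 8 → y k p = vec (fun k => x k r) (col M k)) {W : ℕ} (h : T.conf M W = true) :
    False := by
  rw [Tab.conf] at h
  simp only [fc_eq] at h
  have ht : Nat.land W 255 < 256 :=
    lt_of_le_of_lt (Nat.and_le_right (n := W) (m := 255)) (by norm_num)
  have hk : Nat.land (Nat.shiftRight W 8) 7 < 8 :=
    lt_of_le_of_lt (Nat.and_le_right (n := Nat.shiftRight W 8) (m := 7)) (by norm_num)
  revert h ht hk
  generalize Nat.land W 255 = t, Nat.land (Nat.shiftRight W 8) 7 = k, bt W 11 = p0, bt W 12 = p1,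
    Nat.shiftRight W 13 = w
  intro h ht hk
  rw [Bool.and_eq_true] at h
  obtain ⟨h1, h2⟩ := h
  have h1 := Nat.eq_of_beq_eq_true h1
  obtain ⟨U, hU, hw⟩ := evw_spec L L' hM 4 w
  have hpt : ∀ c : ℕ, ∃ p1 r1 f1, PLab q b H a X p1 r1 f1 ∧
      vec (fun k => x k r) (bif Nat.beq c 0 then 255 else 1) = p1 ∧
      (bif Nat.beq c 0 then 255 else 1) < 256 ∧
      (∀ k, k < 8 → ∀ t, t < 256 → f1 k (vec (fun k => x k r) t) =
        vec (fun k => x k r) (bif Nat.beq c 0 then px k t else T.act M k t) ∧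
        (bif Nat.beq c 0 then px k t else T.act M k t) < 256) ∧
      (∀ t, t < 256 → vec (fun k => f1 k r1) (bif Nat.beq c 0 then t else T.crd M t) =
        vec (fun k => x k r) t ∧ (bif Nat.beq c 0 then t else T.crd M t) < 256) := by
    intro c
    cases Nat.beq c 0
    · exact ⟨r, p, y, L'.toPLab, L.vec_one, by decide, fun k hk t ht =>
        ⟨L.act_spec L' hM hk ht, Lab.act_lt _ _ _ _⟩, fun t ht => ⟨L.crd_spec L' hM ht,
        Lab.crd_lt _ _ _⟩⟩
    · exact ⟨p, r, x, L.toPLab, L.vec_full, by decide, fun k hk t ht =>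
        ⟨L.f_vec hk ht r, px_lt hk ht⟩, fun t ht => ⟨rfl, ht⟩⟩
  obtain ⟨P, R, f1, L1, hP, hlt, ha, -⟩ := hpt p0
  obtain ⟨P', R', f2, L2, hP', hlt', -, hc⟩ := hpt p1
  have hUP : U P = P' := by
    rw [← hP, (hw _ hlt).1, h1, hP']
  obtain ⟨a1, a2⟩ := ha k hk t ht
  obtain ⟨b1, b2⟩ := hw t ht
  obtain ⟨c1, c2⟩ := hw _ a2
  obtain ⟨d1, d2⟩ := hc _ b2
  obtain ⟨e1, e2⟩ := hc _ c2
  have h3 := clash L1 L2 hU hUP hk (v := vec (fun k => x k r) t) d2 e2 (by rw [b1, d1])
    (by rw [a1, c1, e1])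
  rw [h3] at h2
  revert h2
  generalize orb _ = s
  intro h2
  rw [Nat.beq_refl] at h2
  exact absurd h2 (by decide)

end words

/-! ### masks and nested certificates -/

theorem bt_shiftLeft_one {n h : ℕ} (hne : n ≠ h) : bt (Nat.shiftLeft 1 h) n = 0 := by
  rw [bt_eq]
  show ((1 <<< h).testBit n).toNat = 0
  rw [Nat.one_shiftLeft, Nat.testBit_two_pow_of_ne (Ne.symm hne)]; rfl

theorem zipF_spec {α : Type} (f : ℕ → α → Bool) : ∀ (as : List (ℕ × α)) (mask : ℕ),
    zipF f mask as = true → ∀ n, bt mask n = 1 → ∃ c, (n, c) ∈ as ∧ f n c = true := by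
  intro as
  induction as with
  | nil =>
    intro mask h n hn
    have : mask = 0 := Nat.eq_of_beq_eq_true h
    rw [this, bt_eq] at hn
    simp at hn
  | cons x as ih =>
    obtain ⟨h0, c⟩ := x
    intro mask h n hn
    have h' : (Nat.beq (bt mask h0) 1 && (f h0 c &&
      fc (Nat.xor mask (Nat.shiftLeft 1 h0)) fun m => zipF f m as)) = true := h
    rw [Bool.and_eq_true, Bool.and_eq_true, fc_eq] at h'
    by_cases hne : n = h0
    · subst hne
      exact ⟨c, List.mem_cons_self, h'.2.1⟩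
    · have h2 : bt (Nat.xor mask (Nat.shiftLeft 1 h0)) n = 1 := by
        rw [bt_xor, bt_shiftLeft_one hne, hn]
      obtain ⟨c', h3, h4⟩ := ih _ h'.2.2 n h2
      exact ⟨c', List.mem_cons_of_mem _ h3, h4⟩

theorem bt_row (R m n : ℕ) : bt (row R m) n = (bt m 0 * bt (word R 0) n + bt m 1 * bt (word R 1) n +
    bt m 2 * bt (word R 2) n + bt m 3 * bt (word R 3) n + bt m 4 * bt (word R 4) n +
    bt m 5 * bt (word R 5) n + bt m 6 * bt (word R 6) n + bt m 7 * bt (word R 7) n) % 2 := by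
  rw [row]
  simp only [bt_xor, bt_mul_bt]
  omega

theorem bt_row_eq {T : Tab} (h : T.okb = true) {m n : ℕ} (hm : m < 256) (hn : n < 256) :
    bt (row T.rp m) n = T.B m n := by
  rw [bt_row, Tab.word_rp h hn (by norm_num), Tab.word_rp h hn (by norm_num),
    Tab.word_rp h hn (by norm_num), Tab.word_rp h hn (by norm_num), Tab.word_rp h hn (by norm_num),
    Tab.word_rp h hn (by norm_num), Tab.word_rp h hn (by norm_num), Tab.word_rp h hn (by norm_num),
    Tab.B, par_spec _ (land_lt hm)]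
  simp only [bt_land]

theorem bt_ones {n : ℕ} (hn : n < 256) :
    bt 0xffffffffffffffffffffffffffffffffffffffffffffffffffffffffffffffff n = 1 := by
  rw [bt_eq, show (0xffffffffffffffffffffffffffffffffffffffffffffffffffffffffffffffff : ℕ) =
    2 ^ 256 - 1 by norm_num, Nat.testBit_two_pow_sub_one]
  simp [hn]

theorem bt_msk {T : Tab} (h : T.okb = true) {d m n : ℕ} (hm : m < 256) (hn : n < 256)
    (hB : T.B m n = bt T.gm d) : bt (T.msk d m) n = 1 := by
  rw [Tab.msk, bt_xor, bt_row_eq h hm hn, hB]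
  rcases bt_cases T.gm d with h1 | h1 <;> rw [h1]
  · have : Nat.mul (Nat.sub 1 0) 0xffffffffffffffffffffffffffffffffffffffffffffffffffffffffffffffff =
      0xffffffffffffffffffffffffffffffffffffffffffffffffffffffffffffffff := by decide
    rw [this, bt_ones hn]
  · have : Nat.mul (Nat.sub 1 1) 0xffffffffffffffffffffffffffffffffffffffffffffffffffffffffffffffff =
      0 := by decide
    rw [this, bt_eq 0]; simp

theorem bt_base {T : Tab} (h : T.okb = true) {k n : ℕ} (hn : n < 256) (hq : bt T.q n = 0)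
    (hb : T.B n 1 = 1) (hp : par n = bt T.gm k) : bt (T.base k) n = 1 := by
  rw [Tab.base]
  rcases bt_cases T.gm k with h1 | h1
  · rw [h1] at hp
    rw [h1, show Nat.beq 0 0 = true from rfl, cond_true, Tab.l0_spec h hn, hq, hb, hp]
    rfl
  · rw [h1] at hp
    rw [h1, show Nat.beq 1 0 = false from rfl, cond_false, Tab.l1_spec h hn, hq, hb, hp]
    rfl

theorem bt_clr {mask l n : ℕ} (hl : l ≤ n) (h : bt mask n = 1) : bt (clr mask l) n = 1 := by
  rw [clr, bt_eq]
  rw [bt_eq] at h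
  show ((mask >>> l <<< l).testBit n).toNat = 1
  rw [Nat.testBit_shiftLeft, Nat.testBit_shiftRight, Nat.add_sub_cancel' hl]
  have : decide (n ≥ l) = true := decide_eq_true hl
  rw [this, Bool.true_and]
  exact h

end Cfsg.Agent.LargeExtra.Enum9
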