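import Cfsg.Agent.LargeExtra.Enum9.Data2

/-!
# S1763, case II, type (B): the result of the enumeration (helper268)
-/

set_option autoImplicit false

namespace Cfsg.Agent.LargeExtra.Enum9

variable {V : Type*} [AddCommGroup V] [Module (ZMod 2) V]
variable {q : V → ZMod 2} {b : LinearMap.BilinForm (ZMod 2) V}
  {H : Subgroup (V ≃ₗ[ZMod 2] V)} {a : V} {X : Subgroup (V ≃ₗ[ZMod 2] V)}

/-- level 1 for a form -/
def Lev (q : V → ZMod 2) (b : LinearMap.BilinForm (ZMod 2) V)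
    (H : Subgroup (V ≃ₗ[ZMod 2] V)) (a : V) (X : Subgroup (V ≃ₗ[ZMod 2] V)) (T : Tab)
    (S : List ℕ) : Prop :=
  ∀ (p r : V) (x : ℕ → (V ≃ₗ[ZMod 2] V)), Lab q b H a X T p r x →
      ∃ y M, M ∈ S ∧ Lab q b H a X T r p y ∧ ∀ k, k < 8 → y k p = vec (fun k => x k r) (col M k)

theorem lev0 : Lev q b H a X T0 sv0 := fun _ _ _ L => level1_0 L
theorem lev1 : Lev q b H a X T1 sv1 := fun _ _ _ L => level1_1 L
theorem lev2 : Lev q b H a X T2 sv2 := fun _ _ _ L => level1_2 L
theorem lev4 : Lev q b H a X T4 sv4 := fun _ _ _ L => level1_4 L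

/-- the first pair -/
theorem Lab.pair {T : Tab} {S : List ℕ} (hS : Lev q b H a X T S) {r : V} {x : ℕ → (V ≃ₗ[ZMod 2] V)}
    (L : Lab q b H a X T a r x) : ∃ M ∈ S, ∃ y, PairM q b H a X T M r x y := by
  obtain ⟨y, M, hM, L', h⟩ := hS a r x L
  exact ⟨M, hM, y, ⟨L, L', h⟩⟩

namespace PairM

variable {T : Tab} {M : ℕ} {r : V} {x y : ℕ → (V ≃ₗ[ZMod 2] V)} {S : List ℕ}

theorem exc (P : PairM q b H a X T M r x y) (hS : Lev q b H a X T S) {v : ℕ} (hv : v < 256)
    (hpar : par v = 1) (hO : vec (fun k => x k r) v ∈ Orb H a) {E : List ℕ} {c : List (ℕ × ℕ)}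
    (hd : T.dead M v E S c = true) : ∃ M' ∈ E, ∃ z,
      PairM q b H a X T M' (vec (fun k => x k r) v) x z ∧
      ∀ k, k < 8 → z k a = vec (fun k => x k r) (conv (col M' k) v) := by
  obtain ⟨M', z, hM', P', hz⟩ := P.third (fun L => hS _ _ _ L) hv hpar hO
  exact ⟨M', P.dead_spec hv hd hM' P' hz, z, P', hz⟩

theorem dead0 (P : PairM q b H a X T M r x y) (hS : Lev q b H a X T S) {v : ℕ} (hv : v < 256)
    (hpar : par v = 1) (hO : vec (fun k => x k r) v ∈ Orb H a) {c : List (ℕ × ℕ)}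
    (hd : T.dead M v [] S c = true) : False := by
  obtain ⟨M', h, -⟩ := P.exc hS hv hpar hO hd
  exact absurd h List.not_mem_nil

theorem next (P : PairM q b H a X T M r x y) (hS : Lev q b H a X T S) {v : ℕ} (hv : v < 256)
    (hpar : par v = 1) (hO : vec (fun k => x k r) v ∈ Orb H a) {M' : ℕ} {c : List (ℕ × ℕ)}
    (hd : T.dead M v [M'] S c = true) : ∃ z, PairM q b H a X T M' (vec (fun k => x k r) v) x z ∧
      ∀ k, k < 8 → z k a = vec (fun k => x k r) (conv (col M' k) v) := by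
  obtain ⟨M1, h, h1⟩ := P.exc hS hv hpar hO hd
  rw [List.mem_singleton] at h
  rw [h] at h1
  exact h1

/-- the three groups of an exceptional triple -/
theorem nextThree (P : PairM q b H a X T M r x y) (hS : Lev q b H a X T S) {v : ℕ} (hv : v < 256)
    (hpar : par v = 1) (hO : vec (fun k => x k r) v ∈ Orb H a) {M' : ℕ} {c : List (ℕ × ℕ)}
    (hd : T.dead M v [M'] S c = true) {N : ℕ}
    (hN : (allN 8 fun k => Nat.beq (col N k) (conv (col M' k) v)) = true) :
    Three q b H a X T (fun k => x k r) idM M N v := by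
  obtain ⟨z, P', hz⟩ := P.next hS hv hpar hO hd
  refine P.three hv P' fun k hk => ?_
  rw [hz k hk, Nat.eq_of_beq_eq_true (allN_apply hN hk)]

theorem jump (P : PairM q b H a X T M r x y) (hS : Lev q b H a X T S) {v : ℕ} (hv : v < 256)
    (hpar : par v = 1) (hO : vec (fun k => x k r) v ∈ Orb H a) {M' : ℕ} {c : List (ℕ × ℕ)}
    (hd : T.dead M v [M'] S c = true) {N : ℕ}
    (hN : (allN 8 fun k => Nat.beq (col N k) (conv (col M' k) v)) = true) (f w P' : ℕ)
    (hw : Nat.beq (T.evw3 idM M N f w 255) P' = true) : vec (fun k => x k r) P' ∈ Orb H a :=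
  (P.nextThree hS hv hpar hO hd hN).move P.L f w hw

theorem res (P : PairM q b H a X T M r x y) (hS : Lev q b H a X T S) {LM D : List ℕ}
    (hD : closedOk T LM D = true) (hd : ∀ u ∈ D, ∃ c, T.dead M u [] S c = true) :
    Res q b H a X T M LM r x y := by
  refine ⟨P, P.closed hD fun u hu hu2 hpar hO => ?_⟩
  obtain ⟨c, hc⟩ := hd u hu
  exact P.dead0 hS hu2 hpar hO hc

end PairM

end Cfsg.Agent.LargeExtra.Enum9
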