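import Cfsg.Agent.LargeExtra.Enum9.Level1
import Cfsg.Agent.LargeExtra.Enum9.Cert0
import Cfsg.Agent.LargeExtra.Enum9.Cert1
import Cfsg.Agent.LargeExtra.Enum9.Cert2
import Cfsg.Agent.LargeExtra.Enum9.Cert3
import Cfsg.Agent.LargeExtra.Enum9.Cert4

/-!
# S1763, case II, type (B): level 1, the five forms (helper268)
-/

set_option autoImplicit false
set_option maxRecDepth 100000

namespace Cfsg.Agent.LargeExtra.Enum9

variable {V : Type*} [AddCommGroup V] [Module (ZMod 2) V]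
variable {q : V → ZMod 2} {b : LinearMap.BilinForm (ZMod 2) V}
  {H : Subgroup (V ≃ₗ[ZMod 2] V)} {a : V} {X : Subgroup (V ≃ₗ[ZMod 2] V)}

/-- the automorphisms of the form T0 -/
def au0 : List (ℕ × ℕ × ℕ) := [(1, 2, 4), (1, 2, 5), (1, 2, 6), (1, 2, 7), (1, 3, 4), (1, 3, 5), (1, 3, 6), (1, 3, 7), (1, 4, 2), (1, 4, 3), (1, 4, 6), (1, 4, 7), (1, 5, 2), (1, 5, 3), (1, 5, 6), (1, 5, 7), (1, 6, 2), (1, 6, 3), (1, 6, 4), (1, 6, 5), (1, 7, 2), (1, 7, 3), (1, 7, 4), (1, 7, 5)]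

theorem autOk0 : autOk T0 lo0 au0 = true := by decide +kernel

theorem mem_base0 : ∀ n, bt (T0.base 1) n = 1 → n ∈ [2, 22, 26, 31, 38, 42, 47, 55, 59, 62, 70, 74, 79, 82, 98, 115, 134, 138, 143, 146, 162, 179, 199, 203, 206, 211, 227, 242] := by
  intro n hn
  obtain ⟨c, h, -⟩ := zipF_spec (fun _ (_ : Unit) => true) [(2, ()), (22, ()), (26, ()), (31, ()), (38, ()), (42, ()), (47, ()), (55, ()), (59, ()), (62, ()), (70, ()), (74, ()), (79, ()), (82, ()), (98, ()), (115, ()), (134, ()), (138, ()), (143, ()), (146, ()), (162, ()), (179, ()), (199, ()), (203, ()), (206, ()), (211, ()), (227, ()), (242, ())] (T0.base 1) (by decide +kernel) n hn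
  have := List.mem_map_of_mem (f := Prod.fst) h
  exact this

theorem chk0 : ∀ m1, bt (T0.base 1) m1 = 1 → ∃ c, T0.chk1 sv0 lo0 m1 c = true := by
  intro m1 h
  have h1 := mem_base0 m1 h
  simp only [List.mem_cons, List.not_mem_nil, or_false] at h1
  rcases h1 with rfl | rfl | rfl | rfl | rfl | rfl | rfl | rfl | rfl | rfl | rfl | rfl | rfl | rfl | rfl | rfl | rfl | rfl | rfl | rfl | rfl | rfl | rfl | rfl | rfl | rfl | rfl | rfl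
  · exact ⟨_, ct0_2⟩
  · exact ⟨_, ct0_22⟩
  · exact ⟨_, ct0_26⟩
  · exact ⟨_, ct0_31⟩
  · exact ⟨_, ct0_38⟩
  · exact ⟨_, ct0_42⟩
  · exact ⟨_, ct0_47⟩
  · exact ⟨_, ct0_55⟩
  · exact ⟨_, ct0_59⟩
  · exact ⟨_, ct0_62⟩
  · exact ⟨_, ct0_70⟩
  · exact ⟨_, ct0_74⟩
  · exact ⟨_, ct0_79⟩
  · exact ⟨_, ct0_82⟩
  · exact ⟨_, ct0_98⟩
  · exact ⟨_, ct0_115⟩
  · exact ⟨_, ct0_134⟩
  · exact ⟨_, ct0_138⟩
  · exact ⟨_, ct0_143⟩
  · exact ⟨_, ct0_146⟩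
  · exact ⟨_, ct0_162⟩
  · exact ⟨_, ct0_179⟩
  · exact ⟨_, ct0_199⟩
  · exact ⟨_, ct0_203⟩
  · exact ⟨_, ct0_206⟩
  · exact ⟨_, ct0_211⟩
  · exact ⟨_, ct0_227⟩
  · exact ⟨_, ct0_242⟩

/-- level 1 for the form T0 -/
theorem level1_0 {p r : V} {x : ℕ → (V ≃ₗ[ZMod 2] V)} (L : Lab q b H a X T0 p r x) :
    ∃ y M, M ∈ sv0 ∧ Lab q b H a X T0 r p y ∧
      ∀ k, k < 8 → y k p = vec (fun k => x k r) (col M k) :=
  level1 autOk0 chk0 L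

/-- the automorphisms of the form T1 -/
def au1 : List (ℕ × ℕ × ℕ) := [(1, 2, 4), (1, 2, 5), (1, 2, 6), (1, 2, 7), (1, 3, 4), (1, 3, 5), (1, 3, 6), (1, 3, 7), (2, 1, 4), (2, 1, 5), (2, 1, 6), (2, 1, 7), (2, 3, 4), (2, 3, 5), (2, 3, 6), (2, 3, 7), (3, 1, 4), (3, 1, 5), (3, 1, 6), (3, 1, 7), (3, 2, 4), (3, 2, 5), (3, 2, 6), (3, 2, 7)]

theorem autOk1 : autOk T1 lo1 au1 = true := by decide +kernel

theorem mem_base1 : ∀ n, bt (T1.base 1) n = 1 → n ∈ [2, 4, 8, 31, 47, 62, 79, 94, 110, 115, 117, 121, 143, 158, 174, 179, 181, 185, 206, 211, 213, 217, 227, 229, 233, 242, 244, 248] := by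
  intro n hn
  obtain ⟨c, h, -⟩ := zipF_spec (fun _ (_ : Unit) => true) [(2, ()), (4, ()), (8, ()), (31, ()), (47, ()), (62, ()), (79, ()), (94, ()), (110, ()), (115, ()), (117, ()), (121, ()), (143, ()), (158, ()), (174, ()), (179, ()), (181, ()), (185, ()), (206, ()), (211, ()), (213, ()), (217, ()), (227, ()), (229, ()), (233, ()), (242, ()), (244, ()), (248, ())] (T1.base 1) (by decide +kernel) n hn
  have := List.mem_map_of_mem (f := Prod.fst) h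
  exact this

theorem chk1 : ∀ m1, bt (T1.base 1) m1 = 1 → ∃ c, T1.chk1 sv1 lo1 m1 c = true := by
  intro m1 h
  have h1 := mem_base1 m1 h
  simp only [List.mem_cons, List.not_mem_nil, or_false] at h1
  rcases h1 with rfl | rfl | rfl | rfl | rfl | rfl | rfl | rfl | rfl | rfl | rfl | rfl | rfl | rfl | rfl | rfl | rfl | rfl | rfl | rfl | rfl | rfl | rfl | rfl | rfl | rfl | rfl | rfl
  · exact ⟨_, ct1_2⟩
  · exact ⟨_, ct1_4⟩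
  · exact ⟨_, ct1_8⟩
  · exact ⟨_, ct1_31⟩
  · exact ⟨_, ct1_47⟩
  · exact ⟨_, ct1_62⟩
  · exact ⟨_, ct1_79⟩
  · exact ⟨_, ct1_94⟩
  · exact ⟨_, ct1_110⟩
  · exact ⟨_, ct1_115⟩
  · exact ⟨_, ct1_117⟩
  · exact ⟨_, ct1_121⟩
  · exact ⟨_, ct1_143⟩
  · exact ⟨_, ct1_158⟩
  · exact ⟨_, ct1_174⟩
  · exact ⟨_, ct1_179⟩
  · exact ⟨_, ct1_181⟩
  · exact ⟨_, ct1_185⟩
  · exact ⟨_, ct1_206⟩
  · exact ⟨_, ct1_211⟩
  · exact ⟨_, ct1_213⟩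
  · exact ⟨_, ct1_217⟩
  · exact ⟨_, ct1_227⟩
  · exact ⟨_, ct1_229⟩
  · exact ⟨_, ct1_233⟩
  · exact ⟨_, ct1_242⟩
  · exact ⟨_, ct1_244⟩
  · exact ⟨_, ct1_248⟩

/-- level 1 for the form T1 -/
theorem level1_1 {p r : V} {x : ℕ → (V ≃ₗ[ZMod 2] V)} (L : Lab q b H a X T1 p r x) :
    ∃ y M, M ∈ sv1 ∧ Lab q b H a X T1 r p y ∧
      ∀ k, k < 8 → y k p = vec (fun k => x k r) (col M k) :=
  level1 autOk1 chk1 L

/-- the automorphisms of the form T2 -/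
def au2 : List (ℕ × ℕ × ℕ) := [(1, 2, 4), (1, 4, 2), (2, 1, 4), (2, 4, 1), (4, 1, 2), (4, 2, 1)]

theorem autOk2 : autOk T2 lo2 au2 = true := by decide +kernel

theorem mem_base2 : ∀ n, bt (T2.base 1) n = 1 → n ∈ [2, 4, 11, 13, 16, 22, 35, 42, 49, 62, 69, 76, 81, 94, 112, 118, 138, 140, 162, 173, 176, 185, 196, 203, 208, 217, 227, 229] := by
  intro n hn
  obtain ⟨c, h, -⟩ := zipF_spec (fun _ (_ : Unit) => true) [(2, ()), (4, ()), (11, ()), (13, ()), (16, ()), (22, ()), (35, ()), (42, ()), (49, ()), (62, ()), (69, ()), (76, ()), (81, ()), (94, ()), (112, ()), (118, ()), (138, ()), (140, ()), (162, ()), (173, ()), (176, ()), (185, ()), (196, ()), (203, ()), (208, ()), (217, ()), (227, ()), (229, ())] (T2.base 1) (by decide +kernel) n hn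
  have := List.mem_map_of_mem (f := Prod.fst) h
  exact this

theorem chk2 : ∀ m1, bt (T2.base 1) m1 = 1 → ∃ c, T2.chk1 sv2 lo2 m1 c = true := by
  intro m1 h
  have h1 := mem_base2 m1 h
  simp only [List.mem_cons, List.not_mem_nil, or_false] at h1
  rcases h1 with rfl | rfl | rfl | rfl | rfl | rfl | rfl | rfl | rfl | rfl | rfl | rfl | rfl | rfl | rfl | rfl | rfl | rfl | rfl | rfl | rfl | rfl | rfl | rfl | rfl | rfl | rfl | rfl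
  · exact ⟨_, ct2_2⟩
  · exact ⟨_, ct2_4⟩
  · exact ⟨_, ct2_11⟩
  · exact ⟨_, ct2_13⟩
  · exact ⟨_, ct2_16⟩
  · exact ⟨_, ct2_22⟩
  · exact ⟨_, ct2_35⟩
  · exact ⟨_, ct2_42⟩
  · exact ⟨_, ct2_49⟩
  · exact ⟨_, ct2_62⟩
  · exact ⟨_, ct2_69⟩
  · exact ⟨_, ct2_76⟩
  · exact ⟨_, ct2_81⟩
  · exact ⟨_, ct2_94⟩
  · exact ⟨_, ct2_112⟩
  · exact ⟨_, ct2_118⟩
  · exact ⟨_, ct2_138⟩
  · exact ⟨_, ct2_140⟩
  · exact ⟨_, ct2_162⟩
  · exact ⟨_, ct2_173⟩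
  · exact ⟨_, ct2_176⟩
  · exact ⟨_, ct2_185⟩
  · exact ⟨_, ct2_196⟩
  · exact ⟨_, ct2_203⟩
  · exact ⟨_, ct2_208⟩
  · exact ⟨_, ct2_217⟩
  · exact ⟨_, ct2_227⟩
  · exact ⟨_, ct2_229⟩

/-- level 1 for the form T2 -/
theorem level1_2 {p r : V} {x : ℕ → (V ≃ₗ[ZMod 2] V)} (L : Lab q b H a X T2 p r x) :
    ∃ y M, M ∈ sv2 ∧ Lab q b H a X T2 r p y ∧
      ∀ k, k < 8 → y k p = vec (fun k => x k r) (col M k) :=
  level1 autOk2 chk2 L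

/-- the automorphisms of the form T3 -/
def au3 : List (ℕ × ℕ × ℕ) := [(1, 2, 4), (1, 2, 5), (1, 3, 4), (1, 3, 5), (1, 4, 2), (1, 4, 3), (1, 5, 2), (1, 5, 3)]

theorem autOk3 : autOk T3 lo3 au3 = true := by decide +kernel

theorem mem_base3 : ∀ n, bt (T3.base 1) n = 1 → n ∈ [2, 4, 8, 16, 22, 26, 32, 38, 42, 62, 69, 73, 79, 81, 97, 115, 133, 137, 143, 145, 161, 179, 206, 220, 236, 242, 244, 248] := by
  intro n hn
  obtain ⟨c, h, -⟩ := zipF_spec (fun _ (_ : Unit) => true) [(2, ()), (4, ()), (8, ()), (16, ()), (22, ()), (26, ()), (32, ()), (38, ()), (42, ()), (62, ()), (69, ()), (73, ()), (79, ()), (81, ()), (97, ()), (115, ()), (133, ()), (137, ()), (143, ()), (145, ()), (161, ()), (179, ()), (206, ()), (220, ()), (236, ()), (242, ()), (244, ()), (248, ())] (T3.base 1) (by decide +kernel) n hn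
  have := List.mem_map_of_mem (f := Prod.fst) h
  exact this

theorem chk3 : ∀ m1, bt (T3.base 1) m1 = 1 → ∃ c, T3.chk1 sv3 lo3 m1 c = true := by
  intro m1 h
  have h1 := mem_base3 m1 h
  simp only [List.mem_cons, List.not_mem_nil, or_false] at h1
  rcases h1 with rfl | rfl | rfl | rfl | rfl | rfl | rfl | rfl | rfl | rfl | rfl | rfl | rfl | rfl | rfl | rfl | rfl | rfl | rfl | rfl | rfl | rfl | rfl | rfl | rfl | rfl | rfl | rfl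
  · exact ⟨_, ct3_2⟩
  · exact ⟨_, ct3_4⟩
  · exact ⟨_, ct3_8⟩
  · exact ⟨_, ct3_16⟩
  · exact ⟨_, ct3_22⟩
  · exact ⟨_, ct3_26⟩
  · exact ⟨_, ct3_32⟩
  · exact ⟨_, ct3_38⟩
  · exact ⟨_, ct3_42⟩
  · exact ⟨_, ct3_62⟩
  · exact ⟨_, ct3_69⟩
  · exact ⟨_, ct3_73⟩
  · exact ⟨_, ct3_79⟩
  · exact ⟨_, ct3_81⟩
  · exact ⟨_, ct3_97⟩
  · exact ⟨_, ct3_115⟩
  · exact ⟨_, ct3_133⟩
  · exact ⟨_, ct3_137⟩
  · exact ⟨_, ct3_143⟩
  · exact ⟨_, ct3_145⟩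
  · exact ⟨_, ct3_161⟩
  · exact ⟨_, ct3_179⟩
  · exact ⟨_, ct3_206⟩
  · exact ⟨_, ct3_220⟩
  · exact ⟨_, ct3_236⟩
  · exact ⟨_, ct3_242⟩
  · exact ⟨_, ct3_244⟩
  · exact ⟨_, ct3_248⟩

/-- level 1 for the form T3 -/
theorem level1_3 {p r : V} {x : ℕ → (V ≃ₗ[ZMod 2] V)} (L : Lab q b H a X T3 p r x) :
    ∃ y M, M ∈ sv3 ∧ Lab q b H a X T3 r p y ∧
      ∀ k, k < 8 → y k p = vec (fun k => x k r) (col M k) :=
  level1 autOk3 chk3 L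

/-- the automorphisms of the form T4 -/
def au4 : List (ℕ × ℕ × ℕ) := [(1, 2, 4), (1, 2, 5), (1, 2, 6), (1, 2, 7), (1, 3, 4), (1, 3, 5), (1, 3, 6), (1, 3, 7), (1, 4, 2), (1, 4, 3), (1, 4, 6), (1, 4, 7), (1, 5, 2), (1, 5, 3), (1, 5, 6), (1, 5, 7), (1, 6, 2), (1, 6, 3), (1, 6, 4), (1, 6, 5), (1, 7, 2), (1, 7, 3), (1, 7, 4), (1, 7, 5), (2, 1, 4), (2, 1, 5), (2, 1, 6), (2, 1, 7), (2, 3, 4), (2, 3, 5), (2, 3, 6), (2, 3, 7), (2, 4, 1), (2, 4, 3), (2, 4, 5), (2, 4, 7), (2, 5, 1), (2, 5, 3), (2, 5, 4), (2, 5, 6), (2, 6, 1), (2, 6, 3), (2, 6, 5), (2, 6, 7), (2, 7, 1), (2, 7, 3), (2, 7, 4), (2, 7, 6), (3, 1, 4), (3, 1, 5), (3, 1, 6), (3, 1, 7), (3, 2, 4), (3, 2, 5), (3, 2, 6), (3, 2, 7), (3, 4, 1), (3, 4, 2), (3, 4, 5), (3, 4, 6), (3, 5, 1), (3, 5, 2), (3, 5, 4), (3, 5, 7), (3, 6, 1), (3, 6, 2), (3, 6, 4), (3, 6, 7), (3, 7, 1), (3, 7, 2), (3,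 7, 5), (3, 7, 6), (4, 1, 2), (4, 1, 3), (4, 1, 6), (4, 1, 7), (4, 2, 1), (4, 2, 3), (4, 2, 5), (4, 2, 7), (4, 3, 1), (4, 3, 2), (4, 3, 5), (4, 3, 6), (4, 5, 2), (4, 5, 3), (4, 5, 6), (4, 5, 7), (4, 6, 1), (4, 6, 3), (4, 6, 5), (4, 6, 7), (4, 7, 1), (4, 7, 2), (4, 7, 5), (4, 7, 6), (5, 1, 2), (5, 1, 3), (5, 1, 6), (5, 1, 7), (5, 2, 1), (5, 2, 3), (5, 2, 4), (5, 2, 6), (5, 3, 1), (5, 3, 2), (5, 3, 4), (5, 3, 7), (5, 4, 2), (5, 4, 3), (5, 4, 6), (5, 4, 7), (5, 6, 1), (5, 6, 2), (5, 6, 4), (5, 6, 7), (5, 7, 1), (5, 7, 3), (5, 7, 4), (5, 7, 6), (6, 1, 2), (6, 1, 3), (6, 1, 4), (6, 1, 5), (6, 2, 1), (6, 2, 3), (6, 2, 5), (6, 2, 7), (6, 3, 1), (6, 3, 2), (6, 3, 4), (6, 3, 7), (6, 4, 1), (6, 4, 3), (6, 4, 5), (6, 4, 7), (6, 5, 1), (6, 5, 2), (6, 5, 4), (6, 5, 7), (6, 7, 2), (6, 7, 3), (6, 7, 4), (6, 7, 5), (7, 1, 2), (7, 1, 3), (7, 1, 4),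 (7, 1, 5), (7, 2, 1), (7, 2, 3), (7, 2, 4), (7, 2, 6), (7, 3, 1), (7, 3, 2), (7, 3, 5), (7, 3, 6), (7, 4, 1), (7, 4, 2), (7, 4, 5), (7, 4, 6), (7, 5, 1), (7, 5, 3), (7, 5, 4), (7, 5, 6), (7, 6, 2), (7, 6, 3), (7, 6, 4), (7, 6, 5)]

theorem autOk4 : autOk T4 lo4 au4 = true := by decide +kernel

theorem mem_base4 : ∀ n, bt (T4.base 1) n = 1 → n ∈ [2, 4, 8, 16, 32, 62, 64, 94, 110, 118, 122, 124, 128, 158, 174, 182, 186, 188, 206, 214, 218, 220, 230, 234, 236, 242, 244, 248] := by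
  intro n hn
  obtain ⟨c, h, -⟩ := zipF_spec (fun _ (_ : Unit) => true) [(2, ()), (4, ()), (8, ()), (16, ()), (32, ()), (62, ()), (64, ()), (94, ()), (110, ()), (118, ()), (122, ()), (124, ()), (128, ()), (158, ()), (174, ()), (182, ()), (186, ()), (188, ()), (206, ()), (214, ()), (218, ()), (220, ()), (230, ()), (234, ()), (236, ()), (242, ()), (244, ()), (248, ())] (T4.base 1) (by decide +kernel) n hn
  have := List.mem_map_of_mem (f := Prod.fst) h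
  exact this

theorem chk4 : ∀ m1, bt (T4.base 1) m1 = 1 → ∃ c, T4.chk1 sv4 lo4 m1 c = true := by
  intro m1 h
  have h1 := mem_base4 m1 h
  simp only [List.mem_cons, List.not_mem_nil, or_false] at h1
  rcases h1 with rfl | rfl | rfl | rfl | rfl | rfl | rfl | rfl | rfl | rfl | rfl | rfl | rfl | rfl | rfl | rfl | rfl | rfl | rfl | rfl | rfl | rfl | rfl | rfl | rfl | rfl | rfl | rfl
  · exact ⟨_, ct4_2⟩
  · exact ⟨_, ct4_4⟩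
  · exact ⟨_, ct4_8⟩
  · exact ⟨_, ct4_16⟩
  · exact ⟨_, ct4_32⟩
  · exact ⟨_, ct4_62⟩
  · exact ⟨_, ct4_64⟩
  · exact ⟨_, ct4_94⟩
  · exact ⟨_, ct4_110⟩
  · exact ⟨_, ct4_118⟩
  · exact ⟨_, ct4_122⟩
  · exact ⟨_, ct4_124⟩
  · exact ⟨_, ct4_128⟩
  · exact ⟨_, ct4_158⟩
  · exact ⟨_, ct4_174⟩
  · exact ⟨_, ct4_182⟩
  · exact ⟨_, ct4_186⟩
  · exact ⟨_, ct4_188⟩
  · exact ⟨_, ct4_206⟩
  · exact ⟨_, ct4_214⟩
  · exact ⟨_, ct4_218⟩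
  · exact ⟨_, ct4_220⟩
  · exact ⟨_, ct4_230⟩
  · exact ⟨_, ct4_234⟩
  · exact ⟨_, ct4_236⟩
  · exact ⟨_, ct4_242⟩
  · exact ⟨_, ct4_244⟩
  · exact ⟨_, ct4_248⟩

/-- level 1 for the form T4 -/
theorem level1_4 {p r : V} {x : ℕ → (V ≃ₗ[ZMod 2] V)} (L : Lab q b H a X T4 p r x) :
    ∃ y M, M ∈ sv4 ∧ Lab q b H a X T4 r p y ∧
      ∀ k, k < 8 → y k p = vec (fun k => x k r) (col M k) :=
  level1 autOk4 chk4 L

/-- the form T3 does not occur -/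
theorem not_T3 {p r : V} {x : ℕ → (V ≃ₗ[ZMod 2] V)} (L : Lab q b H a X T3 p r x) : False := by
  obtain ⟨y, M, hM, -⟩ := level1_3 L
  simp [sv3] at hM

end Cfsg.Agent.LargeExtra.Enum9
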