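import Cfsg.Agent.LargeExtra.Enum9.Check

/-!
# S1763, case II, type (B): vectors of codes (helper268)
-/

set_option autoImplicit false

namespace Cfsg.Agent.LargeExtra.Enum9

variable {V : Type*} [AddCommGroup V] [Module (ZMod 2) V]

omit [Module (ZMod 2) V] in
theorem bt_eq (n i : ℕ) : bt n i = (n.testBit i).toNat := by
  rw [Nat.toNat_testBit]
  show (n >>> i) &&& 1 = _
  rw [Nat.and_one_is_mod, Nat.shiftRight_eq_div_pow]

theorem bt_cases (n i : ℕ) : bt n i = 0 ∨ bt n i = 1 := by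
  rw [bt_eq]; cases n.testBit i <;> simp

theorem bt_xor (n m i : ℕ) : bt (Nat.xor n m) i = (bt n i + bt m i) % 2 := by
  rw [bt_eq, bt_eq, bt_eq]
  show ((n ^^^ m).testBit i).toNat = _
  rw [Nat.testBit_xor]
  cases n.testBit i <;> cases m.testBit i <;> rfl

theorem bt_land (n m i : ℕ) : bt (Nat.land n m) i = bt n i * bt m i := by
  rw [bt_eq, bt_eq, bt_eq]
  show ((n &&& m).testBit i).toNat = _
  rw [Nat.testBit_and]
  cases n.testBit i <;> cases m.testBit i <;> rfl

theorem bt_mul_bt (n i m j : ℕ) : bt (Nat.mul (bt n i) m) j = bt n i * bt m j := by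
  rcases bt_cases n i with h | h <;> rw [h]
  · show bt (0 * m) j = _
    rw [zero_mul, zero_mul, bt_eq]; simp
  · show bt (1 * m) j = _
    rw [one_mul, one_mul]

theorem add_self (v : V) : v + v = 0 := by
  have : (2 : ZMod 2) • v = 0 := by rw [show (2 : ZMod 2) = 0 from rfl, zero_smul]
  rwa [two_smul] at this

theorem bt_xor_smul (n m i : ℕ) (v : V) : bt (Nat.xor n m) i • v = bt n i • v + bt m i • v := by
  rw [bt_xor]
  rcases bt_cases n i with h | h <;> rcases bt_cases m i with h' | h' <;> rw [h, h'] <;> simp [add_self]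

/-- vector of a code -/
def vec (e : ℕ → V) (n : ℕ) : V :=
  bt n 0 • e 0 + (bt n 1 • e 1 + (bt n 2 • e 2 + (bt n 3 • e 3 + (bt n 4 • e 4 +
    (bt n 5 • e 5 + (bt n 6 • e 6 + bt n 7 • e 7))))))

theorem vec_xor (e : ℕ → V) (n m : ℕ) : vec e (Nat.xor n m) = vec e n + vec e m := by
  simp only [vec, bt_xor_smul]
  abel

omit [Module (ZMod 2) V] in
theorem vec_zero (e : ℕ → V) : vec e 0 = 0 := by
  have h : ∀ i, bt 0 i = 0 := fun i => by rw [bt_eq]; simp
  simp only [vec, h, zero_smul, add_zero]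

omit [Module (ZMod 2) V] in
theorem vec_mul (e : ℕ → V) (n k m : ℕ) : vec e (Nat.mul (bt n k) m) = bt n k • vec e m := by
  rcases bt_cases n k with h | h <;> rw [h]
  · show vec e (0 * m) = _
    rw [zero_mul, zero_smul, vec_zero]
  · show vec e (1 * m) = _
    rw [one_mul, one_smul]

theorem vec_lin (e : ℕ → V) (M n : ℕ) : vec e (lin M n) = vec (fun k => vec e (col M k)) n := by
  rw [lin]
  simp only [vec_xor, vec_mul]
  rfl

omit [Module (ZMod 2) V] in
theorem vec_congr {e e' : ℕ → V} (h : ∀ k, k < 8 → e k = e' k) (n : ℕ) : vec e n = vec e' n := by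
  simp only [vec, h 0 (by norm_num), h 1 (by norm_num), h 2 (by norm_num), h 3 (by norm_num),
    h 4 (by norm_num), h 5 (by norm_num), h 6 (by norm_num), h 7 (by norm_num)]

omit [Module (ZMod 2) V] in
theorem vec_two_pow (e : ℕ → V) {i : ℕ} (hi : i < 8) : vec e (Nat.shiftLeft 1 i) = e i := by
  have h : ∀ i, i < 8 → ∀ j, j < 8 → bt (Nat.shiftLeft 1 i) j = if j = i then 1 else 0 := by decide
  simp only [vec, h i hi 0 (by norm_num), h i hi 1 (by norm_num), h i hi 2 (by norm_num),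
    h i hi 3 (by norm_num), h i hi 4 (by norm_num), h i hi 5 (by norm_num), h i hi 6 (by norm_num),
    h i hi 7 (by norm_num)]
  interval_cases i <;> simp

omit [Module (ZMod 2) V] in
theorem map_vec {W F : Type*} [AddCommGroup W] [FunLike F V W] [AddMonoidHomClass F V W] (f : F)
    (e : ℕ → V) (n : ℕ) : f (vec e n) = vec (fun k => f (e k)) n := by
  simp only [vec, map_add, map_nsmul]

omit [Module (ZMod 2) V] in
theorem vec_px (e : ℕ → V) {j : ℕ} (hj : j < 8) {n : ℕ} (hn : n < 256) :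
    vec (fun k => e (Nat.xor j k)) n = vec e (px j n) := by
  obtain ⟨-, h⟩ := px_spec n hn j hj
  simp only [vec, h 0 (by norm_num), h 1 (by norm_num), h 2 (by norm_num), h 3 (by norm_num),
    h 4 (by norm_num), h 5 (by norm_num), h 6 (by norm_num), h 7 (by norm_num)]
  have x : ∀ a b c : ℕ, (h : a ^^^ b = c) → Nat.xor a b = c := fun _ _ _ h => h
  interval_cases j
  · simp only [Nat.xor_zero, Nat.zero_xor, show ∀ a : ℕ, Nat.xor a 0 = a from Nat.xor_zero,
      show ∀ a : ℕ, Nat.xor 0 a = a from Nat.zero_xor]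
  all_goals
    simp only [show Nat.xor 1 0 = 1 from rfl, show Nat.xor 1 1 = 0 from rfl, show Nat.xor 1 2 = 3 from rfl,
      show Nat.xor 1 3 = 2 from rfl, show Nat.xor 1 4 = 5 from rfl, show Nat.xor 1 5 = 4 from rfl,
      show Nat.xor 1 6 = 7 from rfl, show Nat.xor 1 7 = 6 from rfl,
      show Nat.xor 2 0 = 2 from rfl, show Nat.xor 2 1 = 3 from rfl, show Nat.xor 2 2 = 0 from rfl,
      show Nat.xor 2 3 = 1 from rfl, show Nat.xor 2 4 = 6 from rfl, show Nat.xor 2 5 = 7 from rfl,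
      show Nat.xor 2 6 = 4 from rfl, show Nat.xor 2 7 = 5 from rfl,
      show Nat.xor 3 0 = 3 from rfl, show Nat.xor 3 1 = 2 from rfl, show Nat.xor 3 2 = 1 from rfl,
      show Nat.xor 3 3 = 0 from rfl, show Nat.xor 3 4 = 7 from rfl, show Nat.xor 3 5 = 6 from rfl,
      show Nat.xor 3 6 = 5 from rfl, show Nat.xor 3 7 = 4 from rfl,
      show Nat.xor 4 0 = 4 from rfl, show Nat.xor 4 1 = 5 from rfl, show Nat.xor 4 2 = 6 from rfl,
      show Nat.xor 4 3 = 7 from rfl, show Nat.xor 4 4 = 0 from rfl, show Nat.xor 4 5 = 1 from rfl,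
      show Nat.xor 4 6 = 2 from rfl, show Nat.xor 4 7 = 3 from rfl,
      show Nat.xor 5 0 = 5 from rfl, show Nat.xor 5 1 = 4 from rfl, show Nat.xor 5 2 = 7 from rfl,
      show Nat.xor 5 3 = 6 from rfl, show Nat.xor 5 4 = 1 from rfl, show Nat.xor 5 5 = 0 from rfl,
      show Nat.xor 5 6 = 3 from rfl, show Nat.xor 5 7 = 2 from rfl,
      show Nat.xor 6 0 = 6 from rfl, show Nat.xor 6 1 = 7 from rfl, show Nat.xor 6 2 = 4 from rfl,
      show Nat.xor 6 3 = 5 from rfl, show Nat.xor 6 4 = 2 from rfl, show Nat.xor 6 5 = 3 from rfl,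
      show Nat.xor 6 6 = 0 from rfl, show Nat.xor 6 7 = 1 from rfl,
      show Nat.xor 7 0 = 7 from rfl, show Nat.xor 7 1 = 6 from rfl, show Nat.xor 7 2 = 5 from rfl,
      show Nat.xor 7 3 = 4 from rfl, show Nat.xor 7 4 = 3 from rfl, show Nat.xor 7 5 = 2 from rfl,
      show Nat.xor 7 6 = 1 from rfl, show Nat.xor 7 7 = 0 from rfl,
      show Nat.xor 0 1 = 1 from rfl, show Nat.xor 0 2 = 2 from rfl, show Nat.xor 0 3 = 3 from rfl,
      show Nat.xor 0 4 = 4 from rfl, show Nat.xor 0 5 = 5 from rfl, show Nat.xor 0 6 = 6 from rfl,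
      show Nat.xor 0 7 = 7 from rfl]
    abel

/-- linear combinations of numbers -/
theorem vec_zmod (c : ℕ → ZMod 2) (n : ℕ) : vec c n = (bt n 0 : ZMod 2) * c 0 + ((bt n 1 : ZMod 2) * c 1 +
    ((bt n 2 : ZMod 2) * c 2 + ((bt n 3 : ZMod 2) * c 3 + ((bt n 4 : ZMod 2) * c 4 +
    ((bt n 5 : ZMod 2) * c 5 + ((bt n 6 : ZMod 2) * c 6 + (bt n 7 : ZMod 2) * c 7)))))) := by
  simp only [vec, nsmul_eq_mul]

theorem land_lt {n m : ℕ} (hn : n < 256) : Nat.land n m < 256 :=
  lt_of_le_of_lt (Nat.and_le_left (n := n) (m := m)) hn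

/-- `par (n ∧ s)` as a bilinear expression -/
theorem par_land {n : ℕ} (hn : n < 256) (s : ℕ) :
    ((par (Nat.land n s) : ℕ) : ZMod 2) = vec (fun k => (bt s k : ZMod 2)) n := by
  rw [par_spec _ (land_lt hn), vec_zmod]
  simp only [bt_land]
  rw [ZMod.natCast_mod]
  push_cast
  ring

theorem par_eq {n : ℕ} (hn : n < 256) : ((par n : ℕ) : ZMod 2) = vec (fun _ => (1 : ZMod 2)) n := by
  rw [par_spec _ hn, vec_zmod, ZMod.natCast_mod]
  push_cast
  ring

theorem par_cases (n : ℕ) : par n = 0 ∨ par n = 1 := bt_cases _ _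

theorem xor_lt {n m : ℕ} (hn : n < 256) (hm : m < 256) : Nat.xor n m < 256 :=
  Nat.xor_lt_two_pow (n := 8) hn hm

theorem col_lt (M k : ℕ) : col M k < 256 :=
  lt_of_le_of_lt (Nat.and_le_right (n := Nat.shiftRight M (Nat.mul 8 k)) (m := 255)) (by norm_num)

theorem mul_bt_lt {n k m : ℕ} (hm : m < 256) : Nat.mul (bt n k) m < 256 := by
  rcases bt_cases n k with h | h <;> rw [h]
  · show 0 * m < 256
    omega
  · show 1 * m < 256
    omega

theorem lin_lt (M n : ℕ) : lin M n < 256 := by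
  rw [lin]
  have h : ∀ k, Nat.mul (bt n k) (col M k) < 256 := fun k => mul_bt_lt (col_lt M k)
  exact xor_lt (h 0) (xor_lt (h 1) (xor_lt (h 2) (xor_lt (h 3) (xor_lt (h 4) (xor_lt (h 5)
    (xor_lt (h 6) (h 7)))))))

theorem px_lt {j n : ℕ} (hj : j < 8) (hn : n < 256) : px j n < 256 := (px_spec n hn j hj).1

/-- induction on codes -/
theorem code_induction {P : ℕ → Prop} (h0 : P 0)
    (h1 : ∀ n, n < 256 → ∀ i, i < 8 → P n → P (Nat.xor n (Nat.shiftLeft 1 i))) :
    ∀ n, n < 256 → P n := by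
  intro n
  induction n using Nat.strong_induction_on with
  | _ n ih =>
    intro hn
    by_cases hz : n = 0
    · rw [hz]; exact h0
    · obtain ⟨k1, k2, k3⟩ := top_spec n hn hz
      have k4 := h1 _ (k2.trans hn) _ k1 (ih _ k2 (k2.trans hn))
      rwa [k3] at k4

end Cfsg.Agent.LargeExtra.Enum9
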